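import Mathlib

/-!
Counting functions with a prescribed total weight: coefficients of a product of polynomials, read
off from the value of the product at a large number.
-/

set_option autoImplicit false

namespace Cfsg.Agent.Lib.Helper28

open Polynomial

theorem coeff_le_eval_one (Q : ℕ[X]) (n : ℕ) : Q.coeff n ≤ Q.eval 1 := by
  rw [Polynomial.eval_eq_sum_range]
  simp only [one_pow, mul_one]
  by_cases hn : n ∈ Finset.range (Q.natDegree + 1)
  · exact Finset.single_le_sum (f := fun i => Q.coeff i) (fun _ _ => Nat.zero_le _) hn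
  · rw [Finset.mem_range, not_lt] at hn
    rw [Polynomial.coeff_eq_zero_of_natDegree_lt (by omega)]
    exact Nat.zero_le _

theorem eval_divX (Q : ℕ[X]) (B : ℕ) : Q.eval B = (Q.divX).eval B * B + Q.coeff 0 := by
  conv_lhs => rw [← Polynomial.divX_mul_X_add Q]
  simp

/-- the coefficients of a polynomial are the digits of its value at a large number. -/
theorem coeff_eq_digit (Q : ℕ[X]) (B : ℕ) (hB : Q.eval 1 < B) (n : ℕ) :
    Q.coeff n = Q.eval B / B ^ n % B := by
  induction n generalizing Q with
  | zero =>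
    rw [pow_zero, Nat.div_one, eval_divX Q B, Nat.mul_add_mod_of_lt]
    exact lt_of_le_of_lt (coeff_le_eval_one Q 0) hB
  | succ n ih =>
    have h1 : (Q.divX).eval 1 < B := by
      have := eval_divX Q 1
      omega
    have h0 : Q.coeff 0 < B := lt_of_le_of_lt (coeff_le_eval_one Q 0) hB
    have hBpos : 0 < B := by omega
    rw [← Polynomial.coeff_divX, ih _ h1, pow_succ', ← Nat.div_div_eq_div_mul]
    congr 2
    rw [eval_divX Q B]
    rw [Nat.add_div_of_dvd_right (Dvd.intro_left _ rfl), Nat.mul_div_cancel _ hBpos,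
      Nat.div_eq_of_lt h0, add_zero]

variable {ι : Type*} [Fintype ι] [DecidableEq ι]

/-- the number of functions with values in prescribed sets and given total weight. -/
theorem card_filter_piFinset_eq_coeff (V : ι → Finset ℤ) (g : ι → ℤ → ℕ) (n : ℕ) :
    ((Fintype.piFinset V).filter fun x => ∑ i, g i (x i) = n).card
      = (∏ i, ∑ v ∈ V i, (X : ℕ[X]) ^ g i v).coeff n := by
  rw [Finset.prod_univ_sum, Polynomial.finsetSum_coeff]
  simp only [Finset.prod_pow_eq_pow_sum, Polynomial.coeff_X_pow]
  rw [Finset.card_filter]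
  refine Finset.sum_congr rfl fun x _ => ?_
  by_cases h : ∑ i, g i (x i) = n
  · simp [h]
  · simp [h, Ne.symm h]

theorem card_filter_mem_eq_sum {α : Type*} (s : Finset α) (φ : α → ℕ) (T : Finset ℕ) :
    (s.filter fun x => φ x ∈ T).card = ∑ t ∈ T, (s.filter fun x => φ x = t).card := by
  rw [Finset.card_eq_sum_card_fiberwise (f := φ) (t := T)]
  · refine Finset.sum_congr rfl fun t ht => ?_
    congr 1
    ext x
    simp only [Finset.mem_filter]
    constructor
    · rintro ⟨⟨h1, _⟩, h3⟩; exact ⟨h1, h3⟩
    · rintro ⟨h1, h3⟩; exact ⟨⟨h1, h3 ▸ ht⟩, h3⟩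
  · intro x hx
    simp only [Finset.coe_filter, Set.mem_ofPred_eq] at hx
    exact hx.2

end Cfsg.Agent.Lib.Helper28
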