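import Mathlib
import Cfsg.Prelude.Def_Sporadic_a

/-!
Bitmask model of `Finset GolayPt`: a subset of the 24 points is a natural number below `2 ^ 24`
(bit `x` for the residue `x`, bit `23` for the extra point).
-/

set_option autoImplicit false

namespace Cfsg.Agent.Lib.Helper28

open Cfsg

/-- index of a point: the residue `x` has index `x`, the extra point has index 23. -/
def idx : GolayPt → ℕ
  | none => 23
  | some x => x.val

/-- the point of index `i` (the extra point for `i ≥ 23`). -/
def ptOf (i : ℕ) : GolayPt := if i < 23 then some (i : ZMod 23) else none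

theorem idx_lt (p : GolayPt) : idx p < 24 := by
  cases p with
  | none => decide
  | some x => exact lt_trans (ZMod.val_lt x) (by decide)

theorem ptOf_idx (p : GolayPt) : ptOf (idx p) = p := by
  cases p with
  | none => simp [idx, ptOf]
  | some x =>
    have h : x.val < 23 := ZMod.val_lt x
    simp [idx, ptOf, h]

theorem idx_ptOf {i : ℕ} (h : i < 24) : idx (ptOf i) = i := by
  unfold ptOf
  split_ifs with h1
  · simp [idx, ZMod.val_natCast, Nat.mod_eq_of_lt h1]
  · simp only [idx]; omega

theorem idx_injective : Function.Injective idx := fun p q h => by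
  rw [← ptOf_idx p, ← ptOf_idx q, h]

theorem idx_inj {p q : GolayPt} : idx p = idx q ↔ p = q := idx_injective.eq_iff

/-- the bitmask of a set of points. -/
def mk (s : Finset GolayPt) : ℕ := Nat.ofBits fun i : Fin 24 => decide (ptOf i ∈ s)

/-- the set of points of a bitmask. -/
def un (m : ℕ) : Finset GolayPt := Finset.univ.filter fun p => m.testBit (idx p) = true

theorem mk_lt (s : Finset GolayPt) : mk s < 2 ^ 24 := Nat.ofBits_lt_two_pow _

theorem testBit_mk (s : Finset GolayPt) (i : ℕ) :
    (mk s).testBit i = (decide (i < 24) && decide (ptOf i ∈ s)) := by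
  unfold mk
  rw [Nat.testBit_ofBits]
  split_ifs with h <;> simp [h]

theorem testBit_mk_idx (s : Finset GolayPt) (p : GolayPt) :
    (mk s).testBit (idx p) = decide (p ∈ s) := by
  rw [testBit_mk, ptOf_idx]; simp [idx_lt]

theorem mem_un {m : ℕ} {p : GolayPt} : p ∈ un m ↔ m.testBit (idx p) = true := by
  simp [un]

theorem un_mk (s : Finset GolayPt) : un (mk s) = s := by
  ext p; rw [mem_un, testBit_mk_idx]; simp

theorem mk_un {m : ℕ} (h : m < 2 ^ 24) : mk (un m) = m := by
  apply Nat.eq_of_testBit_eq
  intro i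
  rw [testBit_mk]
  by_cases hi : i < 24
  · simp only [hi, decide_true, Bool.true_and, mem_un, idx_ptOf hi]
    cases m.testBit i <;> simp
  · have : m < 2 ^ i := lt_of_lt_of_le h (Nat.pow_le_pow_right (by decide) (by omega))
    simp [hi, Nat.testBit_lt_two_pow this]

theorem mk_injective : Function.Injective mk := fun s t h => by
  rw [← un_mk s, ← un_mk t, h]

theorem mk_inj {s t : Finset GolayPt} : mk s = mk t ↔ s = t := mk_injective.eq_iff

theorem eq_un_iff {s : Finset GolayPt} {m : ℕ} (h : m < 2 ^ 24) : s = un m ↔ mk s = m := by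
  constructor
  · rintro rfl; exact mk_un h
  · rintro rfl; exact (un_mk s).symm

theorem mk_empty : mk ∅ = 0 := by
  apply Nat.eq_of_testBit_eq; intro i; simp [testBit_mk]

theorem mk_univ : mk Finset.univ = 16777215 := by
  apply Nat.eq_of_testBit_eq; intro i
  rw [testBit_mk, show (16777215 : ℕ) = 2 ^ 24 - 1 by norm_num, Nat.testBit_two_pow_sub_one]
  simp

theorem mk_inter (s t : Finset GolayPt) : mk (s ∩ t) = mk s &&& mk t := by
  apply Nat.eq_of_testBit_eq; intro i
  simp only [testBit_mk, Nat.testBit_land, Finset.mem_inter, Bool.decide_and]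
  cases decide (i < 24) <;> simp

theorem mk_union (s t : Finset GolayPt) : mk (s ∪ t) = mk s ||| mk t := by
  apply Nat.eq_of_testBit_eq; intro i
  simp only [testBit_mk, Nat.testBit_lor, Finset.mem_union, Bool.decide_or]
  cases decide (i < 24) <;> simp

theorem mk_symmDiff (s t : Finset GolayPt) : mk (symmDiff s t) = mk s ^^^ mk t := by
  apply Nat.eq_of_testBit_eq; intro i
  simp only [testBit_mk, Nat.testBit_xor, Finset.mem_symmDiff]
  by_cases h1 : ptOf i ∈ s <;> by_cases h2 : ptOf i ∈ t <;> cases decide (i < 24) <;> simp [h1, h2]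

theorem mk_sdiff (s t : Finset GolayPt) : mk (s \ t) = mk s ^^^ (mk s &&& mk t) := by
  apply Nat.eq_of_testBit_eq; intro i
  simp only [testBit_mk, Nat.testBit_xor, Nat.testBit_land, Finset.mem_sdiff]
  by_cases h1 : ptOf i ∈ s <;> by_cases h2 : ptOf i ∈ t <;> cases decide (i < 24) <;> simp [h1, h2]

theorem mk_singleton (p : GolayPt) : mk {p} = 2 ^ idx p := by
  apply Nat.eq_of_testBit_eq; intro i
  rw [testBit_mk, Nat.testBit_two_pow]
  by_cases h : idx p = i
  · subst h; simp [idx_lt, ptOf_idx]
  · have : ¬ (i < 24 ∧ ptOf i = p) := by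
      rintro ⟨h1, h2⟩; apply h; rw [← h2, idx_ptOf h1]
    simp only [Finset.mem_singleton, h, decide_false]
    by_cases h1 : i < 24
    · have h2 : ptOf i ≠ p := fun h2 => this ⟨h1, h2⟩
      simp [h2]
    · simp [h1]

theorem un_xor (m n : ℕ) : un (m ^^^ n) = symmDiff (un m) (un n) := by
  ext p
  simp only [mem_un, Nat.testBit_xor, Finset.mem_symmDiff]
  cases m.testBit (idx p) <;> cases n.testBit (idx p) <;> simp

theorem un_land (m n : ℕ) : un (m &&& n) = un m ∩ un n := by
  ext p
  simp only [mem_un, Nat.testBit_land, Finset.mem_inter, Bool.and_eq_true]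

theorem un_lor (m n : ℕ) : un (m ||| n) = un m ∪ un n := by
  ext p
  simp only [mem_un, Nat.testBit_lor, Finset.mem_union, Bool.or_eq_true]

theorem un_zero : un 0 = ∅ := by
  ext p; simp [mem_un]

theorem subset_iff_land {s t : Finset GolayPt} : s ⊆ t ↔ mk s &&& mk t = mk s := by
  rw [← mk_inter, mk_inj, Finset.inter_eq_left]

theorem disjoint_iff_land {s t : Finset GolayPt} : Disjoint s t ↔ mk s &&& mk t = 0 := by
  rw [← mk_inter, ← mk_empty, mk_inj, Finset.disjoint_iff_inter_eq_empty]

theorem mem_iff_testBit {s : Finset GolayPt} {p : GolayPt} : p ∈ s ↔ (mk s).testBit (idx p) = true := by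
  rw [testBit_mk_idx]; simp

/-- number of one bits among the lowest 24 bits. -/
def popc (m : ℕ) : ℕ :=
  m % 2 + m / 2 % 2 + m / 4 % 2 + m / 8 % 2 + m / 16 % 2 + m / 32 % 2 + m / 64 % 2 + m / 128 % 2 +
  m / 256 % 2 + m / 512 % 2 + m / 1024 % 2 + m / 2048 % 2 + m / 4096 % 2 + m / 8192 % 2 +
  m / 16384 % 2 + m / 32768 % 2 + m / 65536 % 2 + m / 131072 % 2 + m / 262144 % 2 +
  m / 524288 % 2 + m / 1048576 % 2 + m / 2097152 % 2 + m / 4194304 % 2 + m / 8388608 % 2

theorem popc_eq_sum (m : ℕ) : popc m = ∑ i ∈ Finset.range 24, (m.testBit i).toNat := by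
  simp only [Nat.toNat_testBit, Finset.sum_range_succ, Finset.sum_range_zero, popc]
  norm_num

theorem card_un (m : ℕ) : (un m).card = popc m := by
  rw [popc_eq_sum]
  have h1 : (un m).card = ((Finset.range 24).filter fun i => m.testBit i = true).card := by
    apply Finset.card_bij (fun p _ => idx p)
    · intro p hp
      simp only [Finset.mem_filter, Finset.mem_range]
      exact ⟨idx_lt p, mem_un.1 hp⟩
    · intro p _ q _ h; exact idx_injective h
    · intro i hi
      simp only [Finset.mem_filter, Finset.mem_range] at hi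
      exact ⟨ptOf i, mem_un.2 (by rw [idx_ptOf hi.1]; exact hi.2), idx_ptOf hi.1⟩
  rw [h1, Finset.card_filter]
  apply Finset.sum_congr rfl
  intro i _
  cases m.testBit i <;> simp

theorem card_eq_popc (s : Finset GolayPt) : s.card = popc (mk s) := by
  rw [← card_un, un_mk]

end Cfsg.Agent.Lib.Helper28
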