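import Cfsg.Agent.Lib.Helper28.GolayPerm

/-!
Generic tools for stabilizer chains inside `Cfsg.M24`: fixed-point propagation through octads, transversal
checks, and the orbit-stabilizer counting step.
-/

set_option autoImplicit false

namespace Cfsg.Agent.Lib.Helper28

open Cfsg
open scoped Pointwise

/-- `g` fixes every point of the mask `F`. -/
def FixesMask (g : Equiv.Perm GolayPt) (F : ℕ) : Prop := ∀ p ∈ un F, g p = p

/-- `m` is the mask of an octad. -/
def isOct (m : ℕ) : Bool := isCode m && popc m == 8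

theorem isOct_iff {m : ℕ} : isOct m = true ↔ isCode m = true ∧ popc m = 8 := by
  simp [isOct]

theorem un_mem_octads {m : ℕ} (h : isOct m = true) : un m ∈ octads := by
  rw [isOct_iff] at h
  rw [mem_octads_iff, mk_un (isCode_lt h.1)]; exact h

theorem mem_octads_iff_isOct (s : Finset GolayPt) : s ∈ octads ↔ isOct (mk s) = true := by
  rw [mem_octads_iff, isOct_iff]

/-- an octad with five fixed points is invariant. -/
theorem smul_un_eq_of_fixes {g : Equiv.Perm GolayPt} (hg : g ∈ M24) {F X : ℕ} (hF : FixesMask g F)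
    (hX : isOct X = true) (h5 : 5 ≤ popc (X &&& F)) : g • un X = un X := by
  have ho := un_mem_octads hX
  have ho' := smul_mem_octads hg ho
  rw [mem_octads_iff] at ho ho'
  by_contra hne
  have hne' : mk (g • un X) ≠ mk (un X) := fun h => hne (mk_injective h)
  have h4 := popc_land_le_four ho'.1 ho.1 ho'.2 ho.2 hne'
  rw [← mk_inter, ← card_eq_popc] at h4
  rw [← card_un, un_land] at h5
  have hsub : un X ∩ un F ⊆ g • un X ∩ un X := by
    intro p hp
    rw [Finset.mem_inter] at hp ⊢
    refine ⟨?_, hp.1⟩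
    have := (mem_smul_finset_iff g (un X) p).2 hp.1
    rwa [hF p hp.2] at this
  have := Finset.card_le_card hsub
  omega

theorem fixes_of_inv {g : Equiv.Perm GolayPt} {F X Y q : ℕ} (hF : FixesMask g F)
    (hX : g • un X = un X) (hY : g • un Y = un Y)
    (hq : (X &&& Y) ^^^ (X &&& Y &&& F) = 2 ^ q) (hq24 : q < 24) : g (ptOf q) = ptOf q := by
  have key : ∀ p : GolayPt, (p ∈ un X ∧ p ∈ un Y ∧ p ∉ un F) ↔ p = ptOf q := by
    intro p
    have h1 : ((X &&& Y) ^^^ (X &&& Y &&& F)).testBit (idx p) = (2 ^ q).testBit (idx p) := by rw [hq]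
    rw [Nat.testBit_two_pow] at h1
    simp only [Nat.testBit_xor, Nat.testBit_land] at h1
    simp only [mem_un]
    have h2 : (q = idx p) ↔ p = ptOf q := by
      constructor
      · intro h; rw [h, ptOf_idx]
      · intro h; rw [h, idx_ptOf hq24]
    rw [← h2]
    by_cases h3 : q = idx p
    · simp only [h3, decide_true] at h1 ⊢
      revert h1
      cases X.testBit (idx p) <;> cases Y.testBit (idx p) <;> cases F.testBit (idx p) <;> simp
    · simp only [h3, decide_false] at h1 ⊢
      revert h1
      cases X.testBit (idx p) <;> cases Y.testBit (idx p) <;> cases F.testBit (idx p) <;> simp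
  obtain ⟨h1, h2, h3⟩ := (key (ptOf q)).2 rfl
  apply (key _).1
  refine ⟨?_, ?_, ?_⟩
  · rw [← hX]; exact (mem_smul_finset_iff g _ _).2 h1
  · rw [← hY]; exact (mem_smul_finset_iff g _ _).2 h2
  · intro h
    have := hF _ h
    exact h3 (g.injective this ▸ h)

/-- certificate checker: starting from the fixed points `F`, each step `(X, Y, q)` gives two octads with five
known fixed points whose common points outside `F` are just `q`; at the end all points are fixed. -/
def fixCheck : List (ℕ × ℕ × ℕ) → ℕ → Bool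
  | [], F => F == 16777215
  | (X, Y, q) :: l, F =>
    isOct X && isOct Y && decide (5 ≤ popc (X &&& F)) && decide (5 ≤ popc (Y &&& F)) &&
      ((X &&& Y) ^^^ (X &&& Y &&& F) == 2 ^ q) && decide (q < 24) && fixCheck l (F ||| 2 ^ q)

theorem eq_one_of_fixCheck (l : List (ℕ × ℕ × ℕ)) (F : ℕ) (h : fixCheck l F = true)
    {g : Equiv.Perm GolayPt} (hg : g ∈ M24) (hF : FixesMask g F) : g = 1 := by
  induction l generalizing F with
  | nil =>
    have hF' : F = 16777215 := by simpa [fixCheck] using h
    ext p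
    have : p ∈ un F := by
      rw [hF', ← mk_univ, un_mk]; exact Finset.mem_univ p
    simp [hF p this]
  | cons s l ih =>
    obtain ⟨X, Y, q⟩ := s
    simp only [fixCheck, Bool.and_eq_true, decide_eq_true_eq, beq_iff_eq] at h
    obtain ⟨⟨⟨⟨⟨⟨hX, hY⟩, h5⟩, h5'⟩, hq⟩, hq24⟩, hl⟩ := h
    apply ih _ hl
    intro p hp
    rw [un_lor, Finset.mem_union] at hp
    rcases hp with hp | hp
    · exact hF p hp
    · have : p = ptOf q := by
        rw [mem_un, Nat.testBit_two_pow] at hp
        have : q = idx p := by simpa using hp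
        rw [this, ptOf_idx]
      rw [this]
      exact fixes_of_inv hF (smul_un_eq_of_fixes hg hF hX h5) (smul_un_eq_of_fixes hg hF hY h5') hq hq24

/-- transversal check: every table of `U` is in `M24` and fixes the points of `pre`; every point of the mask `A`
is the image of `β` under some table of `U`. -/
def lvlCheck (pre : List ℕ) (β A : ℕ) (U : List (List ℕ)) : Bool :=
  decide (β < 24) && pre.all (· < 24) &&
  U.all (fun u => inM24 u && pre.all fun i => u.getD i 0 == i) &&
  (List.range 24).all fun j => !A.testBit j || U.any fun u => u.getD β 0 == j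

theorem exists_of_lvlCheck {pre : List ℕ} {β A : ℕ} {U : List (List ℕ)}
    (h : lvlCheck pre β A U = true) {q : GolayPt} (hq : q ∈ un A) :
    ∃ u ∈ U, inM24 u = true ∧ (∀ i ∈ pre, permOf u (ptOf i) = ptOf i) ∧ permOf u (ptOf β) = q := by
  simp only [lvlCheck, Bool.and_eq_true, decide_eq_true_eq, List.all_eq_true, List.mem_range,
    Bool.or_eq_true, Bool.not_eq_true', List.any_eq_true, beq_iff_eq] at h
  obtain ⟨⟨⟨hβ, hpre⟩, hU⟩, hA⟩ := h
  rcases hA (idx q) (idx_lt q) with h0 | ⟨u, hu, h1⟩
  · rw [mem_un] at hq; rw [hq] at h0; exact absurd h0 (by simp)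
  · obtain ⟨hu1, hu2⟩ := hU u hu
    refine ⟨u, hu, hu1, ?_, ?_⟩
    · intro i hi
      rw [permOf_apply (isTbl_of_inM24 hu1), idx_ptOf (hpre i hi), hu2 i hi]
    · rw [permOf_apply (isTbl_of_inM24 hu1), idx_ptOf hβ, h1, ptOf_idx]

/-- orbit-stabilizer counting step for subgroups of the symmetric group on the 24 points. -/
theorem card_step (H : Subgroup (Equiv.Perm GolayPt)) (b : GolayPt) (A : ℕ)
    (h1 : ∀ g ∈ H, g b ∈ un A) (h2 : ∀ q ∈ un A, ∃ g ∈ H, g b = q) :
    Nat.card H = popc A * Nat.card ↥(H ⊓ MulAction.stabilizer (Equiv.Perm GolayPt) b) := by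
  have e1 : MulAction.stabilizer H b = (H ⊓ MulAction.stabilizer (Equiv.Perm GolayPt) b).subgroupOf H := by
    ext g
    simp only [MulAction.mem_stabilizer_iff, Subgroup.mem_subgroupOf, Subgroup.mem_inf, g.2, true_and]
    rfl
  have e2 : Nat.card (MulAction.stabilizer H b) =
      Nat.card ↥(H ⊓ MulAction.stabilizer (Equiv.Perm GolayPt) b) := by
    rw [e1]
    exact Nat.card_congr (Subgroup.subgroupOfEquivOfLe inf_le_left).toEquiv
  have e3 : MulAction.orbit H b = ↑(un A) := by
    ext q
    simp only [MulAction.mem_orbit_iff, Finset.mem_coe]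
    constructor
    · rintro ⟨g, rfl⟩; exact h1 g.1 g.2
    · intro hq
      obtain ⟨g, hg, rfl⟩ := h2 q hq
      exact ⟨⟨g, hg⟩, rfl⟩
  have e4 := Subgroup.card_mul_index (MulAction.stabilizer H b)
  rw [MulAction.index_stabilizer, e3, Set.ncard_coe_finset, card_un, e2] at e4
  rw [← e4, mul_comm]

end Cfsg.Agent.Lib.Helper28
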