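import Cfsg.Agent.Lib.Helper28.GolayBits

/-!
Decision procedure for membership in `Cfsg.golayCode`, in the bitmask model.
-/

set_option autoImplicit false

namespace Cfsg.Agent.Lib.Helper28

open Cfsg

/-- the binary word with a given support. -/
def wordOf (s : Finset GolayPt) : GolayPt → ZMod 2 := fun p => if p ∈ s then 1 else 0

theorem zmod2_ne_zero_iff (a : ZMod 2) : a ≠ 0 ↔ a = 1 := by
  revert a; decide

theorem support₂_wordOf (s : Finset GolayPt) : support₂ (wordOf s) = s := by
  ext p
  by_cases h : p ∈ s <;> simp [support₂, wordOf, h]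

theorem wordOf_support₂ (w : GolayPt → ZMod 2) : wordOf (support₂ w) = w := by
  funext p
  simp only [support₂, wordOf, Finset.mem_filter, Finset.mem_univ, true_and]
  split_ifs with h
  · exact ((zmod2_ne_zero_iff _).1 h).symm
  · exact (not_not.1 h).symm

theorem wordOf_injective : Function.Injective wordOf := fun s t h => by
  rw [← support₂_wordOf s, ← support₂_wordOf t, h]

theorem wordOf_symmDiff (s t : Finset GolayPt) : wordOf (symmDiff s t) = wordOf s + wordOf t := by
  funext p
  simp only [wordOf, Finset.mem_symmDiff, Pi.add_apply]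
  by_cases h1 : p ∈ s <;> by_cases h2 : p ∈ t <;> simp [h1, h2]
  decide

theorem wordOf_empty : wordOf ∅ = 0 := by
  funext p; simp [wordOf]

theorem wordOf_univ : wordOf Finset.univ = 1 := by
  funext p; simp [wordOf]

theorem support₂_add (v w : GolayPt → ZMod 2) :
    support₂ (v + w) = symmDiff (support₂ v) (support₂ w) := by
  apply wordOf_injective
  rw [wordOf_symmDiff, wordOf_support₂, wordOf_support₂, wordOf_support₂]

theorem support₂_zero : support₂ (0 : GolayPt → ZMod 2) = ∅ := by
  apply wordOf_injective; rw [wordOf_support₂, wordOf_empty]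

/-- the masks of the 23 translates of the squares. -/
def qrMasks : List ℕ :=
  [340831, 681662, 1363324, 2726648, 5453296, 2517985, 5035970, 1683333, 3366666, 6733332, 5078057,
   1767507, 3535014, 7070028, 5751449, 3114291, 6228582, 4068557, 8137114, 7885621, 7382635,
   6376663, 4364719]

theorem qrWord_testBit : ∀ (t : ZMod 23) (p : GolayPt),
    (qrWord t p ≠ 0 ↔ (qrMasks.getD t.val 0).testBit (idx p) = true) := by
  decide +kernel

theorem support₂_qrWord (t : ZMod 23) : support₂ (qrWord t) = un (qrMasks.getD t.val 0) := by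
  ext p
  simp only [support₂, Finset.mem_filter, Finset.mem_univ, true_and, mem_un]
  exact qrWord_testBit t p

theorem qrMasks_lt : ∀ m ∈ qrMasks, m < 2 ^ 24 := by decide

/-- the systematic basis of the code (information positions `0, …, 11`). -/
def B12 : List ℕ :=
  [13062145, 4845570, 13938692, 7221256, 10170384, 11952160, 15515712, 2019456, 4038912, 8077824,
   11654144, 14919680]

/-- the combination of the words of `bs` selected by the bits of `a`. -/
def enc : List ℕ → ℕ → ℕ
  | [], _ => 0
  | b :: bs, a => (if a % 2 = 1 then b else 0) ^^^ enc bs (a / 2)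

/-- membership test for the code, on masks. -/
def isCode (m : ℕ) : Bool := enc B12 (m % 4096) == m

theorem enc_xor (bs : List ℕ) (a a' : ℕ) : enc bs (a ^^^ a') = enc bs a ^^^ enc bs a' := by
  induction bs generalizing a a' with
  | nil => simp [enc]
  | cons b bs ih =>
    simp only [enc, Nat.xor_div_two, ih]
    have h : (a ^^^ a') % 2 = (a % 2 + a' % 2) % 2 := by
      rw [Nat.xor_mod_two_eq]; omega
    rcases Nat.mod_two_eq_zero_or_one a with h1 | h1 <;>
      rcases Nat.mod_two_eq_zero_or_one a' with h2 | h2 <;>
      simp [h, h1, h2, Nat.xor_assoc, Nat.xor_comm, Nat.xor_left_comm]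

theorem isCode_iff {m : ℕ} : isCode m = true ↔ enc B12 (m % 4096) = m := by
  simp [isCode]

theorem isCode_xor {m n : ℕ} (hm : isCode m = true) (hn : isCode n = true) :
    isCode (m ^^^ n) = true := by
  rw [isCode_iff] at *
  have : (m ^^^ n) % 4096 = m % 4096 ^^^ n % 4096 := by
    have := @Nat.xor_mod_two_pow m n 12
    simpa using this
  rw [this, enc_xor, hm, hn]

theorem isCode_zero : isCode 0 = true := by decide

theorem isCode_qrMasks : ∀ m ∈ qrMasks, isCode m = true := by decide +kernel

theorem isCode_full : isCode 16777215 = true := by decide +kernel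

/-- `m` is the mask of a word of the code. -/
def InC (m : ℕ) : Prop := wordOf (un m) ∈ golayCode

theorem InC_zero : InC 0 := by
  unfold InC; rw [un_zero, wordOf_empty]; exact Submodule.zero_mem _

theorem InC_xor {m n : ℕ} (hm : InC m) (hn : InC n) : InC (m ^^^ n) := by
  unfold InC at *
  rw [un_xor, wordOf_symmDiff]; exact Submodule.add_mem _ hm hn

theorem InC_qrMasks : ∀ m ∈ qrMasks, InC m := by
  intro m hm
  obtain ⟨i, hi, rfl⟩ := List.mem_iff_getElem.1 hm
  have hi' : i < 23 := by simpa [qrMasks] using hi
  have h := support₂_qrWord (i : ZMod 23)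
  rw [ZMod.val_natCast, Nat.mod_eq_of_lt hi', List.getD_eq_getElem _ _ hi] at h
  unfold InC
  rw [← h, wordOf_support₂]
  exact Submodule.subset_span (Or.inl ⟨_, rfl⟩)

theorem InC_full : InC 16777215 := by
  unfold InC
  rw [← mk_univ, un_mk, wordOf_univ]
  exact Submodule.subset_span (Or.inr rfl)

theorem InC_foldl (l : List ℕ) (h : ∀ m ∈ l, InC m) (a : ℕ) (ha : InC a) :
    InC (l.foldl (· ^^^ ·) a) := by
  induction l generalizing a with
  | nil => exact ha
  | cons b l ih =>
    simp only [List.foldl_cons]
    exact ih (fun m hm => h m (List.mem_cons_of_mem _ hm)) _ (InC_xor ha (h b List.mem_cons_self))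

/-- for each basis word, the generators whose sum it is. -/
def B12sel : List (List ℕ) :=
  [[0, 3, 5, 7, 9, 10, 23], [3, 4, 8], [0, 3, 4, 7, 10, 23], [3, 4, 5, 6, 8, 10],
   [1, 3, 4, 5, 7, 9, 10, 23], [0, 1, 2, 4, 7, 8, 9, 10, 23], [0, 2, 3, 6, 7, 8, 10, 23],
   [4, 6, 7, 8, 9, 10], [0, 1, 6, 8, 10], [0, 2, 5, 6], [0, 1, 5, 6, 9, 10, 23],
   [0, 2, 5, 9, 10, 23]]

theorem B12_eq : B12 = B12sel.map fun l =>
    (l.map fun i => (qrMasks ++ [16777215]).getD i 0).foldl (· ^^^ ·) 0 := by
  decide +kernel

theorem InC_gens : ∀ m ∈ qrMasks ++ [16777215], InC m := by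
  intro m hm
  rcases List.mem_append.1 hm with h | h
  · exact InC_qrMasks m h
  · rw [List.mem_singleton.1 h]; exact InC_full

theorem InC_B12 : ∀ b ∈ B12, InC b := by
  intro b hb
  rw [B12_eq] at hb
  obtain ⟨l, _, rfl⟩ := List.mem_map.1 hb
  apply InC_foldl _ _ _ InC_zero
  intro m hm
  obtain ⟨i, _, rfl⟩ := List.mem_map.1 hm
  by_cases hi : i < (qrMasks ++ [16777215]).length
  · rw [List.getD_eq_getElem _ _ hi]
    exact InC_gens _ (List.getElem_mem hi)
  · rw [List.getD_eq_default _ _ (by omega)]
    exact InC_zero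

theorem InC_enc (bs : List ℕ) (h : ∀ b ∈ bs, InC b) (a : ℕ) : InC (enc bs a) := by
  induction bs generalizing a with
  | nil => exact InC_zero
  | cons b bs ih =>
    simp only [enc]
    apply InC_xor
    · split_ifs
      · exact h b List.mem_cons_self
      · exact InC_zero
    · exact ih (fun m hm => h m (List.mem_cons_of_mem _ hm)) _

theorem isCode_of_mem {w : GolayPt → ZMod 2} (hw : w ∈ golayCode) :
    isCode (mk (support₂ w)) = true := by
  unfold golayCode at hw
  induction hw using Submodule.span_induction with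
  | mem x hx =>
    rcases hx with ⟨t, rfl⟩ | hx
    · rw [support₂_qrWord, mk_un]
      · apply isCode_qrMasks
        rw [List.getD_eq_getElem _ _ (by simpa [qrMasks] using ZMod.val_lt t)]
        exact List.getElem_mem _
      · apply qrMasks_lt
        rw [List.getD_eq_getElem _ _ (by simpa [qrMasks] using ZMod.val_lt t)]
        exact List.getElem_mem _
    · rw [Set.mem_singleton_iff.1 hx, ← wordOf_univ, support₂_wordOf, mk_univ]
      exact isCode_full
  | zero => rw [support₂_zero, mk_empty]; exact isCode_zero
  | add x y _ _ hx hy => rw [support₂_add, mk_symmDiff]; exact isCode_xor hx hy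
  | smul a x _ hx =>
    have ha : a = 0 ∨ a = 1 := by revert a; decide
    rcases ha with rfl | rfl
    · rw [zero_smul, support₂_zero, mk_empty]; exact isCode_zero
    · rw [one_smul]; exact hx

/-- **Membership in the code** is decided by `isCode` on masks. -/
theorem wordOf_mem_iff (s : Finset GolayPt) : wordOf s ∈ golayCode ↔ isCode (mk s) = true := by
  constructor
  · intro h
    have := isCode_of_mem h
    rwa [support₂_wordOf] at this
  · intro h
    rw [isCode_iff] at h
    have := InC_enc B12 InC_B12 (mk s % 4096)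
    rw [h] at this
    unfold InC at this
    rwa [un_mk] at this

theorem mem_golayCode_iff (w : GolayPt → ZMod 2) :
    w ∈ golayCode ↔ isCode (mk (support₂ w)) = true := by
  rw [← wordOf_mem_iff, wordOf_support₂]

theorem mem_supports_iff (s : Finset GolayPt) :
    s ∈ supports (golayCode : Set (GolayPt → ZMod 2)) ↔ isCode (mk s) = true := by
  rw [← wordOf_mem_iff]
  constructor
  · rintro ⟨w, hw, rfl⟩; rw [wordOf_support₂]; exact hw
  · intro h; exact ⟨wordOf s, h, support₂_wordOf s⟩

theorem mem_wordsOfWeight_iff (s : Finset GolayPt) (n : ℕ) :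
    s ∈ wordsOfWeight (golayCode : Set (GolayPt → ZMod 2)) n ↔
      (isCode (mk s) = true ∧ popc (mk s) = n) := by
  unfold wordsOfWeight
  show (s ∈ supports (golayCode : Set (GolayPt → ZMod 2)) ∧ s.card = n) ↔ _
  rw [mem_supports_iff, card_eq_popc]

theorem mem_octads_iff (s : Finset GolayPt) :
    s ∈ octads ↔ (isCode (mk s) = true ∧ popc (mk s) = 8) := mem_wordsOfWeight_iff s 8

theorem mem_dodecads_iff (s : Finset GolayPt) :
    s ∈ dodecads ↔ (isCode (mk s) = true ∧ popc (mk s) = 12) := mem_wordsOfWeight_iff s 12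

/-- every property of code masks can be checked on the 4096 encodings. -/
theorem forall_isCode {P : ℕ → Prop} (h : ∀ a < 4096, P (enc B12 a)) :
    ∀ m, isCode m = true → P m := by
  intro m hm
  rw [isCode_iff] at hm
  rw [← hm]
  exact h _ (Nat.mod_lt _ (by decide))

end Cfsg.Agent.Lib.Helper28
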