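import Cfsg.Agent.Lib.Helper28.GolayCode

/-!
Basic facts on the code, obtained by running through its 4096 words.
-/

set_option autoImplicit false

namespace Cfsg.Agent.Lib.Helper28

open Cfsg

/-- `f` holds on the `2 ^ k` numbers from `s` on (balanced recursion, for kernel evaluation). -/
def allRange : ℕ → ℕ → (ℕ → Bool) → Bool
  | 0, s, f => f s
  | k + 1, s, f => allRange k s f && allRange k (s + 2 ^ k) f

theorem allRange_spec (k s : ℕ) (f : ℕ → Bool) (h : allRange k s f = true) :
    ∀ a, s ≤ a → a < s + 2 ^ k → f a = true := by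
  induction k generalizing s with
  | zero =>
    intro a h1 h2
    have : a = s := by simp at h2; omega
    rw [this]; exact h
  | succ k ih =>
    intro a h1 h2
    simp only [allRange, Bool.and_eq_true] at h
    rw [pow_succ] at h2
    by_cases h3 : a < s + 2 ^ k
    · exact ih s h.1 a h1 h3
    · exact ih _ h.2 a (by omega) (by omega)

theorem forall_lt_of_allRange (k : ℕ) (f : ℕ → Bool) (h : allRange k 0 f = true) :
    ∀ a < 2 ^ k, f a = true := fun a ha => allRange_spec k 0 f h a (Nat.zero_le _) (by omega)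

theorem enc_facts : ∀ a < 4096, enc B12 a % 4096 = a ∧ enc B12 a < 16777216 ∧
    (popc (enc B12 a) = 0 ∧ a = 0 ∨ popc (enc B12 a) = 8 ∨ popc (enc B12 a) = 12 ∨
      popc (enc B12 a) = 16 ∨ popc (enc B12 a) = 24 ∧ a = 4095) := by
  intro a ha
  have h := forall_lt_of_allRange 12 (fun a => decide (enc B12 a % 4096 = a ∧ enc B12 a < 16777216 ∧
    (popc (enc B12 a) = 0 ∧ a = 0 ∨ popc (enc B12 a) = 8 ∨ popc (enc B12 a) = 12 ∨
      popc (enc B12 a) = 16 ∨ popc (enc B12 a) = 24 ∧ a = 4095))) (by decide +kernel) a ha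
  exact of_decide_eq_true h

theorem isCode_enc {a : ℕ} (ha : a < 4096) : isCode (enc B12 a) = true := by
  rw [isCode_iff, (enc_facts a ha).1]

theorem isCode_lt {m : ℕ} (h : isCode m = true) : m < 2 ^ 24 :=
  forall_isCode (P := fun m => m < 2 ^ 24) (fun a ha => (enc_facts a ha).2.1) m h

theorem popc_cases {m : ℕ} (h : isCode m = true) :
    popc m = 0 ∨ popc m = 8 ∨ popc m = 12 ∨ popc m = 16 ∨ popc m = 24 := by
  refine forall_isCode (P := fun m => popc m = 0 ∨ popc m = 8 ∨ popc m = 12 ∨ popc m = 16 ∨ popc m = 24)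
    (fun a ha => ?_) m h
  rcases (enc_facts a ha).2.2 with h | h | h | h | h
  · exact Or.inl h.1
  · exact Or.inr (Or.inl h)
  · exact Or.inr (Or.inr (Or.inl h))
  · exact Or.inr (Or.inr (Or.inr (Or.inl h)))
  · exact Or.inr (Or.inr (Or.inr (Or.inr h.1)))

theorem four_dvd_popc {m : ℕ} (h : isCode m = true) : 4 ∣ popc m := by
  rcases popc_cases h with h | h | h | h | h <;> rw [h] <;> decide

theorem eq_zero_of_popc_lt {m : ℕ} (h : isCode m = true) (h8 : popc m < 8) : m = 0 := by
  revert h8
  refine forall_isCode (P := fun m => popc m < 8 → m = 0) (fun a ha h8 => ?_) m h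
  rcases (enc_facts a ha).2.2 with h | h | h | h | h
  · rw [h.2]; decide
  all_goals omega

/-- the code words of weight `n`, by their information bits. -/
def infoOfWeight (n : ℕ) : Finset ℕ := (Finset.range 4096).filter fun a => popc (enc B12 a) = n

theorem wordsOfWeight_eq (n : ℕ) : wordsOfWeight (golayCode : Set (GolayPt → ZMod 2)) n =
    ↑((infoOfWeight n).image fun a => un (enc B12 a)) := by
  ext s
  rw [mem_wordsOfWeight_iff]
  simp only [infoOfWeight, Finset.coe_image, Finset.coe_filter, Finset.mem_range, Set.mem_image]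
  constructor
  · rintro ⟨h1, h2⟩
    refine ⟨mk s % 4096, ⟨Nat.mod_lt _ (by decide), ?_⟩, ?_⟩
    · rw [isCode_iff.1 h1]; exact h2
    · rw [isCode_iff.1 h1, un_mk]
  · rintro ⟨a, ⟨ha, h2⟩, rfl⟩
    rw [mk_un (enc_facts a ha).2.1]
    exact ⟨isCode_enc ha, h2⟩

theorem ncard_wordsOfWeight (n : ℕ) :
    (wordsOfWeight (golayCode : Set (GolayPt → ZMod 2)) n).ncard = (infoOfWeight n).card := by
  rw [wordsOfWeight_eq, Set.ncard_coe_finset, Finset.card_image_of_injOn]
  intro a ha b hb h
  simp only [infoOfWeight, Finset.coe_filter, Finset.mem_range, Set.mem_setOf_eq] at ha hb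
  have h' : mk (un (enc B12 a)) = mk (un (enc B12 b)) := congrArg mk h
  rw [mk_un (enc_facts a ha.1).2.1, mk_un (enc_facts b hb.1).2.1] at h'
  rw [← (enc_facts a ha.1).1, ← (enc_facts b hb.1).1, h']

theorem card_info8 : (infoOfWeight 8).card = 759 := by decide +kernel

theorem card_info12 : (infoOfWeight 12).card = 2576 := by decide +kernel

theorem ncard_octads : octads.ncard = 759 := (ncard_wordsOfWeight 8).trans card_info8

theorem ncard_dodecads : dodecads.ncard = 2576 := (ncard_wordsOfWeight 12).trans card_info12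

theorem popc_xor_add (m n : ℕ) : popc (m ^^^ n) + 2 * popc (m &&& n) = popc m + popc n := by
  rw [← card_un, ← card_un, ← card_un, ← card_un, un_xor, un_land]
  have h1 := Finset.card_sdiff_add_card_inter (un m) (un n)
  have h2 := Finset.card_sdiff_add_card_inter (un n) (un m)
  have h3 : (symmDiff (un m) (un n)).card = (un m \ un n).card + (un n \ un m).card := by
    rw [symmDiff_def, Finset.sup_eq_union, Finset.card_union_of_disjoint]
    exact disjoint_sdiff_sdiff
  rw [Finset.inter_comm (un n) (un m)] at h2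
  omega

/-- two code words meet evenly. -/
theorem even_popc_land {m n : ℕ} (hm : isCode m = true) (hn : isCode n = true) :
    2 ∣ popc (m &&& n) := by
  have h1 := four_dvd_popc hm
  have h2 := four_dvd_popc hn
  have h3 := four_dvd_popc (isCode_xor hm hn)
  have h4 := popc_xor_add m n
  omega

/-- two distinct octads meet in at most four points. -/
theorem popc_land_le_four {m n : ℕ} (hm : isCode m = true) (hn : isCode n = true)
    (h8 : popc m = 8) (h8' : popc n = 8) (hne : m ≠ n) : popc (m &&& n) ≤ 4 := by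
  by_contra hcon
  have h4 := popc_xor_add m n
  have : m ^^^ n = 0 := eq_zero_of_popc_lt (isCode_xor hm hn) (by omega)
  exact hne (Nat.xor_eq_zero_iff.1 this)

end Cfsg.Agent.Lib.Helper28
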