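import Cfsg.Agent.Lib.Helper28.M24Data
import Cfsg.Prelude.Def_Spor_Mathieu

/-!
The stabilizer chain of `Cfsg.M24`: multiple transitivity, the orders of `M24`, `M23`, `M22` and of the pointwise
stabilizers of the base points, enumeration of the stabilizer of five points.
-/

set_option autoImplicit false

namespace Cfsg.Agent.Lib.Helper28

open Cfsg
open scoped Pointwise

theorem trans_step {pre : List ℕ} {β A : ℕ} {U : List (List ℕ)} (h : lvlCheck pre β A U = true)
    (hA : ∀ j < 24, j ∉ pre → A.testBit j = true) {g : Equiv.Perm GolayPt} (hg : g ∈ M24)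
    (y : GolayPt) (hy : idx (g y) ∉ pre) :
    ∃ g' ∈ M24, (∀ z, idx (g z) ∈ pre → g' z = g z) ∧ (∀ z, idx (g' z) ∈ pre → g' z = g z) ∧
      g' y = ptOf β := by
  have hq : g y ∈ un A := mem_un.2 (hA _ (idx_lt _) hy)
  obtain ⟨u, _, hu1, hu2, hu3⟩ := exists_of_lvlCheck h hq
  refine ⟨(permOf u)⁻¹ * g, M24.mul_mem (M24.inv_mem (permOf_mem_M24 hu1)) hg, ?_, ?_, ?_⟩
  · intro z hz
    rw [Equiv.Perm.mul_apply, Equiv.Perm.inv_eq_iff_eq]
    have := hu2 _ hz
    rw [ptOf_idx] at this
    exact this.symm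
  · intro z hz
    have := hu2 _ hz
    have h8 : permOf u (((permOf u)⁻¹ * g) z) = g z := by simp
    rw [ptOf_idx, h8] at this
    exact this.symm
  · rw [Equiv.Perm.mul_apply, Equiv.Perm.inv_eq_iff_eq]
    exact hu3.symm

/-- check of a chain of levels in which each orbit consists of all points not yet fixed. -/
def transCheck : List ℕ → List (ℕ × ℕ × List (List ℕ)) → Bool
  | _, [] => true
  | pre, (β, A, U) :: r =>
    lvlCheck pre β A U && ((List.range 24).all fun j => pre.contains j || A.testBit j) &&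
      transCheck (pre ++ [β]) r

theorem exists_of_transCheck (lv : List (ℕ × ℕ × List (List ℕ))) (pre : List ℕ)
    (h : transCheck pre lv = true) (xs : List GolayPt) (hlen : xs.length ≤ lv.length)
    (hnd : xs.Nodup) {g : Equiv.Perm GolayPt} (hg : g ∈ M24) (hx : ∀ x ∈ xs, idx (g x) ∉ pre) :
    ∃ g' ∈ M24, (∀ z, idx (g z) ∈ pre → g' z = g z) ∧
      xs.map g' = (lv.take xs.length).map fun l => ptOf l.1 := by
  induction lv generalizing pre xs g with
  | nil =>
    have : xs = [] := List.length_eq_zero_iff.1 (Nat.le_zero.1 hlen)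
    subst this
    exact ⟨g, hg, fun _ _ => rfl, rfl⟩
  | cons l r ih =>
    obtain ⟨β, A, U⟩ := l
    cases xs with
    | nil => exact ⟨g, hg, fun _ _ => rfl, rfl⟩
    | cons y ys =>
      simp only [transCheck, Bool.and_eq_true, List.all_eq_true, List.mem_range, Bool.or_eq_true,
        List.contains_iff_mem] at h
      obtain ⟨⟨h1, h2⟩, h3⟩ := h
      have hA : ∀ j < 24, j ∉ pre → A.testBit j = true := fun j hj hjp =>
        (h2 j hj).resolve_left hjp
      obtain ⟨g1, hg1, ha, hb, hc⟩ := trans_step h1 hA hg y (hx y List.mem_cons_self)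
      have hβ : β < 24 := by
        simp only [lvlCheck, Bool.and_eq_true, decide_eq_true_eq] at h1
        exact h1.1.1.1
      rw [List.nodup_cons] at hnd
      have hx1 : ∀ x ∈ ys, idx (g1 x) ∉ pre ++ [β] := by
        intro x hxs hmem
        rcases List.mem_append.1 hmem with hm | hm
        · have := hb x hm
          exact hx x (List.mem_cons_of_mem _ hxs) (this ▸ hm)
        · have h5 : idx (g1 x) = β := List.mem_singleton.1 hm
          have h6 : g1 x = g1 y := by rw [hc, ← h5, ptOf_idx]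
          exact hnd.1 (g1.injective h6 ▸ hxs)
      obtain ⟨g2, hg2, hd, he⟩ := ih (pre ++ [β]) h3 ys (by simpa using hlen) hnd.2 hg1 hx1
      refine ⟨g2, hg2, ?_, ?_⟩
      · intro z hz
        have h7 := ha z hz
        rw [← h7]
        apply hd
        rw [h7]; exact List.mem_append_left _ hz
      · simp only [List.map_cons, List.length_cons, List.take_succ_cons]
        rw [he, hd y (by rw [hc, idx_ptOf hβ]; simp), hc]

/-- the first five levels. -/
def lv5 : List (ℕ × ℕ × List (List ℕ)) :=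
  [(23, 16777215, U1), (0, 8388607, U2), (1, 8388606, U3), (2, 8388604, U4), (3, 8388600, U5)]

theorem transCheck_lv5 : transCheck [] lv5 = true := by decide +kernel

/-- **`M24` is 5-transitive**: any at most five distinct points can be moved to the first base points
`∞, 0, 1, 2, 3`. -/
theorem exists_M24_map_base (xs : List GolayPt) (hlen : xs.length ≤ 5) (hnd : xs.Nodup) :
    ∃ g ∈ M24, xs.map g = ([23, 0, 1, 2, 3].take xs.length).map ptOf := by
  obtain ⟨g, hg, _, h⟩ := exists_of_transCheck lv5 [] transCheck_lv5 xs hlen hnd M24.one_mem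
    (fun _ _ => by simp)
  refine ⟨g, hg, ?_⟩
  rw [h]
  have h5 : ([23, 0, 1, 2, 3] : List ℕ) = lv5.map (·.1) := rfl
  rw [h5, ← List.map_take, List.map_map]
  rfl

/-- pointwise stabilizer in `M24` of a list of points (given by indices). -/
def stabL (l : List ℕ) : Subgroup (Equiv.Perm GolayPt) :=
  l.foldl (fun H i => H ⊓ MulAction.stabilizer (Equiv.Perm GolayPt) (ptOf i)) M24

theorem stabL_append (l : List ℕ) (i : ℕ) :
    stabL (l ++ [i]) = stabL l ⊓ MulAction.stabilizer (Equiv.Perm GolayPt) (ptOf i) := by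
  simp [stabL, List.foldl_append]

theorem mem_stabL (l : List ℕ) (g : Equiv.Perm GolayPt) :
    g ∈ stabL l ↔ g ∈ M24 ∧ ∀ i ∈ l, g (ptOf i) = ptOf i := by
  induction l using List.reverseRecOn with
  | nil => simp [stabL]
  | append_singleton l i ih =>
    rw [stabL_append, Subgroup.mem_inf, ih, MulAction.mem_stabilizer_iff]
    simp only [List.mem_append, List.mem_singleton, Equiv.Perm.smul_def]
    constructor
    · rintro ⟨⟨h1, h2⟩, h3⟩
      exact ⟨h1, fun j hj => hj.elim (h2 j) (fun h => h ▸ h3)⟩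
    · rintro ⟨h1, h2⟩
      exact ⟨⟨h1, fun j hj => h2 j (Or.inl hj)⟩, h2 i (Or.inr rfl)⟩

theorem card_stabL_step {pre : List ℕ} {β A : ℕ} {U : List (List ℕ)} (h : lvlCheck pre β A U = true)
    (h1 : ∀ g ∈ stabL pre, g (ptOf β) ∈ un A) :
    Nat.card (stabL pre) = popc A * Nat.card (stabL (pre ++ [β])) := by
  rw [stabL_append]
  apply card_step _ _ _ h1
  intro q hq
  obtain ⟨u, _, hu1, hu2, hu3⟩ := exists_of_lvlCheck h hq
  exact ⟨permOf u, (mem_stabL _ _).2 ⟨permOf_mem_M24 hu1, hu2⟩, hu3⟩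

theorem idx_not_mem_of_fixes {pre : List ℕ} {β : ℕ} (hβ : β < 24) (hn : β ∉ pre)
    {g : Equiv.Perm GolayPt} (hg : ∀ i ∈ pre, g (ptOf i) = ptOf i) : idx (g (ptOf β)) ∉ pre := by
  intro hm
  have h1 := hg _ hm
  rw [ptOf_idx] at h1
  have h2 := g.injective h1
  rw [h2, idx_ptOf hβ] at hm
  exact hn hm

theorem lvl1 : lvlCheck [] 23 16777215 U1 = true := by decide +kernel
theorem lvl2 : lvlCheck [23] 0 8388607 U2 = true := by decide +kernel
theorem lvl3 : lvlCheck [23, 0] 1 8388606 U3 = true := by decide +kernel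
theorem lvl4 : lvlCheck [23, 0, 1] 2 8388604 U4 = true := by decide +kernel
theorem lvl5 : lvlCheck [23, 0, 1, 2] 3 8388600 U5 = true := by decide +kernel
theorem lvl6 : lvlCheck [23, 0, 1, 2, 3] 5 147488 U6 = true := by decide +kernel
theorem lvl7 : lvlCheck [23, 0, 1, 2, 3, 5] 4 8241104 U7 = true := by decide +kernel

theorem mem_un_of_not_mem {pre : List ℕ} {A : ℕ}
    (hA : ∀ j < 24, j ∉ pre → A.testBit j = true) {q : GolayPt} (hq : idx q ∉ pre) : q ∈ un A :=
  mem_un.2 (hA _ (idx_lt q) hq)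

theorem fixesMask_of_list {l : List ℕ} {F : ℕ} (hF : ∀ j < 24, F.testBit j = true → j ∈ l)
    {g : Equiv.Perm GolayPt} (hg : ∀ i ∈ l, g (ptOf i) = ptOf i) : FixesMask g F := by
  intro p hp
  have := hg _ (hF _ (idx_lt p) (mem_un.1 hp))
  rwa [ptOf_idx] at this

/-- the octad through the first five base points: `{0, 1, 2, 3, 5, 14, 17, ∞}`. -/
def O5 : ℕ := 8536111

theorem stab5_smul_O5 {g : Equiv.Perm GolayPt} (hg : g ∈ stabL [23, 0, 1, 2, 3]) :
    g • un O5 = un O5 := by
  rw [mem_stabL] at hg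
  exact smul_un_eq_of_fixes hg.1 (F := 8388623)
    (fixesMask_of_list (l := [23, 0, 1, 2, 3]) (by decide) hg.2) (by decide +kernel) (by decide +kernel)

theorem card_stab0 : Nat.card (stabL []) = 24 * Nat.card (stabL [23]) :=
  card_stabL_step lvl1 fun g _ => mem_un_of_not_mem (pre := []) (by decide) (by simp)

theorem card_stab1 : Nat.card (stabL [23]) = 23 * Nat.card (stabL [23, 0]) :=
  card_stabL_step lvl2 fun g hg => mem_un_of_not_mem (pre := [23]) (by decide)
    (idx_not_mem_of_fixes (by decide) (by decide) ((mem_stabL _ _).1 hg).2)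

theorem card_stab2 : Nat.card (stabL [23, 0]) = 22 * Nat.card (stabL [23, 0, 1]) :=
  card_stabL_step lvl3 fun g hg => mem_un_of_not_mem (pre := [23, 0]) (by decide)
    (idx_not_mem_of_fixes (by decide) (by decide) ((mem_stabL _ _).1 hg).2)

theorem card_stab3 : Nat.card (stabL [23, 0, 1]) = 21 * Nat.card (stabL [23, 0, 1, 2]) :=
  card_stabL_step lvl4 fun g hg => mem_un_of_not_mem (pre := [23, 0, 1]) (by decide)
    (idx_not_mem_of_fixes (by decide) (by decide) ((mem_stabL _ _).1 hg).2)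

theorem card_stab4 : Nat.card (stabL [23, 0, 1, 2]) = 20 * Nat.card (stabL [23, 0, 1, 2, 3]) :=
  card_stabL_step lvl5 fun g hg => mem_un_of_not_mem (pre := [23, 0, 1, 2]) (by decide)
    (idx_not_mem_of_fixes (by decide) (by decide) ((mem_stabL _ _).1 hg).2)

theorem stab5_image {g : Equiv.Perm GolayPt} (hg : g ∈ stabL [23, 0, 1, 2, 3]) :
    g (ptOf 5) ∈ un 147488 := by
  have h1 : g (ptOf 5) ∈ un O5 := by
    rw [← stab5_smul_O5 hg, mem_smul_finset_iff, mem_un, idx_ptOf (by decide)]; decide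
  have h2 := idx_not_mem_of_fixes (β := 5) (by decide) (by decide) ((mem_stabL _ _).1 hg).2
  rw [mem_un] at h1 ⊢
  have : ∀ j < 24, O5.testBit j = true → j ∉ [23, 0, 1, 2, 3] → (147488 : ℕ).testBit j = true := by
    decide
  exact this _ (idx_lt _) h1 h2

theorem stabL_mono {l l' : List ℕ} (h : ∀ i ∈ l, i ∈ l') : stabL l' ≤ stabL l := by
  intro g hg
  rw [mem_stabL] at *
  exact ⟨hg.1, fun i hi => hg.2 i (h i hi)⟩

theorem stab6_image {g : Equiv.Perm GolayPt} (hg : g ∈ stabL [23, 0, 1, 2, 3, 5]) :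
    g (ptOf 4) ∈ un 8241104 := by
  have hg5 : g ∈ stabL [23, 0, 1, 2, 3] := stabL_mono (by decide) hg
  have h1 : g (ptOf 4) ∉ un O5 := by
    rw [← stab5_smul_O5 hg5, mem_smul_finset_iff, mem_un, idx_ptOf (by decide)]; decide
  rw [mem_un] at h1 ⊢
  have : ∀ j < 24, ¬ O5.testBit j = true → (8241104 : ℕ).testBit j = true := by decide
  exact this _ (idx_lt _) h1

theorem card_stab5 : Nat.card (stabL [23, 0, 1, 2, 3]) = 3 * Nat.card (stabL [23, 0, 1, 2, 3, 5]) :=
  card_stabL_step lvl6 fun _ hg => stab5_image hg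

theorem card_stab6 :
    Nat.card (stabL [23, 0, 1, 2, 3, 5]) = 16 * Nat.card (stabL [23, 0, 1, 2, 3, 5, 4]) :=
  card_stabL_step lvl7 fun _ hg => stab6_image hg

theorem baseFixCert_ok : fixCheck baseFixCert 8388671 = true := by decide +kernel

/-- an element of `M24` fixing the seven base points `∞, 0, 1, 2, 3, 5, 4` is the identity. -/
theorem stab7_eq_bot : stabL [23, 0, 1, 2, 3, 5, 4] = ⊥ := by
  rw [eq_bot_iff]
  intro g hg
  rw [mem_stabL] at hg
  exact Subgroup.mem_bot.2 (eq_one_of_fixCheck _ _ baseFixCert_ok hg.1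
    (fixesMask_of_list (l := [23, 0, 1, 2, 3, 5, 4]) (by decide) hg.2))

theorem card_stab7 : Nat.card (stabL [23, 0, 1, 2, 3, 5, 4]) = 1 := by
  rw [stab7_eq_bot]; exact Subgroup.card_bot

theorem card_stabL6 : Nat.card (stabL [23, 0, 1, 2, 3, 5]) = 16 := by rw [card_stab6, card_stab7]
theorem card_stabL5 : Nat.card (stabL [23, 0, 1, 2, 3]) = 48 := by rw [card_stab5, card_stabL6]
theorem card_stabL4 : Nat.card (stabL [23, 0, 1, 2]) = 960 := by rw [card_stab4, card_stabL5]
theorem card_stabL3 : Nat.card (stabL [23, 0, 1]) = 20160 := by rw [card_stab3, card_stabL4]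
theorem card_stabL2 : Nat.card (stabL [23, 0]) = 443520 := by rw [card_stab2, card_stabL3]
theorem card_stabL1 : Nat.card (stabL [23]) = 10200960 := by rw [card_stab1, card_stabL2]

theorem stabL_nil : stabL [] = M24 := rfl

theorem ptOf_23 : ptOf 23 = none := by decide
theorem ptOf_0 : ptOf 0 = some 0 := by decide

theorem stabL_M23 : stabL [23] = Spor.M23 := by
  show M24 ⊓ MulAction.stabilizer (Equiv.Perm GolayPt) (ptOf 23) = _
  rw [ptOf_23]; rfl

theorem stabL_M22 : stabL [23, 0] = Spor.M22 := by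
  show M24 ⊓ MulAction.stabilizer (Equiv.Perm GolayPt) (ptOf 23) ⊓
    MulAction.stabilizer (Equiv.Perm GolayPt) (ptOf 0) = _
  rw [ptOf_23, ptOf_0]; rfl

/-- **the order of `M24`**. -/
theorem card_M24 : Nat.card M24 = 244823040 := by
  rw [← stabL_nil, card_stab0, card_stabL1]

theorem card_M23 : Nat.card Spor.M23 = 10200960 := by rw [← stabL_M23, card_stabL1]

theorem card_M22 : Nat.card Spor.M22 = 443520 := by rw [← stabL_M22, card_stabL2]

end Cfsg.Agent.Lib.Helper28
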