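import Cfsg.Agent.Lib.Helper28.M24Trans
import Cfsg.Agent.Lib.Helper3.Dodecad

/-!
The code modulo the all-ones word is irreducible for `M24`.
-/

set_option autoImplicit false

namespace Cfsg.Agent.Lib.Helper28

open Cfsg
open scoped Pointwise

theorem symmDiff_univ_left (s : Finset GolayPt) : symmDiff Finset.univ s = sᶜ := by
  ext a
  simp [Finset.mem_symmDiff]

/-- an invariant family of code words, closed under sums, containing the all-ones word and another non-zero
word, contains all code words. -/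
theorem golay_irreducible (D : Set (Finset GolayPt))
    (hadd : ∀ s ∈ D, ∀ t ∈ D, symmDiff s t ∈ D) (huniv : Finset.univ ∈ D)
    (hinv : ∀ σ ∈ M24, ∀ s ∈ D, σ • s ∈ D) (hC : ∀ s ∈ D, isCode (mk s) = true)
    (hne : ∃ s ∈ D, s ≠ ∅ ∧ s ≠ Finset.univ) : ∀ s, isCode (mk s) = true → s ∈ D := by
  have hcompl : ∀ s ∈ D, sᶜ ∈ D := fun s hs => by
    rw [← symmDiff_univ_left]; exact hadd _ huniv _ hs
  have hdodAll : ∀ d ∈ D, d ∈ dodecads → ∀ d' ∈ dodecads, d' ∈ D := by
    intro d hd hdd d' hd'
    obtain ⟨g, hg, rfl⟩ := Cfsg.Agent.Lib.Helper3.Dod.exists_smul_eq hdd hd'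
    exact hinv g hg d hd
  have hoctAll : ∀ o ∈ D, o ∈ octads → ∀ o' ∈ octads, o' ∈ D := by
    intro o ho hoo o' ho'
    obtain ⟨g, hg, rfl⟩ := M24_transitive_octads hoo ho'
    exact hinv g hg o ho
  have mkdod : ∀ m, isCode m = true → popc m = 12 → un m ∈ dodecads := by
    intro m h1 h2
    rw [mem_dodecads_iff, mk_un (isCode_lt h1)]; exact ⟨h1, h2⟩
  have mkoct : ∀ m, isCode m = true → popc m = 8 → un m ∈ octads := by
    intro m h1 h2
    rw [mem_octads_iff, mk_un (isCode_lt h1)]; exact ⟨h1, h2⟩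
  have cardc : ∀ s : Finset GolayPt, popc (mk sᶜ) = 24 - popc (mk s) := by
    intro s
    rw [← card_eq_popc, ← card_eq_popc, Finset.card_compl]
    rfl
  have codec : ∀ s : Finset GolayPt, isCode (mk s) = true → isCode (mk sᶜ) = true := by
    intro s hs
    rw [← symmDiff_univ_left, mk_symmDiff, mk_univ]
    exact isCode_xor isCode_full hs
  -- an octad in `D`
  obtain ⟨o, hoD, hoo⟩ : ∃ o ∈ D, o ∈ octads := by
    obtain ⟨s, hs, hs0, hs1⟩ := hne
    have hc := hC s hs
    rcases popc_cases hc with h | h | h | h | h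
    · exfalso; apply hs0
      rw [← Finset.card_eq_zero, card_eq_popc, h]
    · exact ⟨s, hs, (mem_octads_iff s).2 ⟨hc, h⟩⟩
    · have hd : s ∈ dodecads := (mem_dodecads_iff s).2 ⟨hc, h⟩
      have h1 := hdodAll s hs hd _ (mkdod 8245261 (by decide +kernel) (by decide +kernel))
      have h2 := hdodAll s hs hd _ (mkdod 15953934 (by decide +kernel) (by decide +kernel))
      have h3 := hadd _ h1 _ h2
      rw [← un_xor] at h3
      exact ⟨_, h3, mkoct _ (by decide +kernel) (by decide +kernel)⟩
    · refine ⟨sᶜ, hcompl s hs, (mem_octads_iff _).2 ⟨codec s hc, ?_⟩⟩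
      rw [cardc, h]
    · exfalso; apply hs1
      rw [← Finset.card_eq_iff_eq_univ, card_eq_popc, h]; rfl
  have hO := hoctAll o hoD hoo
  have hd0 : un 8245261 ∈ D := by
    have h3 := hadd _ (hO _ (mkoct 13062145 (by decide +kernel) (by decide +kernel))) _
      (hO _ (mkoct 12222476 (by decide +kernel) (by decide +kernel)))
    rw [← un_xor] at h3
    exact h3
  have hDd := hdodAll _ hd0 (mkdod 8245261 (by decide +kernel) (by decide +kernel))
  intro s hc
  rcases popc_cases hc with h | h | h | h | h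
  · have : s = ∅ := by rw [← Finset.card_eq_zero, card_eq_popc, h]
    have h2 := hadd _ huniv _ huniv
    rw [symmDiff_self] at h2
    rw [this]; exact h2
  · exact hO s ((mem_octads_iff s).2 ⟨hc, h⟩)
  · exact hDd s ((mem_dodecads_iff s).2 ⟨hc, h⟩)
  · have h1 : sᶜ ∈ D := hO _ ((mem_octads_iff _).2 ⟨codec s hc, by rw [cardc, h]⟩)
    have := hcompl _ h1
    rwa [compl_compl] at this
  · have : s = Finset.univ := by
      rw [← Finset.card_eq_iff_eq_univ, card_eq_popc, h]; rfl
    rw [this]; exact huniv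

end Cfsg.Agent.Lib.Helper28
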