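import Cfsg.Agent.Lib.Helper28.GolayFacts

/-!
Permutations of the 24 points as tables (lists of 24 indices), their action on masks, and the decision
procedure for membership in `Cfsg.M24`.
-/

set_option autoImplicit false

namespace Cfsg.Agent.Lib.Helper28

open Cfsg
open scoped Pointwise

/-- image of the mask `m` under the table `t`: bit `i` goes to bit `t[i]`. -/
def img : List ℕ → ℕ → ℕ
  | [], _ => 0
  | a :: t, m => ((m % 2) <<< a) ||| img t (m / 2)

theorem testBit_img (t : List ℕ) (m j : ℕ) :
    (img t m).testBit j = true ↔ ∃ i, i < t.length ∧ m.testBit i = true ∧ t.getD i 0 = j := by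
  induction t generalizing m with
  | nil => simp [img]
  | cons a t ih =>
    simp only [img, Nat.testBit_lor, Bool.or_eq_true, ih]
    constructor
    · rintro (h | ⟨i, hi, h1, h2⟩)
      · refine ⟨0, by simp, ?_, ?_⟩
        · rcases Nat.mod_two_eq_zero_or_one m with h0 | h0
          · simp [h0] at h
          · simp [Nat.testBit_zero, h0]
        · rcases Nat.mod_two_eq_zero_or_one m with h0 | h0
          · simp [h0] at h
          · rw [h0, Nat.one_shiftLeft, Nat.testBit_two_pow] at h
            simpa using h
      · refine ⟨i + 1, by simpa using hi, ?_, by simpa using h2⟩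
        rw [Nat.testBit_succ]; exact h1
    · rintro ⟨i, hi, h1, h2⟩
      cases i with
      | zero =>
        left
        have h0 : m % 2 = 1 := by simpa [Nat.testBit_zero] using h1
        have h3 : a = j := by simpa using h2
        rw [h0, Nat.one_shiftLeft, Nat.testBit_two_pow, h3]; simp
      | succ i =>
        right
        refine ⟨i, by simpa using hi, ?_, by simpa using h2⟩
        rw [Nat.testBit_succ] at h1; exact h1

/-- the table of a permutation. -/
def tblOf (g : Equiv.Perm GolayPt) : List ℕ := (List.range 24).map fun i => idx (g (ptOf i))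

theorem length_tblOf (g : Equiv.Perm GolayPt) : (tblOf g).length = 24 := by simp [tblOf]

theorem getD_tblOf (g : Equiv.Perm GolayPt) {i : ℕ} (hi : i < 24) :
    (tblOf g).getD i 0 = idx (g (ptOf i)) := by
  rw [List.getD_eq_getElem _ _ (by rw [length_tblOf]; exact hi)]
  simp [tblOf]

theorem smul_finset_eq_image (g : Equiv.Perm GolayPt) (s : Finset GolayPt) : g • s = s.image g := rfl

theorem mem_smul_finset_iff (g : Equiv.Perm GolayPt) (s : Finset GolayPt) (p : GolayPt) :
    g p ∈ g • s ↔ p ∈ s := by
  rw [smul_finset_eq_image, Finset.mem_image]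
  constructor
  · rintro ⟨q, hq, h⟩; rwa [← g.injective h]
  · intro h; exact ⟨p, h, rfl⟩

/-- the action on sets, computed on masks. -/
theorem mk_smul (g : Equiv.Perm GolayPt) (s : Finset GolayPt) : mk (g • s) = img (tblOf g) (mk s) := by
  apply Nat.eq_of_testBit_eq
  intro j
  rw [Bool.eq_iff_iff, testBit_img, testBit_mk, length_tblOf]
  simp only [Bool.and_eq_true, decide_eq_true_eq, smul_finset_eq_image, Finset.mem_image]
  constructor
  · rintro ⟨hj, p, hp, h⟩
    refine ⟨idx p, idx_lt p, mem_iff_testBit.1 hp, ?_⟩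
    rw [getD_tblOf g (idx_lt p), ptOf_idx, h, idx_ptOf hj]
  · rintro ⟨i, hi, h1, h2⟩
    rw [getD_tblOf g hi] at h2
    refine ⟨h2 ▸ idx_lt _, ptOf i, ?_, ?_⟩
    · rw [mem_iff_testBit, idx_ptOf hi]; exact h1
    · rw [← h2, ptOf_idx]

/-- the map on points given by a table. -/
def fnOf (t : List ℕ) : GolayPt → GolayPt := fun p => ptOf (t.getD (idx p) 0)

/-- the permutation given by a table (the identity if the table is not one of a permutation). -/
noncomputable def permOf (t : List ℕ) : Equiv.Perm GolayPt :=
  open Classical in if h : Function.Bijective (fnOf t) then Equiv.ofBijective _ h else 1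

/-- `t` is the table of a permutation. -/
def isTbl (t : List ℕ) : Bool := t.length == 24 && t.all (· < 24) && img t 16777215 == 16777215

theorem isTbl_iff {t : List ℕ} : isTbl t = true ↔
    t.length = 24 ∧ (∀ a ∈ t, a < 24) ∧ img t 16777215 = 16777215 := by
  simp [isTbl, and_assoc]

theorem fnOf_bijective {t : List ℕ} (h : isTbl t = true) : Function.Bijective (fnOf t) := by
  obtain ⟨h1, _, h3⟩ := isTbl_iff.1 h
  apply (Finite.injective_iff_bijective).1
  apply Finite.injective_iff_surjective.2
  intro q
  have hq : (img t 16777215).testBit (idx q) = true := by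
    rw [h3, show (16777215 : ℕ) = 2 ^ 24 - 1 by norm_num, Nat.testBit_two_pow_sub_one]
    simpa using idx_lt q
  obtain ⟨i, hi, _, h5⟩ := (testBit_img _ _ _).1 hq
  refine ⟨ptOf i, ?_⟩
  unfold fnOf
  rw [idx_ptOf (h1 ▸ hi), h5, ptOf_idx]

theorem permOf_apply {t : List ℕ} (h : isTbl t = true) (p : GolayPt) :
    permOf t p = ptOf (t.getD (idx p) 0) := by
  unfold permOf
  rw [dif_pos (fnOf_bijective h)]
  rfl

theorem idx_permOf {t : List ℕ} (h : isTbl t = true) (p : GolayPt) :
    idx (permOf t p) = t.getD (idx p) 0 := by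
  rw [permOf_apply h, idx_ptOf]
  obtain ⟨h1, h2, _⟩ := isTbl_iff.1 h
  rw [List.getD_eq_getElem _ _ (h1 ▸ idx_lt p)]
  exact h2 _ (List.getElem_mem _)

theorem tblOf_permOf {t : List ℕ} (h : isTbl t = true) : tblOf (permOf t) = t := by
  obtain ⟨h1, _, _⟩ := isTbl_iff.1 h
  apply List.ext_getElem
  · rw [length_tblOf, h1]
  · intro i hi _
    rw [length_tblOf] at hi
    rw [← List.getD_eq_getElem (d := 0), ← List.getD_eq_getElem (d := 0), getD_tblOf _ hi,
      idx_permOf h, idx_ptOf hi]

theorem permOf_tblOf (g : Equiv.Perm GolayPt) : permOf (tblOf g) = g := by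
  have hf : fnOf (tblOf g) = g := by
    funext p
    unfold fnOf
    rw [getD_tblOf g (idx_lt p), ptOf_idx, ptOf_idx]
  unfold permOf
  rw [dif_pos (by rw [hf]; exact g.bijective)]
  ext p
  simp [hf]

theorem isTbl_tblOf (g : Equiv.Perm GolayPt) : isTbl (tblOf g) = true := by
  rw [isTbl_iff]
  refine ⟨length_tblOf g, ?_, ?_⟩
  · intro a ha
    simp only [tblOf, List.mem_map] at ha
    obtain ⟨i, _, rfl⟩ := ha
    exact idx_lt _
  · have h := mk_smul g Finset.univ
    rw [Finset.smul_finset_univ, mk_univ] at h
    exact h.symm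

theorem mk_permOf_smul {t : List ℕ} (h : isTbl t = true) (s : Finset GolayPt) :
    mk (permOf t • s) = img t (mk s) := by
  rw [mk_smul, tblOf_permOf h]

theorem permOf_smul_un {t : List ℕ} (h : isTbl t = true) {m : ℕ} (hm : m < 2 ^ 24) :
    permOf t • un m = un (img t m) := by
  apply mk_injective
  rw [mk_permOf_smul h, mk_un hm, mk_un]
  rw [← mk_un hm, ← mk_permOf_smul h]
  exact mk_lt _

theorem smul_symmDiff (g : Equiv.Perm GolayPt) (s t : Finset GolayPt) :
    g • symmDiff s t = symmDiff (g • s) (g • t) := by
  rw [smul_finset_eq_image, smul_finset_eq_image, smul_finset_eq_image]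
  exact Finset.image_symmDiff s t g.injective

theorem card_smul (g : Equiv.Perm GolayPt) (s : Finset GolayPt) : (g • s).card = s.card :=
  Finset.card_image_of_injective _ g.injective

/-- the test for membership in `M24`, on tables: the twelve basis words go to code words. -/
def mapsCode (t : List ℕ) : Bool := B12.all fun b => isCode (img t b)

theorem isCode_smul_enc (g : Equiv.Perm GolayPt) (bs : List ℕ)
    (h : ∀ b ∈ bs, isCode (mk (g • un b)) = true) (a : ℕ) :
    isCode (mk (g • un (enc bs a))) = true := by
  induction bs generalizing a with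
  | nil => simp [enc, un_zero, mk_empty, isCode_zero]
  | cons b bs ih =>
    simp only [enc]
    rw [un_xor, smul_symmDiff, mk_symmDiff]
    apply isCode_xor
    · split_ifs
      · exact h b List.mem_cons_self
      · simp [un_zero, mk_empty, isCode_zero]
    · exact ih (fun m hm => h m (List.mem_cons_of_mem _ hm)) _

theorem B12_lt : ∀ b ∈ B12, b < 2 ^ 24 := by decide

theorem isCode_B12 : ∀ b ∈ B12, isCode b = true := by decide +kernel

theorem supports_finite : (supports (golayCode : Set (GolayPt → ZMod 2))).Finite := Set.toFinite _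

theorem mem_M24_iff_forall (g : Equiv.Perm GolayPt) :
    g ∈ M24 ↔ ∀ s : Finset GolayPt, isCode (mk s) = true → isCode (mk (g • s)) = true := by
  show g ∈ MulAction.stabilizer (Equiv.Perm GolayPt) (supports (golayCode : Set (GolayPt → ZMod 2))) ↔ _
  rw [MulAction.mem_stabilizer_set_iff_smul_set_subset supports_finite]
  constructor
  · intro h s hs
    rw [← mem_supports_iff] at hs ⊢
    exact h (Set.smul_mem_smul_set hs)
  · rintro h _ ⟨s, hs, rfl⟩
    rw [mem_supports_iff] at hs
    exact (mem_supports_iff _).2 (h s hs)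

/-- **Membership in `M24`** is decided by `mapsCode` on tables. -/
theorem mem_M24_iff (g : Equiv.Perm GolayPt) : g ∈ M24 ↔ mapsCode (tblOf g) = true := by
  rw [mem_M24_iff_forall]
  simp only [mapsCode, List.all_eq_true]
  constructor
  · intro h b hb
    have := h (un b) (by rw [mk_un (B12_lt b hb)]; exact isCode_B12 b hb)
    rwa [mk_smul, mk_un (B12_lt b hb)] at this
  · intro h s hs
    have h' : ∀ b ∈ B12, isCode (mk (g • un b)) = true := by
      intro b hb
      rw [mk_smul, mk_un (B12_lt b hb)]; exact h b hb
    have := isCode_smul_enc g B12 h' (mk s % 4096)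
    rwa [isCode_iff.1 hs, un_mk] at this

/-- the complete test on a table: it is the table of an element of `M24`. -/
def inM24 (t : List ℕ) : Bool := isTbl t && mapsCode t

theorem permOf_mem_M24 {t : List ℕ} (h : inM24 t = true) : permOf t ∈ M24 := by
  simp only [inM24, Bool.and_eq_true] at h
  rw [mem_M24_iff, tblOf_permOf h.1]; exact h.2

theorem inM24_tblOf {g : Equiv.Perm GolayPt} (h : g ∈ M24) : inM24 (tblOf g) = true := by
  simp only [inM24, Bool.and_eq_true]
  exact ⟨isTbl_tblOf g, (mem_M24_iff g).1 h⟩

theorem isTbl_of_inM24 {t : List ℕ} (h : inM24 t = true) : isTbl t = true := by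
  simp only [inM24, Bool.and_eq_true] at h; exact h.1

theorem smul_mem_octads {g : Equiv.Perm GolayPt} (hg : g ∈ M24) {o : Finset GolayPt}
    (ho : o ∈ octads) : g • o ∈ octads := by
  rw [mem_octads_iff] at *
  exact ⟨(mem_M24_iff_forall g).1 hg o ho.1, by rw [← card_eq_popc, card_smul, card_eq_popc]; exact ho.2⟩

theorem smul_mem_dodecads {g : Equiv.Perm GolayPt} (hg : g ∈ M24) {o : Finset GolayPt}
    (ho : o ∈ dodecads) : g • o ∈ dodecads := by
  rw [mem_dodecads_iff] at *
  exact ⟨(mem_M24_iff_forall g).1 hg o ho.1, by rw [← card_eq_popc, card_smul, card_eq_popc]; exact ho.2⟩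

end Cfsg.Agent.Lib.Helper28
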