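import Cfsg.Agent.Lib.Helper28.SteinerAut

/-!
Automorphisms of a set system fixing a point act on the derived system.
-/

set_option autoImplicit false

namespace Cfsg.Agent.Lib.Helper28.SteinerDer

open Cfsg Cfsg.Agent.Lib.Helper28.SteinerAut
open scoped Pointwise

variable {α : Type*} [DecidableEq α]

/-- The derived system at a point. -/
def der (B : Set (Finset α)) (p : α) : Set (Finset {a : α // a ≠ p}) :=
  {b' | ∃ b ∈ B, p ∈ b ∧ b' = Finset.subtype (fun a => a ≠ p) b}

theorem mem_aut_of_forall [Finite α] {B : Set (Finset α)} (g : Equiv.Perm α)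
    (h : ∀ b ∈ B, b.image g ∈ B) : g ∈ setSystemAut B := by
  rw [mem_aut_iff]
  apply Set.eq_of_subset_of_ncard_le
  · rintro _ ⟨b, hb, rfl⟩; exact h b hb
  · rw [Set.ncard_image_of_injective _ (Finset.image_injective g.injective)]
  · exact Set.toFinite B

theorem image_mem_of_mem_aut {B : Set (Finset α)} {g : Equiv.Perm α} (hg : g ∈ setSystemAut B)
    {b : Finset α} (hb : b ∈ B) : b.image g ∈ B := by
  rw [mem_aut_iff] at hg
  rw [← hg]
  exact ⟨b, hb, rfl⟩

theorem subtype_image {P : α → Prop} [DecidablePred P] (g : Equiv.Perm α)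
    (h : ∀ x, P (g x) ↔ P x) (s : Finset α) :
    (Finset.subtype P s).image (g.subtypePerm h) = Finset.subtype P (s.image g) := by
  ext ⟨a, ha⟩
  simp only [Finset.mem_image, Finset.mem_subtype, Subtype.exists, Equiv.Perm.subtypePerm_apply,
    Subtype.mk.injEq]
  constructor
  · rintro ⟨b, _, hbs, hba⟩; exact ⟨b, hbs, hba⟩
  · rintro ⟨b, hbs, hba⟩; exact ⟨b, (h b).mp (hba ▸ ha), hbs, hba⟩

omit [DecidableEq α] in
theorem ne_iff_of_fix {g : Equiv.Perm α} {p : α} (hg : g p = p) (x : α) : g x ≠ p ↔ x ≠ p := by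
  constructor
  · intro h hx; exact h (hx ▸ hg)
  · intro h hx; exact h (g.injective (hx.trans hg.symm))

/-- The restriction of a permutation fixing `p` to the other points. -/
def resPerm (g : Equiv.Perm α) {p : α} (hg : g p = p) : Equiv.Perm {a : α // a ≠ p} :=
  g.subtypePerm (ne_iff_of_fix hg)

theorem resPerm_mem [Finite α] {B : Set (Finset α)} {g : Equiv.Perm α} (hgB : g ∈ setSystemAut B)
    {p : α} (hg : g p = p) : resPerm g hg ∈ setSystemAut (der B p) := by
  apply mem_aut_of_forall
  rintro _ ⟨b, hb, hpb, rfl⟩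
  exact ⟨b.image g, image_mem_of_mem_aut hgB hb, Finset.mem_image.mpr ⟨p, hpb, hg⟩,
    subtype_image g _ b⟩

/-- The action of a point stabiliser on the derived system. -/
def derHom [Finite α] {B : Set (Finset α)} (G : Subgroup (Equiv.Perm α)) (hG : G ≤ setSystemAut B)
    (p : α) : ↥(MulAction.stabilizer G p) →* setSystemAut (der B p) where
  toFun g := ⟨resPerm (g.1.1) (p := p) g.2, resPerm_mem (hG g.1.2) _⟩
  map_one' := by ext x; rfl
  map_mul' g h := by ext x; rfl

theorem derHom_apply [Finite α] {B : Set (Finset α)} (G : Subgroup (Equiv.Perm α))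
    (hG : G ≤ setSystemAut B) (p : α) (g : ↥(MulAction.stabilizer G p)) (x : {a : α // a ≠ p}) :
    (((derHom G hG p g : setSystemAut (der B p)) : Equiv.Perm {a : α // a ≠ p}) x : α)
      = (g.1.1 : Equiv.Perm α) x.1 := rfl

theorem derHom_injective [Finite α] {B : Set (Finset α)} (G : Subgroup (Equiv.Perm α))
    (hG : G ≤ setSystemAut B) (p : α) : Function.Injective (derHom G hG p) := by
  intro g h hgh
  apply Subtype.ext
  apply Subtype.ext
  ext x
  by_cases hx : x = p
  · subst hx
    exact (g.2 : g.1.1 x = x).trans (h.2 : h.1.1 x = x).symm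
  · have := derHom_apply G hG p g ⟨x, hx⟩
    rw [hgh, derHom_apply] at this
    exact this.symm

theorem der_transitive [Finite α] {B : Set (Finset α)} (n : ℕ)
    (h : MulAction.IsMultiplyPretransitive (setSystemAut B) α (n + 1)) (p : α) :
    MulAction.IsMultiplyPretransitive (setSystemAut (der B p)) {a : α // a ≠ p} n := by
  rw [MulAction.isMultiplyPretransitive_iff] at h ⊢
  intro x y
  have hx : p ∉ Set.range (x.trans (Function.Embedding.subtype _)) := by
    rintro ⟨i, hi⟩; exact (x i).2 hi
  have hy : p ∉ Set.range (y.trans (Function.Embedding.subtype _)) := by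
    rintro ⟨i, hi⟩; exact (y i).2 hi
  obtain ⟨g, hg⟩ := h (Fin.Embedding.cons _ hx) (Fin.Embedding.cons _ hy)
  have h0 : (g : Equiv.Perm α) p = p := by
    have := congrArg (fun f : Fin (n + 1) ↪ α => f 0) hg
    simp only [Function.Embedding.smul_apply, Fin.Embedding.coe_cons, Fin.cons_zero] at this
    exact this
  refine ⟨⟨resPerm g h0, resPerm_mem g.2 h0⟩, ?_⟩
  ext i
  have := congrArg (fun f : Fin (n + 1) ↪ α => f i.succ) hg
  simp only [Function.Embedding.smul_apply, Fin.Embedding.coe_cons, Fin.cons_succ,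
    Function.Embedding.trans_apply, Function.Embedding.subtype_apply] at this
  exact this

end Cfsg.Agent.Lib.Helper28.SteinerDer
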