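import Cfsg.Agent.Lib.Helper28.SteinerCnt11
import Cfsg.Agent.Lib.Helper28.SteinerCnt12
import Cfsg.Agent.Lib.Helper28.SteinerCnt21
import Cfsg.Agent.Lib.Helper28.SteinerCnt22
import Cfsg.Agent.Lib.Helper28.SteinerCnt23
import Cfsg.Agent.S0408
import Cfsg.Agent.S0409
import Cfsg.Agent.S0410
import Cfsg.Agent.S0411
import Cfsg.Agent.S5626

/-!
The orders of the automorphism groups of the small Steiner systems.
-/

set_option autoImplicit false

namespace Cfsg.Agent.Lib.Helper28.SteinerFacts

open Cfsg Cfsg.Agent.Lib.Helper28.SteinerU Cfsg.Agent.Lib.Helper28.SteinerC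

variable {α : Type*} [Fintype α] [DecidableEq α]

theorem card_aut11 (hα : Fintype.card α = 11) {B : Set (Finset α)}
    (hB : IsSteinerSystem 4 5 B) : Nat.card (setSystemAut B) = 7920 := by
  have h := card_aut (v := 11) (by decide)
    (hA_basic (by intro n hn; interval_cases n <;> decide) (by decide))
    Cfsg.Agent.Lib.Helper28.SteinerCnt11.steps Cfsg.Agent.Lib.Helper28.SteinerCnt11.cert
    (fun _ _ h h' => Cfsg.Agent.S0411.result (Fintype.card_fin 11) (Fintype.card_fin 11) h h')
    hα hB
  have h2 : (11).factorial = 5040 * 7920 := by decide +kernel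
  exact Nat.eq_of_mul_eq_mul_left (by norm_num) (h.trans h2)

theorem card_aut12 (hα : Fintype.card α = 12) {B : Set (Finset α)}
    (hB : IsSteinerSystem 5 6 B) : Nat.card (setSystemAut B) = 95040 := by
  have h := card_aut (v := 12) (by decide)
    (hA_basic (by intro n hn; interval_cases n <;> decide) (by decide))
    Cfsg.Agent.Lib.Helper28.SteinerCnt12.steps Cfsg.Agent.Lib.Helper28.SteinerCnt12.cert
    (fun _ _ h h' => Cfsg.Agent.S0408.result (Fintype.card_fin 12) (Fintype.card_fin 12) h h')
    hα hB
  have h2 : (12).factorial = 5040 * 95040 := by decide +kernel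
  exact Nat.eq_of_mul_eq_mul_left (by norm_num) (h.trans h2)

theorem card_aut21 (hα : Fintype.card α = 21) {B : Set (Finset α)}
    (hB : IsSteinerSystem 2 5 B) : Nat.card (setSystemAut B) = 120960 := by
  have h := card_aut (v := 21) (by decide)
    (hA_basic (by intro n hn; interval_cases n <;> decide) (by decide))
    Cfsg.Agent.Lib.Helper28.SteinerCnt21.steps Cfsg.Agent.Lib.Helper28.SteinerCnt21.cert
    (fun _ _ h h' => Cfsg.Agent.S5626.result (Fintype.card_fin 21) (Fintype.card_fin 21) h h')
    hα hB
  have h2 : (21).factorial = 422378820864000 * 120960 := by decide +kernel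
  exact Nat.eq_of_mul_eq_mul_left (by norm_num) (h.trans h2)

theorem card_aut22 (hα : Fintype.card α = 22) {B : Set (Finset α)}
    (hB : IsSteinerSystem 3 6 B) : Nat.card (setSystemAut B) = 887040 := by
  have h := card_aut (v := 22) (Am := 69) (by decide)
    (by
      intro B hB b hb c hc
      by_cases hbc : b = c
      · subst hbc
        rw [Finset.inter_self, hB.1 b hb]
        decide
      · rcases Cfsg.Agent.S0356.result (Fintype.card_fin 22) hB hb hc hbc with h | h <;>
          rw [h] <;> decide)
    Cfsg.Agent.Lib.Helper28.SteinerCnt22.steps Cfsg.Agent.Lib.Helper28.SteinerCnt22.cert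
    (fun _ _ h h' => Cfsg.Agent.S0410.result (Fintype.card_fin 22) (Fintype.card_fin 22) h h')
    hα hB
  have h2 : (22).factorial = 1267136462592000 * 887040 := by decide +kernel
  exact Nat.eq_of_mul_eq_mul_left (by norm_num) (h.trans h2)

theorem card_aut23 (hα : Fintype.card α = 23) {B : Set (Finset α)}
    (hB : IsSteinerSystem 4 7 B) : Nat.card (setSystemAut B) = 10200960 := by
  have h := card_aut (v := 23) (Am := 138) (by decide)
    (by
      intro B hB b hb c hc
      by_cases hbc : b = c
      · subst hbc
        rw [Finset.inter_self, hB.1 b hb]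
        decide
      · rcases Cfsg.Agent.S0355.result (Fintype.card_fin 23) hB hb hc hbc with h | h <;>
          rw [h] <;> decide)
    Cfsg.Agent.Lib.Helper28.SteinerCnt23.steps Cfsg.Agent.Lib.Helper28.SteinerCnt23.cert
    (fun _ _ h h' => Cfsg.Agent.S0409.result (Fintype.card_fin 23) (Fintype.card_fin 23) h h')
    hα hB
  have h2 : (23).factorial = 2534272925184000 * 10200960 := by decide +kernel
  exact Nat.eq_of_mul_eq_mul_left (by norm_num) (h.trans h2)

/-- A multiply transitive group whose order is the number of tuples acts sharply. -/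
theorem sharp_of_card {G : Type*} [Group G] [MulAction G α] [Finite G] (n : ℕ)
    (h : MulAction.IsMultiplyPretransitive G α n)
    (hc : Nat.card G = (Fintype.card α).descFactorial n) (x : Fin n ↪ α) :
    MulAction.stabilizer G x = ⊥ := by
  classical
  have : Fintype G := Fintype.ofFinite G
  have h1 := MulAction.card_orbit_mul_card_stabilizer_eq_card_group G x
  have h2 : MulAction.orbit G x = Set.univ := MulAction.orbit_eq_univ G x
  have h3 : Fintype.card (MulAction.orbit G x) = (Fintype.card α).descFactorial n := by
    rw [← Nat.card_eq_fintype_card, Nat.card_coe_set_eq, h2, Set.ncard_univ,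
      Nat.card_eq_fintype_card, Fintype.card_embedding_eq, Fintype.card_fin]
  rw [h3, ← Nat.card_eq_fintype_card (α := G), hc] at h1
  have hpos : 0 < (Fintype.card α).descFactorial n := by
    rw [← hc]; exact Nat.card_pos
  have h4 : Fintype.card (MulAction.stabilizer G x) = 1 :=
    Nat.eq_of_mul_eq_mul_left hpos (h1.trans (mul_one _).symm)
  rw [← Nat.card_eq_fintype_card] at h4
  exact Subgroup.card_eq_one.mp h4

end Cfsg.Agent.Lib.Helper28.SteinerFacts
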