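import Cfsg.Agent.Lib.Helper28.HSLattice2
import Cfsg.Agent.Lib.Helper28.SteinerDer
import Cfsg.Agent.Lib.Helper28.SteinerFacts

/-!
The automorphism group of the point-block graph of an S(3,6,22).
-/

set_option autoImplicit false

namespace Cfsg.Agent.Lib.Helper28.HSGraph

open Cfsg Finset Cfsg.Agent.Lib.Helper28

variable {α : Type*} [DecidableEq α] {B : Set (Finset α)}

theorem adj_none_iff (y : Option (α ⊕ B)) :
    (pointBlockGraph B).Adj none y ↔ ∃ a, y = some (Sum.inl a) := by
  rw [pbg_adj]
  rcases y with _ | a | b <;> simp [pointBlockRel]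

theorem adj_pt_blk (a : α) (b : B) :
    (pointBlockGraph B).Adj (some (Sum.inl a)) (some (Sum.inr b)) ↔ a ∈ (b : Finset α) := by
  rw [pbg_adj]
  simp [pointBlockRel]

theorem fix_pt (f : pointBlockGraph B ≃g pointBlockGraph B) (hf : f none = none) (a : α) :
    ∃ a', f (some (Sum.inl a)) = some (Sum.inl a') := by
  rw [← adj_none_iff, ← hf, f.map_adj_iff, adj_none_iff]
  exact ⟨a, rfl⟩

theorem fix_blk (f : pointBlockGraph B ≃g pointBlockGraph B) (hf : f none = none) (b : B) :
    ∃ b', f (some (Sum.inr b)) = some (Sum.inr b') := by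
  rcases h : f (some (Sum.inr b)) with _ | a' | b'
  · rw [← hf] at h
    have := f.injective h
    simp at this
  · have h1 : (pointBlockGraph B).Adj none (f (some (Sum.inr b))) := by
      rw [adj_none_iff]; exact ⟨a', h⟩
    rw [← hf, f.map_adj_iff, adj_none_iff] at h1
    obtain ⟨a, ha⟩ := h1
    simp at ha
  · exact ⟨b', rfl⟩

theorem stab_exists [Finite α] (f : pointBlockGraph B ≃g pointBlockGraph B) (hf : f none = none) :
    ∃ σ ∈ setSystemAut B, ∀ a, f (some (Sum.inl a)) = some (Sum.inl (σ a)) := by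
  have hf' : f.symm none = none := by
    have := f.symm_apply_apply none
    rwa [hf] at this
  choose s hs using fix_pt f hf
  choose t ht using fix_pt f.symm hf'
  let σ : Equiv.Perm α := ⟨s, t, fun a => by
    have := ht (s a)
    rw [← hs, f.symm_apply_apply] at this
    simpa using this.symm, fun a => by
    have := hs (t a)
    rw [← ht, f.apply_symm_apply] at this
    simpa using this.symm⟩
  refine ⟨σ, ?_, hs⟩
  apply SteinerDer.mem_aut_of_forall
  intro b hb
  obtain ⟨b', hb'⟩ := fix_blk f hf ⟨b, hb⟩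
  have : b.image σ = (b' : Finset α) := by
    ext a'
    rw [← adj_pt_blk, ← hb']
    have h1 : (some (Sum.inl a') : Option (α ⊕ B)) = f (some (Sum.inl (σ.symm a'))) := by
      rw [hs]
      show _ = some (Sum.inl (σ (σ.symm a')))
      rw [σ.apply_symm_apply]
    rw [h1, f.map_adj_iff, adj_pt_blk]
    simp only [Finset.mem_image]
    constructor
    · rintro ⟨a, ha, rfl⟩
      rwa [σ.symm_apply_apply]
    · intro ha
      exact ⟨_, ha, σ.apply_symm_apply a'⟩
  rw [this]
  exact b'.2

theorem stab_unique (f g : pointBlockGraph B ≃g pointBlockGraph B) (hf : f none = none)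
    (hg : g none = none) (h : ∀ a, f (some (Sum.inl a)) = g (some (Sum.inl a))) : f = g := by
  refine DFunLike.ext _ _ ?_
  rintro (_ | a | b)
  · rw [hf, hg]
  · exact h a
  · obtain ⟨b1, h1⟩ := fix_blk f hf b
    obtain ⟨b2, h2⟩ := fix_blk g hg b
    rw [h1, h2]
    congr 2
    apply Subtype.ext
    ext a'
    obtain ⟨a, ha⟩ : ∃ a, f (some (Sum.inl a)) = some (Sum.inl a') := by
      have hf' : f.symm none = none := by
        have := f.symm_apply_apply none
        rwa [hf] at this
      obtain ⟨a, ha⟩ := fix_pt f.symm hf' a'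
      exact ⟨a, by rw [← ha, f.apply_symm_apply]⟩
    rw [← adj_pt_blk, ← adj_pt_blk, ← ha, ← h1, f.map_adj_iff, h a, ← h2, g.map_adj_iff]

theorem aut_exists (σ : Equiv.Perm α) (hσ : σ ∈ setSystemAut B) :
    ∃ f : pointBlockGraph B ≃g pointBlockGraph B, f none = none ∧
      ∀ a, f (some (Sum.inl a)) = some (Sum.inl (σ a)) := by
  obtain ⟨f, h1, h2, _⟩ := pbg_iso (B := B) (B' := B) σ ((SteinerAut.mem_aut_iff σ).1 hσ)
  exact ⟨f, h1, h2⟩

theorem card_stab [Finite α] :
    Nat.card (MulAction.stabilizer (pointBlockGraph B ≃g pointBlockGraph B)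
      (none : Option (α ⊕ B))) = Nat.card (setSystemAut B) := by
  have hfix : ∀ f : MulAction.stabilizer (pointBlockGraph B ≃g pointBlockGraph B)
      (none : Option (α ⊕ B)), f.1 none = none := fun f => f.2
  choose s hs1 hs2 using fun f : MulAction.stabilizer (pointBlockGraph B ≃g pointBlockGraph B)
      (none : Option (α ⊕ B)) => stab_exists f.1 (hfix f)
  refine Nat.card_congr (Equiv.ofBijective (fun f => ⟨s f, hs1 f⟩) ⟨?_, ?_⟩)
  · intro f g hfg
    have h1 : s f = s g := congrArg Subtype.val hfg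
    apply Subtype.ext
    apply stab_unique _ _ (hfix f) (hfix g)
    intro a
    rw [hs2, hs2, h1]
  · rintro ⟨σ, hσ⟩
    obtain ⟨f, h1, h2⟩ := aut_exists σ hσ
    refine ⟨⟨f, h1⟩, ?_⟩
    apply Subtype.ext
    apply Equiv.ext
    intro a
    have := hs2 ⟨f, h1⟩ a
    rw [h2] at this
    simpa using this.symm

theorem card_aut [Fintype α] (hα : Fintype.card α = 22) (hB : IsSteinerSystem 3 6 B) :
    Nat.card (pointBlockGraph B ≃g pointBlockGraph B) = 88704000 := by
  classical
  have h1 := Subgroup.card_mul_index (MulAction.stabilizer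
    (pointBlockGraph B ≃g pointBlockGraph B) (none : Option (α ⊕ B)))
  rw [MulAction.index_stabilizer, card_stab, SteinerFacts.card_aut22 hα hB] at h1
  have h2 : MulAction.orbit (pointBlockGraph B ≃g pointBlockGraph B) (none : Option (α ⊕ B))
      = Set.univ := by
    ext y
    simp only [Set.mem_univ, iff_true]
    obtain ⟨f, hf⟩ := pbg_transitive hα hB none y
    exact ⟨f, hf⟩
  have : Fintype B := Fintype.ofFinite _
  have h3 := (pbg_isHSG hα hB).card
  rw [h2, Set.ncard_univ, Nat.card_eq_fintype_card, h3] at h1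
  rw [← h1]

end Cfsg.Agent.Lib.Helper28.HSGraph
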