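import Mathlib
import Cfsg.Prelude.Def_Sporadic_a

/-!
Strongly regular graphs with parameters (100, 22, 0, 6): local structure at a vertex.
-/

set_option autoImplicit false

namespace Cfsg.Agent.Lib.Helper28.HSGraph

open Cfsg Finset

variable {V : Type*} [Fintype V] [DecidableEq V]

/-- Instance-free form of the parameters (100, 22, 0, 6). -/
structure IsHSG (G : SimpleGraph V) [DecidableRel G.Adj] : Prop where
  card : Fintype.card V = 100
  deg : ∀ v, (univ.filter (fun u => G.Adj v u)).card = 22
  tri : ∀ u v w, G.Adj u v → G.Adj v w → ¬ G.Adj u w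
  mu : ∀ v w, v ≠ w → ¬ G.Adj v w → (univ.filter (fun u => G.Adj v u ∧ G.Adj w u)).card = 6

theorem card_cn (G : SimpleGraph V) [DecidableRel G.Adj] (v w : V) :
    Fintype.card (G.commonNeighbors v w) = (univ.filter (fun u => G.Adj v u ∧ G.Adj w u)).card := by
  rw [← Set.toFinset_card]
  congr 1
  ext u
  simp [SimpleGraph.mem_commonNeighbors]

theorem isHSG_of_srg {G : SimpleGraph V} [DecidableRel G.Adj] (h : G.IsSRGWith 100 22 0 6) :
    IsHSG G where
  card := h.card
  deg v := by
    have := h.regular v
    rw [← this, ← SimpleGraph.card_neighborFinset_eq_degree]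
    congr 1
    ext u
    simp
  tri u v w h1 h2 h3 := by
    have := h.of_adj u w h3
    rw [card_cn, Finset.card_eq_zero] at this
    have hv : v ∈ univ.filter (fun t => G.Adj u t ∧ G.Adj w t) := by
      simp [h1, h2.symm]
    rw [this] at hv
    simp at hv
  mu v w hvw hn := by
    rw [← card_cn]
    exact h.of_not_adj hvw hn

theorem srg_of_isHSG {G : SimpleGraph V} [DecidableRel G.Adj] (h : IsHSG G) :
    G.IsSRGWith 100 22 0 6 where
  card := h.card
  regular v := by
    rw [← h.deg v, ← SimpleGraph.card_neighborFinset_eq_degree]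
    congr 1
    ext u
    simp
  of_adj u w h3 := by
    rw [card_cn, Finset.card_eq_zero]
    ext t
    simp only [mem_filter, mem_univ, true_and, notMem_empty, iff_false, not_and]
    intro h1 h2
    exact h.tri u t w h1 h2.symm h3
  of_not_adj v w hvw hn := by
    rw [card_cn]
    exact h.mu v w hvw hn

section local_structure

variable {G : SimpleGraph V} [DecidableRel G.Adj] (h : IsHSG G) (x : V)

/-- the non-neighbours of `x` -/
def Q (G : SimpleGraph V) [DecidableRel G.Adj] (x : V) : Finset V :=
  univ.filter (fun q => q ≠ x ∧ ¬ G.Adj x q)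

omit [Fintype V] [DecidableEq V] in
theorem mem_Q' [Fintype V] [DecidableEq V] {q : V} : q ∈ Q G x ↔ q ≠ x ∧ ¬ G.Adj x q := by simp [Q]

include h in
theorem card_Q : (Q G x).card = 77 := by
  have h1 : (univ : Finset V) = insert x (univ.filter (fun u => G.Adj x u) ∪ Q G x) := by
    ext u
    simp only [mem_univ, mem_insert, mem_union, mem_filter, true_and, mem_Q', true_iff]
    tauto
  have h2 : x ∉ univ.filter (fun u => G.Adj x u) ∪ Q G x := by
    simp [mem_Q']
  have h3 : Disjoint (univ.filter (fun u => G.Adj x u)) (Q G x) := by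
    rw [Finset.disjoint_left]
    intro u hu hu'
    simp only [mem_filter, mem_univ, true_and] at hu
    exact ((mem_Q' x).1 hu').2 hu
  have h4 := congrArg Finset.card h1
  rw [Finset.card_univ, h.card, Finset.card_insert_of_notMem h2, Finset.card_union_of_disjoint h3,
    h.deg] at h4
  omega

include h in
/-- a neighbour `p` of `x` has 21 neighbours among the non-neighbours of `x` -/
theorem card_Q_adj {p : V} (hp : G.Adj x p) : ((Q G x).filter (fun q => G.Adj q p)).card = 21 := by
  have h1 : univ.filter (fun u => G.Adj p u) = insert x ((Q G x).filter (fun q => G.Adj q p)) := by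
    ext u
    simp only [mem_univ, mem_insert, mem_filter, true_and, mem_Q']
    constructor
    · intro hu
      by_cases hux : u = x
      · exact Or.inl hux
      · exact Or.inr ⟨⟨hux, fun hxu => h.tri x p u hp hu hxu⟩, hu.symm⟩
    · rintro (rfl | hu)
      · exact hp.symm
      · exact hu.2.symm
  have h2 : x ∉ (Q G x).filter (fun q => G.Adj q p) := by simp [mem_Q']
  have h4 := congrArg Finset.card h1
  rw [h.deg, Finset.card_insert_of_notMem h2] at h4
  omega

include h in
/-- two neighbours of `x` have 5 common neighbours among the non-neighbours of `x` -/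
theorem card_Q_adj2 {p p' : V} (hp : G.Adj x p) (hp' : G.Adj x p') (hne : p ≠ p') :
    ((Q G x).filter (fun q => G.Adj q p ∧ G.Adj q p')).card = 5 := by
  have h1 : univ.filter (fun u => G.Adj p u ∧ G.Adj p' u)
      = insert x ((Q G x).filter (fun q => G.Adj q p ∧ G.Adj q p')) := by
    ext u
    simp only [mem_univ, mem_insert, mem_filter, true_and, mem_Q']
    constructor
    · intro hu
      by_cases hux : u = x
      · exact Or.inl hux
      · exact Or.inr ⟨⟨hux, fun hxu => h.tri x p u hp hu.1 hxu⟩, hu.1.symm, hu.2.symm⟩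
    · rintro (rfl | hu)
      · exact ⟨hp.symm, hp'.symm⟩
      · exact ⟨hu.2.1.symm, hu.2.2.symm⟩
  have h2 : x ∉ (Q G x).filter (fun q => G.Adj q p ∧ G.Adj q p') := by simp [mem_Q']
  have h4 := congrArg Finset.card h1
  rw [h.mu p p' hne (fun hpp => h.tri p x p' hp.symm hp' hpp),
    Finset.card_insert_of_notMem h2] at h4
  omega

/-- the block of a vertex: its neighbours among the neighbours of `x` -/
def blkV (G : SimpleGraph V) [DecidableRel G.Adj] (x q : V) : Finset V :=
  univ.filter (fun u => G.Adj x u ∧ G.Adj q u)

omit [Fintype V] [DecidableEq V] in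
theorem mem_blkV [Fintype V] [DecidableEq V] {q u : V} : u ∈ blkV G x q ↔ G.Adj x u ∧ G.Adj q u := by simp [blkV]

include h in
theorem card_blkV {q : V} (hq : q ∈ Q G x) : (blkV G x q).card = 6 :=
  h.mu x q ((mem_Q' x).1 hq).1.symm ((mem_Q' x).1 hq).2

include h in
/-- a non-neighbour of `x` has 16 neighbours among the non-neighbours -/
theorem card_Q_nbr {q : V} (hq : q ∈ Q G x) : ((Q G x).filter (fun q' => G.Adj q q')).card = 16 := by
  have hq' := (mem_Q' x).1 hq
  have h1 : univ.filter (fun u => G.Adj q u) = blkV G x q ∪ (Q G x).filter (fun q' => G.Adj q q') := by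
    ext u
    simp only [mem_univ, mem_union, mem_filter, true_and, mem_Q', mem_blkV]
    constructor
    · intro hu
      by_cases hxu : G.Adj x u
      · exact Or.inl ⟨hxu, hu⟩
      · refine Or.inr ⟨⟨?_, hxu⟩, hu⟩
        rintro rfl
        exact hq'.2 hu.symm
    · rintro (hu | hu)
      · exact hu.2
      · exact hu.2
  have h3 : Disjoint (blkV G x q) ((Q G x).filter (fun q' => G.Adj q q')) := by
    rw [Finset.disjoint_left]
    intro u hu hu'
    simp only [mem_filter, mem_Q', mem_blkV] at hu hu'
    exact hu'.1.2 hu.1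
  have h4 := congrArg Finset.card h1
  rw [h.deg, Finset.card_union_of_disjoint h3, card_blkV h x hq] at h4
  omega

end local_structure

end Cfsg.Agent.Lib.Helper28.HSGraph
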