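import Cfsg.Agent.Lib.Helper28.HSGraphA

/-!
Strongly regular graphs with parameters (100, 22, 0, 6): block intersection numbers.
-/

set_option autoImplicit false

namespace Cfsg.Agent.Lib.Helper28.HSGraph

open Cfsg Finset

variable {V : Type*} [Fintype V] [DecidableEq V]
variable {G : SimpleGraph V} [DecidableRel G.Adj] (h : IsHSG G) (x : V)

/-- the common part of the blocks of `q` and `q'` -/
def F (G : SimpleGraph V) [DecidableRel G.Adj] (x q q' : V) : Finset V :=
  (blkV G x q).filter (fun p => G.Adj q' p)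

theorem F_eq_inter (q q' : V) : F G x q q' = blkV G x q ∩ blkV G x q' := by
  ext u
  simp only [F, mem_filter, mem_inter, mem_blkV]
  tauto

include h in
theorem sum_f {q : V} (hq : q ∈ Q G x) : ∑ q' ∈ (Q G x).erase q, (F G x q q').card = 120 := by
  have := Finset.sum_card_bipartiteAbove_eq_sum_card_bipartiteBelow (s := (Q G x).erase q)
    (t := blkV G x q) (fun q' p => G.Adj q' p)
  simp only [Finset.bipartiteAbove, Finset.bipartiteBelow] at this
  unfold F
  rw [this]
  have inner : ∀ p ∈ blkV G x q, (((Q G x).erase q).filter (fun q' => G.Adj q' p)).card = 20 := by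
    intro p hp
    rw [mem_blkV] at hp
    have e : ((Q G x).erase q).filter (fun q' => G.Adj q' p)
        = ((Q G x).filter (fun q' => G.Adj q' p)).erase q := by
      ext u
      simp only [mem_filter, mem_erase]
      tauto
    rw [e, Finset.card_erase_of_mem (by simp [hq, hp.2]), card_Q_adj h x hp.1]
  rw [Finset.sum_congr rfl inner]
  simp [card_blkV h x hq]

include h in
theorem sum_f2 {q : V} (hq : q ∈ Q G x) :
    ∑ q' ∈ (Q G x).erase q, (F G x q q').offDiag.card = 120 := by
  have := Finset.sum_card_bipartiteAbove_eq_sum_card_bipartiteBelow (s := (Q G x).erase q)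
    (t := (blkV G x q).offDiag) (fun q' e => G.Adj q' e.1 ∧ G.Adj q' e.2)
  simp only [Finset.bipartiteAbove, Finset.bipartiteBelow] at this
  have e0 : ∀ q', (F G x q q').offDiag
      = (blkV G x q).offDiag.filter (fun e => G.Adj q' e.1 ∧ G.Adj q' e.2) := by
    intro q'
    ext e
    simp only [F, mem_offDiag, mem_filter]
    tauto
  simp only [e0]
  rw [this]
  have inner : ∀ e ∈ (blkV G x q).offDiag,
      (((Q G x).erase q).filter (fun q' => G.Adj q' e.1 ∧ G.Adj q' e.2)).card = 4 := by
    intro e he
    rw [mem_offDiag, mem_blkV, mem_blkV] at he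
    have e1 : ((Q G x).erase q).filter (fun q' => G.Adj q' e.1 ∧ G.Adj q' e.2)
        = ((Q G x).filter (fun q' => G.Adj q' e.1 ∧ G.Adj q' e.2)).erase q := by
      ext u
      simp only [mem_filter, mem_erase]
      tauto
    rw [e1, Finset.card_erase_of_mem (by simp [hq, he.1.2, he.2.1.2]),
      card_Q_adj2 h x he.1.1 he.2.1.1 he.2.2]
  rw [Finset.sum_congr rfl inner]
  simp [card_blkV h x hq, Finset.offDiag_card]

theorem nn (n : ℕ) : 0 ≤ ((n : ℤ) - 1) * ((n : ℤ) - 2) := by
  rcases n with _ | _ | n
  · norm_num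
  · norm_num
  · push_cast
    have : (0 : ℤ) ≤ n := Int.natCast_nonneg n
    nlinarith

include h in
theorem F_adj {q q' : V} (ha : G.Adj q q') : F G x q q' = ∅ := by
  ext p
  simp only [F, mem_filter, mem_blkV, notMem_empty, iff_false, not_and]
  intro hp hp'
  exact h.tri q q' p ha hp' hp.2

include h in
theorem F_nadj {q q' : V} (hq : q ∈ Q G x) (hq' : q' ∈ Q G x) (hne : q' ≠ q) (ha : ¬ G.Adj q q') :
    (F G x q q').card = 1 ∨ (F G x q q').card = 2 := by
  set S := (Q G x).erase q with hS
  set R := S.filter (fun q' => ¬ G.Adj q q') with hR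
  have hA : S.filter (fun q' => G.Adj q q') = (Q G x).filter (fun q' => G.Adj q q') := by
    ext u
    simp only [hS, mem_filter, mem_erase]
    constructor
    · rintro ⟨⟨_, h2⟩, h3⟩
      exact ⟨h2, h3⟩
    · rintro ⟨h2, h3⟩
      exact ⟨⟨fun hu => G.loopless.irrefl q (hu ▸ h3), h2⟩, h3⟩
  have hcS : S.card = 76 := by
    rw [hS, Finset.card_erase_of_mem hq, card_Q h x]
  have hcR : R.card = 60 := by
    have h0 := Finset.card_filter_add_card_filter_not (s := S) (fun q' => G.Adj q q')
    rw [hA, card_Q_nbr h x hq, hcS] at h0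
    rw [hR]
    omega
  have s1 : ∑ q' ∈ R, (F G x q q').card = 120 := by
    have := Finset.sum_filter_add_sum_filter_not S (fun q' => G.Adj q q')
      (fun q' => (F G x q q').card)
    rw [sum_f h x hq] at this
    have z : ∑ q' ∈ S.filter (fun q' => G.Adj q q'), (F G x q q').card = 0 := by
      apply Finset.sum_eq_zero
      intro u hu
      rw [mem_filter] at hu
      rw [F_adj h x hu.2, Finset.card_empty]
    rw [z, zero_add] at this
    exact this
  have s2 : ∑ q' ∈ R, (F G x q q').offDiag.card = 120 := by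
    have := Finset.sum_filter_add_sum_filter_not S (fun q' => G.Adj q q')
      (fun q' => (F G x q q').offDiag.card)
    rw [sum_f2 h x hq] at this
    have z : ∑ q' ∈ S.filter (fun q' => G.Adj q q'), (F G x q q').offDiag.card = 0 := by
      apply Finset.sum_eq_zero
      intro u hu
      rw [mem_filter] at hu
      rw [F_adj h x hu.2]
      rfl
    rw [z, zero_add] at this
    exact this
  have s3 : ∑ q' ∈ R, ((((F G x q q').card : ℕ) : ℤ) - 1) * ((((F G x q q').card : ℕ) : ℤ) - 2) = 0 := by
    have e : ∀ q' ∈ R, ((((F G x q q').card : ℕ) : ℤ) - 1) * ((((F G x q q').card : ℕ) : ℤ) - 2)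
        = (((F G x q q').offDiag.card : ℕ) : ℤ) - 2 * (((F G x q q').card : ℕ) : ℤ) + 2 := by
      intro q' _
      rw [Finset.offDiag_card, Nat.cast_sub (Nat.le_mul_self _)]
      push_cast
      ring
    rw [Finset.sum_congr rfl e, Finset.sum_add_distrib, Finset.sum_sub_distrib, ← Finset.mul_sum,
      ← Nat.cast_sum, ← Nat.cast_sum, s1, s2]
    simp [hcR]
  have hmem : q' ∈ R := by
    simp only [hR, hS, mem_filter, mem_erase]
    exact ⟨⟨hne, hq'⟩, ha⟩
  have := (Finset.sum_eq_zero_iff_of_nonneg (fun i _ => nn _)).1 s3 q' hmem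
  rcases mul_eq_zero.1 this with h1 | h1
  · left; omega
  · right; omega

end Cfsg.Agent.Lib.Helper28.HSGraph
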