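import Cfsg.Agent.Lib.Helper28.HSGraphB

/-!
Strongly regular graphs with parameters (100, 22, 0, 6): the Steiner system at a vertex, and
the identification with the point-block graph.
-/

set_option autoImplicit false

namespace Cfsg.Agent.Lib.Helper28.HSGraph

open Cfsg Finset

section iso

variable {α β : Type*} [DecidableEq α] [DecidableEq β]

theorem pbg_adj {B : Set (Finset α)} (a b : Option (α ⊕ B)) :
    (pointBlockGraph B).Adj a b ↔ a ≠ b ∧ (pointBlockRel B a b ∨ pointBlockRel B b a) :=
  SimpleGraph.fromRel_adj _ _ _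

theorem pbg_iso {B : Set (Finset α)} {B' : Set (Finset β)} (e : α ≃ β)
    (he : (fun b : Finset α => b.image e) '' B = B') :
    ∃ f : pointBlockGraph B ≃g pointBlockGraph B', f none = none ∧
      (∀ a, f (some (Sum.inl a)) = some (Sum.inl (e a))) ∧
      ∀ b : B, ∃ hb, f (some (Sum.inr b)) = some (Sum.inr ⟨(b : Finset α).image e, hb⟩) := by
  have hinj : Function.Injective (fun b : Finset α => b.image e) :=
    Finset.image_injective e.injective
  let eB : B ≃ B' := (Equiv.Set.image _ B hinj).trans (Equiv.setCongr he)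
  have heB : ∀ b : B, ((eB b : B') : Finset β) = (b : Finset α).image e := fun b => rfl
  let f : Option (α ⊕ B) ≃ Option (β ⊕ B') := Equiv.optionCongr (Equiv.sumCongr e eB)
  have hrel : ∀ a b, pointBlockRel B' (f a) (f b) ↔ pointBlockRel B a b := by
    intro a b
    rcases a with _ | a | a <;> rcases b with _ | b | b <;>
      simp [f, pointBlockRel, heB, Finset.disjoint_image e.injective]
  refine ⟨⟨f, ?_⟩, rfl, fun a => rfl, fun b => ⟨(eB b).2, rfl⟩⟩
  intro a b
  rw [pbg_adj, pbg_adj, hrel, hrel, f.injective.ne_iff]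

end iso

variable {V : Type*} [Fintype V] [DecidableEq V]
variable {G : SimpleGraph V} [DecidableRel G.Adj] (h : IsHSG G) (x : V)

/-- the points: neighbours of `x` -/
abbrev Pt (G : SimpleGraph V) (x : V) : Type _ := {p : V // G.Adj x p}

/-- the block of `q` as a set of points -/
def beta (G : SimpleGraph V) [DecidableRel G.Adj] (x q : V) : Finset (Pt G x) :=
  univ.filter (fun p => G.Adj q p.1)

/-- the block system at `x` -/
def Bsys (G : SimpleGraph V) [DecidableRel G.Adj] (x : V) : Set (Finset (Pt G x)) :=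
  {b | ∃ q ∈ Q G x, beta G x q = b}

theorem mem_beta {q : V} {p : Pt G x} : p ∈ beta G x q ↔ G.Adj q p.1 := by simp [beta]

theorem beta_map (q : V) : (beta G x q).map (Function.Embedding.subtype _) = blkV G x q := by
  ext u
  simp only [mem_map, mem_beta, Function.Embedding.coe_subtype, Subtype.exists, exists_and_right,
    exists_eq_right, mem_blkV]
  constructor
  · rintro ⟨a, b⟩
    exact ⟨a, b⟩
  · rintro ⟨a, b⟩
    exact ⟨a, b⟩

include h in
theorem card_beta {q : V} (hq : q ∈ Q G x) : (beta G x q).card = 6 := by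
  rw [← card_blkV h x hq, ← beta_map, Finset.card_map]

theorem card_beta_inter (q q' : V) : (beta G x q ∩ beta G x q').card = (F G x q q').card := by
  rw [F_eq_inter, ← beta_map, ← beta_map, ← Finset.map_inter, Finset.card_map]

include h in
theorem card_Pt : Fintype.card (Pt G x) = 22 := by
  rw [Fintype.card_subtype, h.deg]

include h in
theorem inter_le {q q' : V} (hq : q ∈ Q G x) (hq' : q' ∈ Q G x) (hne : q' ≠ q) :
    (beta G x q ∩ beta G x q').card ≤ 2 := by
  rw [card_beta_inter]
  by_cases ha : G.Adj q q'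
  · rw [F_adj h x ha]; simp
  · rcases F_nadj h x hq hq' hne ha with h1 | h1 <;> omega

include h in
theorem block_unique {q q' : V} (hq : q ∈ Q G x) (hq' : q' ∈ Q G x) {s : Finset (Pt G x)}
    (hs : s.card = 3) (h1 : s ⊆ beta G x q) (h2 : s ⊆ beta G x q') : q = q' := by
  by_contra hne
  have := inter_le h x hq hq' (Ne.symm hne)
  have h3 := Finset.card_le_card (Finset.subset_inter h1 h2)
  omega

include h in
theorem beta_injOn {q q' : V} (hq : q ∈ Q G x) (hq' : q' ∈ Q G x)
    (he : beta G x q = beta G x q') : q = q' := by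
  by_contra hne
  have := inter_le h x hq hq' (Ne.symm hne)
  rw [← he, Finset.inter_self, card_beta h x hq] at this
  omega

include h in
theorem exists_block (s : Finset (Pt G x)) (hs : s.card = 3) : ∃ q ∈ Q G x, s ⊆ beta G x q := by
  have hdisj : ((Q G x : Finset V) : Set V).PairwiseDisjoint
      (fun q => (beta G x q).powersetCard 3) := by
    intro q hq q' hq' hne
    rw [Function.onFun, Finset.disjoint_left]
    intro t ht ht'
    rw [mem_powersetCard] at ht ht'
    exact hne (block_unique h x hq hq' ht.2 ht.1 ht'.1)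
  have hc : ((Q G x).biUnion (fun q => (beta G x q).powersetCard 3)).card = 1540 := by
    rw [Finset.card_biUnion hdisj, Finset.sum_congr rfl (fun q hq => by
      rw [card_powersetCard, card_beta h x hq])]
    simp [card_Q h x, Nat.choose]
  have hsub : (Q G x).biUnion (fun q => (beta G x q).powersetCard 3)
      ⊆ (univ : Finset (Pt G x)).powersetCard 3 := by
    intro t ht
    rw [mem_biUnion] at ht
    obtain ⟨q, _, ht⟩ := ht
    rw [mem_powersetCard] at ht ⊢
    exact ⟨Finset.subset_univ _, ht.2⟩
  have heq := Finset.eq_of_subset_of_card_le hsub (by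
    rw [hc, card_powersetCard, card_univ, card_Pt h x]
    decide)
  have hmem : s ∈ (univ : Finset (Pt G x)).powersetCard 3 := by simp [mem_powersetCard, hs]
  rw [← heq, mem_biUnion] at hmem
  obtain ⟨q, hq, hsq⟩ := hmem
  exact ⟨q, hq, (mem_powersetCard.1 hsq).1⟩

include h in
theorem steiner : IsSteinerSystem 3 6 (Bsys G x) := by
  refine ⟨?_, ?_⟩
  · rintro b ⟨q, hq, rfl⟩
    exact card_beta h x hq
  · intro s hs
    obtain ⟨q, hq, hsq⟩ := exists_block h x s hs
    refine ⟨beta G x q, ⟨⟨q, hq, rfl⟩, hsq⟩, ?_⟩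
    rintro b ⟨⟨q', hq', rfl⟩, hsq'⟩
    rw [block_unique h x hq hq' hs hsq hsq']

/-- the identification of vertices -/
def toPB (G : SimpleGraph V) [DecidableRel G.Adj] (x v : V) : Option (Pt G x ⊕ Bsys G x) :=
  if hv : v = x then none
  else if ha : G.Adj x v then some (Sum.inl ⟨v, ha⟩)
  else some (Sum.inr ⟨beta G x v, v, (mem_Q' x).2 ⟨hv, ha⟩, rfl⟩)

theorem toPB_x : toPB G x x = none := by simp [toPB]

theorem toPB_p {p : V} (hp : G.Adj x p) : toPB G x p = some (Sum.inl ⟨p, hp⟩) := by
  have : p ≠ x := fun e => G.loopless.irrefl x (e ▸ hp)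
  simp [toPB, this, hp]

theorem toPB_q {q : V} (hq : q ∈ Q G x) : toPB G x q = some (Sum.inr ⟨beta G x q, q, hq, rfl⟩) := by
  have hq' := (mem_Q' x).1 hq
  simp [toPB, hq'.1, hq'.2]

theorem cases3 (v : V) : v = x ∨ G.Adj x v ∨ v ∈ Q G x := by
  rw [mem_Q']
  tauto

include h in
theorem toPB_bijective : Function.Bijective (toPB G x) := by
  constructor
  · intro u v huv
    rcases cases3 (G := G) x u with hu | hu | hu <;> rcases cases3 (G := G) x v with hv | hv | hv
    · rw [hu, hv]
    · rw [hu, toPB_x, toPB_p x hv] at huv; simp at huv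
    · rw [hu, toPB_x, toPB_q x hv] at huv; simp at huv
    · rw [hv, toPB_x, toPB_p x hu] at huv; simp at huv
    · rw [toPB_p x hu, toPB_p x hv] at huv; simpa using huv
    · rw [toPB_p x hu, toPB_q x hv] at huv; simp at huv
    · rw [hv, toPB_x, toPB_q x hu] at huv; simp at huv
    · rw [toPB_q x hu, toPB_p x hv] at huv; simp at huv
    · rw [toPB_q x hu, toPB_q x hv] at huv
      simp only [Option.some.injEq, Sum.inr.injEq] at huv
      exact beta_injOn h x hu hv (congrArg Subtype.val huv)
  · rintro (_ | ⟨p, hp⟩ | ⟨b, q, hq, rfl⟩)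
    · exact ⟨x, toPB_x x⟩
    · exact ⟨p, toPB_p x hp⟩
    · exact ⟨q, toPB_q x hq⟩

include h in
theorem toPB_adj (u v : V) : (pointBlockGraph (Bsys G x)).Adj (toPB G x u) (toPB G x v) ↔ G.Adj u v := by
  rw [pbg_adj, (toPB_bijective h x).1.ne_iff]
  rcases cases3 (G := G) x u with hu | hu | hu <;> rcases cases3 (G := G) x v with hv | hv | hv
  · rw [hu, hv]; simp
  · rw [hu, toPB_x, toPB_p x hv]; simp [pointBlockRel, hv, hv.ne]
  · rw [hu, toPB_x, toPB_q x hv]; simp [pointBlockRel, ((mem_Q' x).1 hv).2]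
  · rw [hv, toPB_x, toPB_p x hu]; simp [pointBlockRel, hu.symm, hu.symm.ne]
  · rw [toPB_p x hu, toPB_p x hv]
    have : ¬ G.Adj u v := fun huv => h.tri u x v hu.symm hv huv
    simp [pointBlockRel, this]
  · rw [toPB_p x hu, toPB_q x hv]
    simp only [pointBlockRel, mem_beta, or_false]
    constructor
    · rintro ⟨_, h2⟩; exact h2.symm
    · intro h2; exact ⟨h2.ne, h2.symm⟩
  · rw [hv, toPB_x, toPB_q x hu]
    have : ¬ G.Adj u x := fun hh => ((mem_Q' x).1 hu).2 hh.symm
    simp [pointBlockRel, this]
  · rw [toPB_q x hu, toPB_p x hv]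
    simp only [pointBlockRel, mem_beta, false_or]
    constructor
    · rintro ⟨_, h2⟩; exact h2
    · intro h2; exact ⟨h2.ne, h2⟩
  · rw [toPB_q x hu, toPB_q x hv]
    simp only [pointBlockRel]
    constructor
    · rintro ⟨hne, hd⟩
      have hd' : Disjoint (beta G x u) (beta G x v) := hd.elim id (fun hh => hh.symm)
      by_contra ha
      have h1 := F_nadj h x hu hv (Ne.symm hne) ha
      rw [← card_beta_inter, Finset.disjoint_iff_inter_eq_empty.1 hd'] at h1
      simp at h1
    · intro ha
      refine ⟨ha.ne, Or.inl ?_⟩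
      rw [Finset.disjoint_iff_inter_eq_empty, ← Finset.card_eq_zero, card_beta_inter,
        F_adj h x ha, Finset.card_empty]

include h in
theorem reconstruct : ∃ f : G ≃g pointBlockGraph (Bsys G x), f x = none :=
  ⟨⟨Equiv.ofBijective _ (toPB_bijective h x), fun {u v} => toPB_adj h x u v⟩, toPB_x x⟩

end Cfsg.Agent.Lib.Helper28.HSGraph
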