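import Cfsg.Agent.Lib.Helper28.HSGraphC

/-!
A criterion for the parameters (100, 22, 0, 6), and transport along isomorphisms.
-/

set_option autoImplicit false

namespace Cfsg.Agent.Lib.Helper28.HSGraph

open Cfsg Finset

variable {V : Type*} [Fintype V] [DecidableEq V]

theorem isHSG_of_const {G : SimpleGraph V} [DecidableRel G.Adj]
    (hcard : Fintype.card V = 100)
    (hdeg : ∀ v, (univ.filter (fun u => G.Adj v u)).card = 22)
    (htri : ∀ u v w, G.Adj u v → G.Adj v w → ¬ G.Adj u w)
    (hconst : ∀ x y y', y ∈ Q G x → y' ∈ Q G x → (blkV G x y).card = (blkV G x y').card) :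
    IsHSG G := by
  refine ⟨hcard, hdeg, htri, ?_⟩
  intro x y hxy hn
  have hy : y ∈ Q G x := (mem_Q' x).2 ⟨hxy.symm, hn⟩
  have hQ : (Q G x).card = 77 := by
    have h1 : (univ : Finset V) = insert x (univ.filter (fun u => G.Adj x u) ∪ Q G x) := by
      ext u
      simp only [mem_univ, mem_insert, mem_union, mem_filter, true_and, mem_Q', true_iff]
      tauto
    have h2 : x ∉ univ.filter (fun u => G.Adj x u) ∪ Q G x := by
      simp [mem_Q']
    have h3 : Disjoint (univ.filter (fun u => G.Adj x u)) (Q G x) := by
      rw [Finset.disjoint_left]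
      intro u hu hu'
      simp only [mem_filter, mem_univ, true_and] at hu
      exact ((mem_Q' x).1 hu').2 hu
    have h4 := congrArg Finset.card h1
    rw [Finset.card_univ, hcard, Finset.card_insert_of_notMem h2,
      Finset.card_union_of_disjoint h3, hdeg] at h4
    omega
  have hQa : ∀ p ∈ univ.filter (fun u => G.Adj x u),
      ((Q G x).filter (fun q => G.Adj q p)).card = 21 := by
    intro p hp
    simp only [mem_filter, mem_univ, true_and] at hp
    have h1 : univ.filter (fun u => G.Adj p u) = insert x ((Q G x).filter (fun q => G.Adj q p)) := by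
      ext u
      simp only [mem_univ, mem_insert, mem_filter, true_and, mem_Q']
      constructor
      · intro hu
        by_cases hux : u = x
        · exact Or.inl hux
        · exact Or.inr ⟨⟨hux, fun hxu => htri x p u hp hu hxu⟩, hu.symm⟩
      · rintro (rfl | hu)
        · exact hp.symm
        · exact hu.2.symm
    have h2 : x ∉ (Q G x).filter (fun q => G.Adj q p) := by simp [mem_Q']
    have h4 := congrArg Finset.card h1
    rw [hdeg, Finset.card_insert_of_notMem h2] at h4
    omega
  have hs := Finset.sum_card_bipartiteAbove_eq_sum_card_bipartiteBelow (s := Q G x)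
    (t := univ.filter (fun u => G.Adj x u)) (fun q' p => G.Adj q' p)
  simp only [Finset.bipartiteAbove, Finset.bipartiteBelow] at hs
  rw [Finset.sum_congr rfl hQa] at hs
  have e : ∀ q' ∈ Q G x, ((univ.filter (fun u => G.Adj x u)).filter (fun p => G.Adj q' p)).card
      = (blkV G x y).card := by
    intro q' hq'
    rw [← hconst x q' y hq' hy, Finset.filter_filter]
    rfl
  rw [Finset.sum_congr rfl e] at hs
  simp only [sum_const, smul_eq_mul, hQ, hdeg] at hs
  have : (blkV G x y).card = 6 := by omega
  exact this

/-- transport along an isomorphism -/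
theorem isHSG_iso {W : Type*} [Fintype W] [DecidableEq W] {G : SimpleGraph V} [DecidableRel G.Adj]
    {H : SimpleGraph W} [DecidableRel H.Adj] (f : G ≃g H) (h : IsHSG G) : IsHSG H := by
  have key : ∀ (P : W → Prop) [DecidablePred P],
      (univ.filter P).card = (univ.filter (fun u : V => P (f u))).card := by
    intro P _
    symm
    apply Finset.card_bij (fun u _ => f u)
    · intro u hu
      simpa using hu
    · intro u _ u' _ he
      exact f.injective he
    · intro w hw
      refine ⟨f.symm w, ?_, by simp⟩
      simpa using hw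
  refine ⟨?_, ?_, ?_, ?_⟩
  · rw [← Fintype.card_congr f.toEquiv, h.card]
  · intro v
    obtain ⟨v, rfl⟩ := f.surjective v
    rw [key]
    simp only [f.map_adj_iff]
    exact h.deg v
  · intro u v w
    obtain ⟨u, rfl⟩ := f.surjective u
    obtain ⟨v, rfl⟩ := f.surjective v
    obtain ⟨w, rfl⟩ := f.surjective w
    simp only [f.map_adj_iff]
    exact h.tri u v w
  · intro v w
    obtain ⟨v, rfl⟩ := f.surjective v
    obtain ⟨w, rfl⟩ := f.surjective w
    rw [key]
    simp only [f.map_adj_iff, f.injective.ne_iff]
    exact h.mu v w

end Cfsg.Agent.Lib.Helper28.HSGraph
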