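import Cfsg.Agent.Lib.Helper28.M24Chain

/-!
Consequences of the stabilizer chain: multiple transitivity in Mathlib's form, the Steiner system of octads,
transitivity on octads, orders of stabilizers through orbit sizes.
-/

set_option autoImplicit false

namespace Cfsg.Agent.Lib.Helper28

open Cfsg
open scoped Pointwise

theorem coe_smul_pt (g : M24) (p : GolayPt) : g • p = (g : Equiv.Perm GolayPt) p := rfl

theorem coe_smul_finset (g : M24) (s : Finset GolayPt) : g • s = (g : Equiv.Perm GolayPt) • s := rfl

/-- `M24` is 5-transitive (Mathlib's formulation). -/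
theorem M24_isMultiplyPretransitive : MulAction.IsMultiplyPretransitive M24 GolayPt 5 := by
  rw [MulAction.isMultiplyPretransitive_iff]
  intro x y
  obtain ⟨gx, hgx, hx⟩ := exists_M24_map_base (List.ofFn x) (by simp) (List.nodup_ofFn.2 x.injective)
  obtain ⟨gy, hgy, hy⟩ := exists_M24_map_base (List.ofFn y) (by simp) (List.nodup_ofFn.2 y.injective)
  refine ⟨⟨gy⁻¹ * gx, M24.mul_mem (M24.inv_mem hgy) hgx⟩, ?_⟩
  have h : List.ofFn (gx ∘ x) = List.ofFn (gy ∘ y) := by
    rw [← List.map_ofFn, ← List.map_ofFn, hx, hy]; simp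
  have h2 := List.ofFn_injective h
  apply DFunLike.ext
  intro i
  have h3 : gx (x i) = gy (y i) := congrFun h2 i
  show (gy⁻¹ * gx) (x i) = y i
  rw [Equiv.Perm.mul_apply, h3]; simp

theorem base5_toFinset : (([23, 0, 1, 2, 3] : List ℕ).map ptOf).toFinset = un 8388623 := by
  decide +kernel

/-- every 5-set can be moved by `M24` to the set of the first five base points. -/
theorem exists_M24_smul_five (s : Finset GolayPt) (hs : s.card = 5) :
    ∃ g ∈ M24, g • s = un 8388623 := by
  obtain ⟨g, hg, h⟩ := exists_M24_map_base s.toList (by simp [hs]) s.nodup_toList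
  refine ⟨g, hg, ?_⟩
  rw [Finset.length_toList, hs] at h
  rw [← base5_toFinset, smul_finset_eq_image]
  have : (s.toList.map g).toFinset = s.image g := by
    ext p; simp
  rw [← this, h]; rfl

theorem isOct_O5 : isOct O5 = true := by decide +kernel

theorem octad_eq_of_five {o o' : Finset GolayPt} (ho : o ∈ octads) (ho' : o' ∈ octads)
    (h : 5 ≤ (o ∩ o').card) : o = o' := by
  rw [mem_octads_iff] at ho ho'
  by_contra hne
  have := popc_land_le_four ho.1 ho'.1 ho.2 ho'.2 (fun h => hne (mk_injective h))
  rw [← mk_inter, ← card_eq_popc] at this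
  omega

theorem inv_smul_mem_octads {g : Equiv.Perm GolayPt} (hg : g ∈ M24) {o : Finset GolayPt}
    (ho : o ∈ octads) : g⁻¹ • o ∈ octads := smul_mem_octads (M24.inv_mem hg) ho

/-- every octad can be moved by `M24` to the octad `O5`. -/
theorem exists_M24_smul_octad {o : Finset GolayPt} (ho : o ∈ octads) : ∃ g ∈ M24, g • o = un O5 := by
  have h8 : o.card = 8 := by
    rw [mem_octads_iff, ← card_eq_popc] at ho; exact ho.2
  obtain ⟨t, hto, ht⟩ := Finset.exists_subset_card_eq (s := o) (n := 5) (by omega)
  obtain ⟨g, hg, h⟩ := exists_M24_smul_five t ht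
  refine ⟨g, hg, octad_eq_of_five (smul_mem_octads hg ho) (un_mem_octads isOct_O5) ?_⟩
  have hsub : un 8388623 ⊆ g • o ∩ un O5 := by
    rw [Finset.subset_inter_iff]
    constructor
    · rw [← h]; exact Finset.smul_finset_subset_smul_finset hto
    · rw [subset_iff_land, mk_un (by decide), mk_un (by decide)]; decide
  have := Finset.card_le_card hsub
  rw [card_un] at this
  exact le_trans (by decide) this

theorem M24_transitive_octads {o o' : Finset GolayPt} (ho : o ∈ octads) (ho' : o' ∈ octads) :
    ∃ g ∈ M24, g • o = o' := by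
  obtain ⟨g, hg, h⟩ := exists_M24_smul_octad ho
  obtain ⟨g', hg', h'⟩ := exists_M24_smul_octad ho'
  refine ⟨g'⁻¹ * g, M24.mul_mem (M24.inv_mem hg') hg, ?_⟩
  rw [mul_smul, h, ← h', inv_smul_smul]

/-- the octads form a Steiner system `S(5, 8, 24)`. -/
theorem octads_steiner : IsSteinerSystem 5 8 octads := by
  refine ⟨fun b hb => ?_, fun s hs => ?_⟩
  · rw [mem_octads_iff, ← card_eq_popc] at hb; exact hb.2
  · obtain ⟨g, hg, h⟩ := exists_M24_smul_five s hs
    have hsub : s ⊆ g⁻¹ • un O5 := by
      have h1 : un 8388623 ⊆ un O5 := by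
        rw [subset_iff_land, mk_un (by decide), mk_un (by decide)]; decide
      have h2 : s = g⁻¹ • un 8388623 := by rw [← h, inv_smul_smul]
      rw [h2]; exact Finset.smul_finset_subset_smul_finset h1
    refine ⟨g⁻¹ • un O5, ⟨inv_smul_mem_octads hg (un_mem_octads isOct_O5), hsub⟩, ?_⟩
    rintro b ⟨hb, hsb⟩
    apply octad_eq_of_five hb (inv_smul_mem_octads hg (un_mem_octads isOct_O5))
    rw [← hs]
    exact Finset.card_le_card (Finset.subset_inter hsb hsub)

/-- orbit-stabilizer for `M24`. -/
theorem card_stabilizer_mul_ncard_orbit {X : Type*} [MulAction M24 X] (x : X) :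
    Nat.card (MulAction.stabilizer M24 x) * (MulAction.orbit M24 x).ncard = 244823040 := by
  rw [← MulAction.index_stabilizer, Subgroup.card_mul_index, card_M24]

end Cfsg.Agent.Lib.Helper28
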