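import Cfsg.Agent.Lib.Helper28.LeechHS
import Cfsg.Agent.Lib.Helper28.M24Trans

/-!
The rank 3 action of the Higman–Sims group on 100 points.
-/

set_option autoImplicit false

namespace Cfsg.Agent.Lib.Helper28

open Cfsg
open scoped Pointwise

theorem dot_vPlus (x : GolayPt → ℤ) :
    dotInt ((vPlus : leechLattice) : GolayPt → ℤ) x = 4 * x none + 4 * x (some 0) := by
  rw [vPlus_coe]
  unfold dotInt
  simp only [Pi.add_apply, add_mul, Finset.sum_add_distrib, Pi.single_apply, ite_mul, zero_mul]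
  simp

/-- the 22 neighbours of `vPlus`. -/
def Y22 : Set leechLattice :=
  {y | y ∈ T5 ∧ dotInt ((vPlus : leechLattice) : GolayPt → ℤ) (y : GolayPt → ℤ) = 8}

/-- the 77 other points. -/
def Y77 : Set leechLattice :=
  {y | y ∈ T5 ∧ y ≠ vPlus ∧ dotInt ((vPlus : leechLattice) : GolayPt → ℤ) (y : GolayPt → ℤ) ≠ 8}

theorem cen22 : ∑ p ∈ ({(1, 1)} : Finset (ℤ × ℤ)),
    leechCnt2 {p.1} {p.2} A5 h6 h6 h6 (192 + 24 - 4 * p.1).toNat (2 ^ 80) = 22 := by decide +kernel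

theorem ncard_Y22 : Y22.ncard = 22 := by
  rw [← cen22, ← census_u5 24 (by decide) (by decide) {(1, 1)} (by
      intro p hp
      rw [Finset.mem_singleton] at hp
      rw [hp]
      exact ⟨by decide +kernel, by decide +kernel⟩)]
  have e0 : Y22 = {y : leechLattice | (sqNorm (y : GolayPt → ℤ) = 32 ∧
      dotInt ((u5 : leechLattice) : GolayPt → ℤ) (y : GolayPt → ℤ) = 24 ∧
      dotInt ((vMinus : leechLattice) : GolayPt → ℤ) (y : GolayPt → ℤ) = 0) ∧
      dotInt ((vPlus : leechLattice) : GolayPt → ℤ) (y : GolayPt → ℤ) = 8} := rfl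
  rw [e0, ← ncard_val (fun x => (sqNorm x = 32 ∧ dotInt ((u5 : leechLattice) : GolayPt → ℤ) x = 24 ∧
      dotInt ((vMinus : leechLattice) : GolayPt → ℤ) x = 0) ∧
      dotInt ((vPlus : leechLattice) : GolayPt → ℤ) x = 8)]
  congr 1
  ext x
  simp only [Set.mem_ofPred_eq, dot_vMinus, dot_vPlus, Finset.mem_singleton, Prod.mk.injEq]
  constructor
  · rintro ⟨h1, ⟨h2, h3, h4⟩, h5⟩
    exact ⟨h1, h2, h3, by omega, by omega⟩
  · rintro ⟨h1, h2, h3, h4, h5⟩
    exact ⟨h1, ⟨h2, h3, by omega⟩, by omega⟩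

theorem ncard_Y77 : Y77.ncard = 77 := by
  have h1 : Y77 = T5 \ insert vPlus Y22 := by
    ext y
    simp only [Y77, Y22, Set.mem_ofPred_eq, Set.mem_sdiff, Set.mem_insert_iff, not_or, not_and]
    constructor
    · rintro ⟨a, b, c⟩; exact ⟨a, b, fun _ => c⟩
    · rintro ⟨a, b, c⟩; exact ⟨a, b, c a⟩
  have hfin : Y22.Finite := finite_T5.subset fun y hy => hy.1
  have h2 : vPlus ∉ Y22 := by
    rintro ⟨_, h⟩
    rw [dot_vPlus, vPlus_coe] at h
    revert h
    decide +kernel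
  have h3 : insert vPlus Y22 ⊆ T5 := by
    intro y hy
    rcases hy with rfl | hy
    · exact vPlus_mem_T5
    · exact hy.1
  rw [h1, Set.ncard_sdiff h3 (hfin.insert _), ncard_T5, Set.ncard_insert_of_notMem h2 hfin, ncard_Y22]

theorem shp3_mem (j : GolayPt) : shp {j} ∅ ∈ leechLattice :=
  mem_of_inL (by revert j; decide +kernel)

/-- the vector `(1, ..., -3, ..., 1)`. -/
def s3 (j : GolayPt) : leechLattice := ⟨shp {j} ∅, shp3_mem j⟩

theorem s3_coe (j : GolayPt) : ((s3 j : leechLattice) : GolayPt → ℤ) = shp {j} ∅ := rfl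

theorem s3_facts : ∀ j : GolayPt, j ≠ none → j ≠ some 0 → sqNorm (shp {j} ∅) = 32 ∧
    4 * shp {j} ∅ none + ∑ i, shp {j} ∅ i = 24 ∧
    4 * shp {j} ∅ none - 4 * shp {j} ∅ (some 0) = 0 ∧
    4 * shp {j} ∅ none + 4 * shp {j} ∅ (some 0) = 8 := by decide +kernel

theorem s3_mem_Y22 {j : GolayPt} (h1 : j ≠ none) (h2 : j ≠ some 0) : s3 j ∈ Y22 := by
  obtain ⟨a, b, c, d⟩ := s3_facts j h1 h2
  refine ⟨⟨a, ?_, ?_⟩, ?_⟩
  · rw [dot_u5]; exact b
  · rw [dot_vMinus]; exact c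
  · rw [dot_vPlus]; exact d

theorem s3_injective : Function.Injective s3 := by
  intro j j' h
  have h1 := congrFun (congrArg Subtype.val h) j
  rw [s3_coe, s3_coe] at h1
  unfold shp at h1
  by_contra hne
  simp [hne] at h1

theorem Y22_eq : Y22 = s3 '' {j | j ≠ none ∧ j ≠ some 0} := by
  symm
  apply Set.eq_of_subset_of_ncard_le _ _ (finite_T5.subset fun y hy => hy.1)
  · rintro y ⟨j, ⟨h1, h2⟩, rfl⟩
    exact s3_mem_Y22 h1 h2
  · rw [ncard_Y22, Set.ncard_image_of_injective _ s3_injective]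
    have : {j : GolayPt | j ≠ none ∧ j ≠ some 0} = ↑((Finset.univ : Finset GolayPt) \ {none, some 0}) := by
      ext j; simp
    rw [this, Set.ncard_coe_finset, card_compl_two]

theorem pEl_s3 (σ : M24) (j : GolayPt) : pEl σ • s3 j = s3 (σ.1 j) := by
  apply Subtype.ext
  funext k
  rw [pEl_smul, s3_coe, s3_coe]
  have := congrFun (shp_perm σ.1 {j} ∅) k
  rw [this]
  have e1 : σ.1 • (∅ : Finset GolayPt) = ∅ := by simp
  have e2 : σ.1 • ({j} : Finset GolayPt) = {σ.1 j} := by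
    rw [Finset.smul_finset_singleton]; rfl
  rw [e1, e2]

/-- twice the characteristic function of a code word. -/
def chi2 (c : {c : Finset GolayPt // c ∈ GC}) : leechLattice := ⟨fun i => 2 * chi c.1 i, two_chi_mem c.2⟩

theorem chi2_coe (c : {c : Finset GolayPt // c ∈ GC}) (i : GolayPt) :
    ((chi2 c : leechLattice) : GolayPt → ℤ) i = 2 * chi c.1 i := rfl

theorem chi2_injective : Function.Injective chi2 := by
  intro c c' h
  apply Subtype.ext
  ext i
  have h1 := congrFun (congrArg Subtype.val h) i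
  rw [chi2_coe, chi2_coe] at h1
  unfold chi at h1
  by_cases a : i ∈ c.1 <;> by_cases b : i ∈ c'.1 <;> simp [a, b] at h1 ⊢

theorem chi2_mem_Y77 {c : {c : Finset GolayPt // c ∈ GC}} (h8 : c.1.card = 8) (h1 : none ∈ c.1)
    (h2 : some 0 ∈ c.1) : chi2 c ∈ Y77 := by
  have e1 : ((chi2 c : leechLattice) : GolayPt → ℤ) none = 2 := by rw [chi2_coe]; simp [chi, h1]
  have e2 : ((chi2 c : leechLattice) : GolayPt → ℤ) (some 0) = 2 := by rw [chi2_coe]; simp [chi, h2]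
  have e3 : ∑ i, ((chi2 c : leechLattice) : GolayPt → ℤ) i = 16 := by
    simp only [chi2_coe]
    rw [← Finset.mul_sum, sum_chi, h8]; rfl
  have e4 : sqNorm ((chi2 c : leechLattice) : GolayPt → ℤ) = 32 := by
    unfold sqNorm
    simp only [chi2_coe]
    have : ∀ i, (2 * chi c.1 i) ^ 2 = 4 * chi c.1 i := by
      intro i
      have := chi_sq c.1 i
      nlinarith
    simp only [this]
    rw [← Finset.mul_sum, sum_chi, h8]; rfl
  refine ⟨⟨e4, ?_, ?_⟩, ?_, ?_⟩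
  · rw [dot_u5, e1, e3]; rfl
  · rw [dot_vMinus, e1, e2]; rfl
  · intro h
    have := congrFun (congrArg Subtype.val h) none
    rw [e1, vPlus_coe] at this
    revert this
    decide +kernel
  · rw [dot_vPlus, e1, e2]; decide

theorem card_oct2 : (GCfin.filter fun c => c.card = 8 ∧ none ∈ c ∧ some 0 ∈ c).card = 77 := by
  rw [Finset.card_filter]
  have h := sum_GCfin2 (fun b1 b2 w => if w = 8 ∧ b1 = true ∧ b2 = true then 1 else 0)
  simp only [decide_eq_true_eq] at h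
  rw [h]
  decide

theorem Y77_eq : Y77 = chi2 '' {c | c.1.card = 8 ∧ none ∈ c.1 ∧ some 0 ∈ c.1} := by
  symm
  apply Set.eq_of_subset_of_ncard_le _ _ (finite_T5.subset fun y hy => hy.1)
  · rintro y ⟨c, ⟨h8, h1, h2⟩, rfl⟩
    exact chi2_mem_Y77 h8 h1 h2
  · rw [ncard_Y77, Set.ncard_image_of_injective _ chi2_injective, ← card_oct2,
      ← Set.ncard_coe_finset, ← Set.ncard_image_of_injective _ Subtype.val_injective]
    apply le_of_eq
    congr 1
    ext c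
    simp only [Finset.coe_filter, Set.mem_ofPred_eq, mem_GCfin, Set.mem_image]
    constructor
    · rintro ⟨h1, h2⟩; exact ⟨⟨c, h1⟩, h2, rfl⟩
    · rintro ⟨⟨c', h1⟩, h2, rfl⟩; exact ⟨h1, h2⟩

theorem pEl_chi2 (σ : M24) (c : {c : Finset GolayPt // c ∈ GC}) :
    pEl σ • chi2 c = chi2 ⟨σ.1 • c.1, gc_smul σ.2 c.2⟩ := by
  apply Subtype.ext
  funext k
  rw [pEl_smul, chi2_coe, chi2_coe]
  have h : k ∈ σ.1 • c.1 ↔ σ.1.symm k ∈ c.1 := by
    have := mem_smul_finset_iff σ.1 c.1 (σ.1.symm k)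
    rwa [Equiv.apply_symm_apply] at this
  unfold chi
  simp only [h]


theorem M5_trans22 {y y' : leechLattice} (hy : y ∈ Y22) (hy' : y' ∈ Y22) :
    ∃ g : Co0, g • u5 = u5 ∧ g • vMinus = vMinus ∧ g • vPlus = vPlus ∧ g • y = y' := by
  rw [Y22_eq] at hy hy'
  obtain ⟨j, ⟨h1, h2⟩, rfl⟩ := hy
  obtain ⟨j', ⟨h1', h2'⟩, rfl⟩ := hy'
  obtain ⟨σ, hσ, hmap⟩ := exists_M24_map_list [none, some 0, j] [none, some 0, j'] rfl (by simp)
    (by simp [Ne.symm h1, Ne.symm h2]) (by simp [Ne.symm h1', Ne.symm h2'])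
  simp only [List.map_cons, List.map_nil, List.cons.injEq, and_true] at hmap
  obtain ⟨a, b, c⟩ := hmap
  obtain ⟨e1, e2, e3⟩ := pEl_fix (σ := ⟨σ, hσ⟩) a b
  exact ⟨pEl ⟨σ, hσ⟩, e1, e2, e3, by rw [pEl_s3]; exact congrArg s3 c⟩

theorem exists_three {s : Finset GolayPt} (h : 3 ≤ s.card) :
    ∃ a b c, [a, b, c].Nodup ∧ a ∈ s ∧ b ∈ s ∧ c ∈ s := by
  obtain ⟨t, hts, ht⟩ := Finset.exists_subset_card_eq h
  have hl : t.toList.length = 3 := by rw [Finset.length_toList]; exact ht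
  have hnd := t.nodup_toList
  have hmem : ∀ x ∈ t.toList, x ∈ s := fun x hx => hts (Finset.mem_toList.1 hx)
  match h : t.toList, hl with
  | [a, b, c], _ =>
    rw [h] at hnd hmem
    exact ⟨a, b, c, hnd, hmem a (by simp), hmem b (by simp), hmem c (by simp)⟩

theorem M5_trans77 {y y' : leechLattice} (hy : y ∈ Y77) (hy' : y' ∈ Y77) :
    ∃ g : Co0, g • u5 = u5 ∧ g • vMinus = vMinus ∧ g • vPlus = vPlus ∧ g • y = y' := by
  rw [Y77_eq] at hy hy'
  obtain ⟨c, ⟨h8, h1, h2⟩, rfl⟩ := hy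
  obtain ⟨c', ⟨h8', h1', h2'⟩, rfl⟩ := hy'
  have k1 : 3 ≤ (c.1 \ {none, some 0}).card := by
    rw [card_sdiff_two, h8]; simp [bn, h1, h2]
  have k1' : 3 ≤ (c'.1 \ {none, some 0}).card := by
    rw [card_sdiff_two, h8']; simp [bn, h1', h2']
  obtain ⟨p, q, r, hnd, hp, hq, hr⟩ := exists_three k1
  obtain ⟨p', q', r', hnd', hp', hq', hr'⟩ := exists_three k1'
  simp only [Finset.mem_sdiff, Finset.mem_insert, Finset.mem_singleton, not_or] at hp hq hr hp' hq' hr'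
  have hN : [none, some 0, p, q, r].Nodup := by
    rw [List.nodup_cons, List.nodup_cons]
    refine ⟨?_, ?_, hnd⟩
    · simp [Ne.symm hp.2.1, Ne.symm hq.2.1, Ne.symm hr.2.1]
    · simp [Ne.symm hp.2.2, Ne.symm hq.2.2, Ne.symm hr.2.2]
  have hN' : [none, some 0, p', q', r'].Nodup := by
    rw [List.nodup_cons, List.nodup_cons]
    refine ⟨?_, ?_, hnd'⟩
    · simp [Ne.symm hp'.2.1, Ne.symm hq'.2.1, Ne.symm hr'.2.1]
    · simp [Ne.symm hp'.2.2, Ne.symm hq'.2.2, Ne.symm hr'.2.2]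
  obtain ⟨σ, hσ, hmap⟩ := exists_M24_map_list [none, some 0, p, q, r] [none, some 0, p', q', r'] rfl
    (by simp) hN hN'
  simp only [List.map_cons, List.map_nil, List.cons.injEq, and_true] at hmap
  obtain ⟨a, b, m1, m2, m3⟩ := hmap
  obtain ⟨e1, e2, e3⟩ := pEl_fix (σ := ⟨σ, hσ⟩) a b
  refine ⟨pEl ⟨σ, hσ⟩, e1, e2, e3, ?_⟩
  rw [pEl_chi2]
  congr 1
  apply Subtype.ext
  show σ • c.1 = c'.1
  have ho : c.1 ∈ octads := by
    rw [mem_octads_iff, ← card_eq_popc]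
    exact ⟨(mem_supports_iff _).1 c.2, h8⟩
  have ho' : c'.1 ∈ octads := by
    rw [mem_octads_iff, ← card_eq_popc]
    exact ⟨(mem_supports_iff _).1 c'.2, h8'⟩
  apply octad_eq_of_five (smul_mem_octads hσ ho) ho'
  have hsub : [none, some 0, p', q', r'].toFinset ⊆ σ • c.1 ∩ c'.1 := by
    intro z hz
    rw [List.mem_toFinset] at hz
    simp only [List.mem_cons, List.not_mem_nil, or_false] at hz
    rw [Finset.mem_inter]
    rcases hz with rfl | rfl | rfl | rfl | rfl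
    · exact ⟨by rw [← a]; exact (mem_smul_finset_iff σ c.1 _).2 h1, h1'⟩
    · exact ⟨by rw [← b]; exact (mem_smul_finset_iff σ c.1 _).2 h2, h2'⟩
    · exact ⟨by rw [← m1]; exact (mem_smul_finset_iff σ c.1 _).2 hp.1, hp'.1⟩
    · exact ⟨by rw [← m2]; exact (mem_smul_finset_iff σ c.1 _).2 hq.1, hq'.1⟩
    · exact ⟨by rw [← m3]; exact (mem_smul_finset_iff σ c.1 _).2 hr.1, hr'.1⟩
  have := Finset.card_le_card hsub
  rw [List.toFinset_card_of_nodup hN'] at this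
  exact this

/-- reduction of a pointed configuration to the standard one. -/
theorem exists_to_std3 (v w x : leechLattice) (hv : sqNorm (v : GolayPt → ℤ) = 48)
    (hw : sqNorm (w : GolayPt → ℤ) = 48)
    (hvw : dotInt (v : GolayPt → ℤ) (w : GolayPt → ℤ) = -32)
    (hx : sqNorm (x : GolayPt → ℤ) = 32 ∧ dotInt (v : GolayPt → ℤ) (x : GolayPt → ℤ) = 24 ∧
      dotInt (w : GolayPt → ℤ) (x : GolayPt → ℤ) = -24) :
    ∃ g : Co0, g • v = u5 ∧ g • w = vMinus - u5 ∧ g • x = vPlus := by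
  obtain ⟨g0, h1, h2⟩ := exists_to_std v w hv hw hvw
  obtain ⟨h, hh, hx2⟩ := H5_trans ((mem_T5_iff_of_std h1 h2 x).2 hx) vPlus_mem_T5
  obtain ⟨a, b⟩ := mem_H5.1 hh
  refine ⟨h * g0, ?_, ?_, ?_⟩
  · rw [mul_smul, h1, a]
  · rw [mul_smul, h2, co0_sub, a, b]
  · rw [mul_smul, hx2]

end Cfsg.Agent.Lib.Helper28
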