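import Cfsg.Agent.Lib.Helper28.SimpleCrit

/-!
More on normal subgroups of a group with a self-centralising Sylow subgroup of prime order.
-/

set_option autoImplicit false

namespace Cfsg.Agent.Lib.Helper28

open scoped Pointwise

/-- a normal subgroup of order divisible by `p` contains every Sylow subgroup of order `p`. -/
theorem mem_of_dvd_card {G : Type*} [Group G] [Finite G] (N : Subgroup G) [hN : N.Normal] {p : ℕ}
    [hp : Fact p.Prime] (ρ : G) (hρ : orderOf ρ = p) (hp2 : ¬ p ^ 2 ∣ Nat.card G)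
    (h : p ∣ Nat.card N) : ρ ∈ N := by
  obtain ⟨x, hx⟩ := exists_prime_orderOf_dvd_card' p h
  have hx' : orderOf (x : G) = p := by rw [Subgroup.orderOf_coe]; exact hx
  have hcard : ∀ y : G, orderOf y = p → Nat.card (Subgroup.zpowers y) = p := by
    intro y hy; rw [Nat.card_zpowers, hy]
  have hdvd : p ∣ Nat.card G := (hcard ρ hρ) ▸ Subgroup.card_subgroup_dvd_card _
  have hfac : (Nat.card G).factorization p = 1 := by
    have h1 : 0 < (Nat.card G).factorization p :=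
      hp.out.factorization_pos_of_dvd Nat.card_pos.ne' hdvd
    have h2 : ¬ 2 ≤ (Nat.card G).factorization p := by
      intro h
      exact hp2 ((hp.out.pow_dvd_iff_le_factorization Nat.card_pos.ne').2 h)
    omega
  let P : Sylow p G := Sylow.ofCard (Subgroup.zpowers ρ) (by rw [hcard ρ hρ, hfac, pow_one])
  let Q : Sylow p G := Sylow.ofCard (Subgroup.zpowers (x : G)) (by rw [hcard _ hx', hfac, pow_one])
  have hP : (P : Subgroup G) = Subgroup.zpowers ρ := Sylow.coe_ofCard _ _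
  have hQ : (Q : Subgroup G) = Subgroup.zpowers (x : G) := Sylow.coe_ofCard _ _
  obtain ⟨g, hg⟩ := MulAction.exists_smul_eq G Q P
  have h1 : ρ ∈ (g • Q : Sylow p G) := by
    rw [hg]
    show ρ ∈ (P : Subgroup G)
    rw [hP]; exact Subgroup.mem_zpowers ρ
  rw [Sylow.smul_def] at h1
  have h2 : ρ ∈ MulAut.conj g • (Q : Subgroup G) := h1
  rw [Subgroup.mem_pointwise_smul_iff_inv_smul_mem, hQ] at h2
  have h3 : (MulAut.conj g)⁻¹ • ρ ∈ N := by
    have : Subgroup.zpowers (x : G) ≤ N := by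
      rw [Subgroup.zpowers_le]; exact x.2
    exact this h2
  have h4 : (MulAut.conj g)⁻¹ • ρ = g⁻¹ * ρ * g := by
    rw [MulAut.smul_def, ← map_inv, MulAut.conj_apply, inv_inv]
  rw [h4] at h3
  have h5 := hN.conj_mem _ h3 g
  have h6 : g * (g⁻¹ * ρ * g) * g⁻¹ = ρ := by group
  rwa [h6] at h5

theorem conj_pow_zpow {G : Type*} [Group G] (h ρ : G) (j : ℤ) (hj : h * ρ * h⁻¹ = ρ ^ j) (k : ℕ) :
    h ^ k * ρ * (h ^ k)⁻¹ = ρ ^ (j ^ k) := by
  induction k with
  | zero => simp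
  | succ k ih =>
    have e : h ^ (k + 1) * ρ * (h ^ (k + 1))⁻¹ = h * (h ^ k * ρ * (h ^ k)⁻¹) * h⁻¹ := by
      rw [pow_succ']; group
    rw [e, ih, ← conj_zpow, hj, ← zpow_mul, pow_succ']

/-- modulo a normal subgroup containing a self-centralising Sylow subgroup of prime order `p`, the
group has exponent dividing `p - 1`. -/
theorem pow_mem_of_frattini {G : Type*} [Group G] [Finite G] (N : Subgroup G) [hN : N.Normal]
    {p : ℕ} [hp : Fact p.Prime] (ρ : G) (hρ : orderOf ρ = p) (hp2 : ¬ p ^ 2 ∣ Nat.card G)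
    (hC : ∀ g : G, g * ρ = ρ * g → g ∈ Subgroup.zpowers ρ) (hρN : ρ ∈ N) (g : G) :
    g ^ (p - 1) ∈ N := by
  obtain ⟨h, n, hn, hh, rfl⟩ := exists_mul_of_frattini N ρ hρ hp2 hρN g
  obtain ⟨j, hj⟩ := Subgroup.mem_zpowers_iff.1 hh
  have h1 := conj_pow_zpow h ρ j hj.symm (p - 1)
  have hcop : IsCoprime j (p : ℤ) := by
    rw [isCoprime_comm, Prime.coprime_iff_not_dvd (Nat.prime_iff_prime_int.1 hp.out)]
    intro hd
    have h2 : ρ ^ j = 1 := by
      rw [← hρ] at hd
      exact (orderOf_dvd_iff_zpow_eq_one).1 hd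
    rw [h2] at hj
    have h3 : ρ = 1 := by
      have : h * ρ * h⁻¹ = 1 := hj.symm
      rw [mul_inv_eq_one] at this
      exact mul_left_cancel (this.trans (mul_one h).symm)
    rw [h3, orderOf_one] at hρ
    exact hp.out.one_lt.ne hρ
  have h2 : ρ ^ (j ^ (p - 1)) = ρ ^ (1 : ℤ) := by
    rw [zpow_eq_zpow_iff_modEq, hρ]
    exact Int.ModEq.pow_card_sub_one_eq_one hp.out hcop
  rw [h2, zpow_one, mul_inv_eq_iff_eq_mul] at h1
  have h3 : h ^ (p - 1) ∈ N := by
    have : Subgroup.zpowers ρ ≤ N := by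
      rw [Subgroup.zpowers_le]; exact hρN
    exact this (hC _ h1)
  rw [← QuotientGroup.eq_one_iff] at h3 ⊢
  have h4 : ((h * n : G) : G ⧸ N) = (h : G ⧸ N) := by
    rw [QuotientGroup.mk_mul, (QuotientGroup.eq_one_iff n).2 hn, mul_one]
  rw [QuotientGroup.mk_pow, h4, ← QuotientGroup.mk_pow]
  exact h3

theorem normal_cases_of_self_centralizing {G : Type*} [Group G] [Finite G] (N : Subgroup G)
    [hN : N.Normal] {p : ℕ} [hp : Fact p.Prime] (ρ : G) (hρ : orderOf ρ = p)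
    (hp2 : ¬ p ^ 2 ∣ Nat.card G)
    (hC : ∀ g : G, g * ρ = ρ * g → g ∈ Subgroup.zpowers ρ) (D : ℕ) (hD : Nat.card G = D * p)
    (hpow : ∀ r k : ℕ, r.Prime → 0 < k → r ^ k ∣ D → r ^ k % p ≠ 1) :
    N = ⊥ ∨ ∀ g : G, g ^ (p - 1) ∈ N := by
  by_cases h : p ∣ Nat.card N
  · right
    exact pow_mem_of_frattini N ρ hρ hp2 hC (mem_of_dvd_card N ρ hρ hp2 h)
  · left
    apply eq_bot_of_fpf N ρ (hρ ▸ pow_orderOf_eq_one ρ) h _ D _ hpow
    · intro n hn hc
      have h1 : n * ρ = ρ * n := by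
        rw [mul_inv_eq_iff_eq_mul] at hc
        exact hc.symm
      have h2 := hC n h1
      have h3 : orderOf n ∣ p := by
        rw [← hρ, ← Nat.card_zpowers ρ]
        have := orderOf_dvd_natCard (⟨n, h2⟩ : Subgroup.zpowers ρ)
        rwa [Subgroup.orderOf_mk] at this
      have h4 : orderOf n ∣ Nat.card N := by
        have := orderOf_dvd_natCard (⟨n, hn⟩ : N)
        rwa [Subgroup.orderOf_mk] at this
      rcases (Nat.dvd_prime hp.out).1 h3 with h5 | h5
      · exact orderOf_eq_one_iff.1 h5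
      · rw [h5] at h4; exact absurd h4 h
    · have h1 : Nat.card N ∣ D * p := hD ▸ Subgroup.card_subgroup_dvd_card N
      have h2 : Nat.Coprime (Nat.card N) p := ((Nat.Prime.coprime_iff_not_dvd hp.out).2 h).symm
      exact h2.dvd_of_dvd_mul_right h1

/-- Prime powers dividing `2 ^ a * 3 ^ b * 5 ^ c * 7 ^ d`. -/
theorem prime_pow_cases7 {r k a b c d : ℕ} (hr : r.Prime)
    (h : r ^ k ∣ 2 ^ a * 3 ^ b * 5 ^ c * 7 ^ d) (hk : 0 < k) :
    (r = 2 ∧ k ≤ a) ∨ (r = 3 ∧ k ≤ b) ∨ (r = 5 ∧ k ≤ c) ∨ (r = 7 ∧ k ≤ d) := by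
  by_cases h7 : r = 7
  · subst h7
    right; right; right
    refine ⟨rfl, ?_⟩
    have hc : Nat.Coprime (7 ^ k) (2 ^ a * 3 ^ b * 5 ^ c) := by
      apply Nat.Coprime.pow_left
      apply Nat.Coprime.mul_right
      · apply Nat.Coprime.mul_right <;> apply Nat.Coprime.pow_right <;> decide
      · apply Nat.Coprime.pow_right; decide
    exact (Nat.pow_dvd_pow_iff_le_right (by norm_num)).1 (hc.dvd_of_dvd_mul_left h)
  · have hc : Nat.Coprime (r ^ k) (7 ^ d) := by
      apply Nat.Coprime.pow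
      exact (Nat.coprime_primes hr (by norm_num)).2 h7
    rcases prime_pow_cases hr (hc.dvd_of_dvd_mul_right h) hk with h1 | h1 | h1
    · exact Or.inl h1
    · exact Or.inr (Or.inl h1)
    · exact Or.inr (Or.inr (Or.inl h1))

end Cfsg.Agent.Lib.Helper28
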