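import Cfsg.Agent.Lib.Helper28.M22Data
import Cfsg.Agent.Lib.Helper28.SimpleCrit2

/-!
The stabiliser of two points in `M24` is simple.
-/

set_option autoImplicit false

namespace Cfsg.Agent.Lib.Helper28

open Cfsg Cfsg.Agent.Lib.Helper3.M24T Cfsg.Agent.Lib.Helper3.M24Gen
open scoped Pointwise


theorem cube_of_o3 {g : Equiv.Perm GolayPt} (h : o3 (tblOf g) = true) : g * (g * g) = 1 := by
  apply tblOf_injective
  rw [tblOf_mul, tblOf_mul, tblOf_one]
  exact beq_iff_eq.1 h

theorem mem_of_prod3 (K : Subgroup (Equiv.Perm GolayPt))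
    (hK : ∀ x ∈ stabL [23, 0], x * (x * x) = 1 → x ∈ K)
    {g : Equiv.Perm GolayPt} (hg : g ∈ stabL [23, 0]) {t : List ℕ}
    (h : prod3 t (tblOf g) = true) : g ∈ K := by
  simp only [prod3, Bool.and_eq_true, beq_iff_eq] at h
  obtain ⟨⟨⟨⟨h1, h2⟩, h3⟩, h4⟩, h5⟩ := h
  have ht := isTbl_of_inM24 h3
  have hτ : permOf t ∈ stabL [23, 0] := by
    rw [mem_stabL]
    refine ⟨permOf_mem_M24 h3, ?_⟩
    intro i hi
    simp only [List.mem_cons, List.not_mem_nil, or_false] at hi
    rcases hi with rfl | rfl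
    · rw [permOf_ptOf h3 (by norm_num), h4]
    · rw [permOf_ptOf h3 (by norm_num), h5]
  have hτ3 : permOf t * (permOf t * permOf t) = 1 := by
    apply cube_of_o3
    rw [tblOf_permOf ht]; exact h1
  have hτ' : permOf t * permOf t * g ∈ stabL [23, 0] :=
    (stabL [23, 0]).mul_mem ((stabL [23, 0]).mul_mem hτ hτ) hg
  have hτ'3 : (permOf t * permOf t * g) * ((permOf t * permOf t * g) * (permOf t * permOf t * g))
      = 1 := by
    apply cube_of_o3
    rw [tblOf_mul, tblOf_mul, tblOf_permOf ht]; exact h2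
  have e : g = permOf t * (permOf t * permOf t * g) := by
    rw [← mul_assoc, ← mul_assoc, mul_assoc (permOf t) (permOf t) (permOf t), hτ3, one_mul]
  rw [e]
  exact K.mul_mem (hK _ hτ hτ3) (hK _ hτ' hτ'3)

theorem sift22 {g : Equiv.Perm GolayPt} (hg : g ∈ stabL [23, 0]) :
    ∃ a ∈ U3, ∃ b ∈ U4, ∃ g' ∈ stabL [23, 0, 1, 2], inM24 a = true ∧ inM24 b = true ∧
      permOf a ∈ stabL [23, 0] ∧ permOf b ∈ stabL [23, 0] ∧ g = permOf a * permOf b * g' := by
  obtain ⟨a, ha, g1, hg1, ha1, rfl⟩ := sift lvl3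
    (fun g hg => mem_un_of_not_mem (pre := [23, 0]) (by decide)
      (idx_not_mem_of_fixes (by decide) (by decide) ((mem_stabL _ _).1 hg).2)) hg
  obtain ⟨b, hb, g2, hg2, hb1, rfl⟩ := sift lvl4
    (fun g hg => mem_un_of_not_mem (pre := [23, 0, 1]) (by decide)
      (idx_not_mem_of_fixes (by decide) (by decide) ((mem_stabL _ _).1 hg).2)) hg1
  have hle1 : stabL [23, 0, 1] ≤ stabL [23, 0] := stabL_mono (by simp)
  have hle2 : stabL [23, 0, 1, 2] ≤ stabL [23, 0] := stabL_mono (by simp)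
  have hg1' := hle1 hg1
  have hg2' : g2 ∈ stabL [23, 0] := hle2 hg2
  have hb' : permOf b ∈ stabL [23, 0] := by
    have := (stabL [23, 0]).mul_mem hg1' ((stabL [23, 0]).inv_mem hg2')
    rwa [mul_inv_cancel_right] at this
  have ha' : permOf a ∈ stabL [23, 0] := by
    have := (stabL [23, 0]).mul_mem hg ((stabL [23, 0]).inv_mem hg1')
    rwa [mul_inv_cancel_right] at this
  exact ⟨a, ha, b, hb, g2, hg2, ha1, hb1, ha', hb', by rw [mul_assoc]⟩

/-- the two-point stabiliser is generated by its elements of order 3. -/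
theorem mem_of_cubes (K : Subgroup (Equiv.Perm GolayPt))
    (hK : ∀ x ∈ stabL [23, 0], x * (x * x) = 1 → x ∈ K)
    {g : Equiv.Perm GolayPt} (hg : g ∈ stabL [23, 0]) : g ∈ K := by
  obtain ⟨a, ha, b, hb, g', hg', ha1, hb1, ha2, hb2, rfl⟩ := sift22 hg
  have hle2 : stabL [23, 0, 1, 2] ≤ stabL [23, 0] := stabL_mono (by simp)
  refine K.mul_mem (K.mul_mem ?_ ?_) ?_
  · obtain ⟨t, ht⟩ := exists_of_zip_all (P := fun a t => prod3 t a) (by decide) chk3 a ha
    apply mem_of_prod3 K hK ha2 (t := t)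
    rw [tblOf_permOf (isTbl_of_inM24 ha1)]; exact ht
  · obtain ⟨t, ht⟩ := exists_of_zip_all (P := fun a t => prod3 t a) (by decide) chk4 b hb
    apply mem_of_prod3 K hK hb2 (t := t)
    rw [tblOf_permOf (isTbl_of_inM24 hb1)]; exact ht
  · have h1 := List.all_eq_true.1 chk960 _ (tblOf_mem_list960 hg')
    obtain ⟨t, _, ht⟩ := List.any_eq_true.1 h1
    exact mem_of_prod3 K hK (hle2 hg') ht

theorem pw11_spec (k : ℕ) : isTbl (pw11 k) = true ∧ permOf (pw11 k) = permOf t11 ^ k := by
  induction k with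
  | zero => exact ⟨by decide +kernel, by rw [pow_zero]; exact permOf_idT⟩
  | succ k ih =>
    obtain ⟨h1, h2⟩ := permOf_comp (isTbl_of_inM24 inM24_t11) ih.1
    exact ⟨h1, by rw [pow_succ', ← ih.2]; exact h2⟩

theorem centralizer_t11 {g : Equiv.Perm GolayPt} (hg : g ∈ stabL [23, 0])
    (hc : g * permOf t11 = permOf t11 * g) : ∃ k : ℕ, g = permOf t11 ^ k := by
  obtain ⟨a, ha, b, hb, g', hg', ha1, hb1, ha2, hb2, rfl⟩ := sift22 hg
  have hta := isTbl_of_inM24 ha1
  have htb := isTbl_of_inM24 hb1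
  have ht11 := isTbl_of_inM24 inM24_t11
  have hab : tblOf (permOf a * permOf b) = comp a b := by
    rw [tblOf_mul, tblOf_permOf hta, tblOf_permOf htb]
  have h1 := List.all_eq_true.1 (List.all_eq_true.1 checkC a ha) b hb
  have hfix := ((mem_stabL _ _).1 hg').2
  have hval : ∀ i ∈ ([1, 2] : List ℕ), (comp a b).getD i 0
      = idx ((permOf a * permOf b * g') (ptOf i)) := by
    intro i hi
    have hi24 : i < 24 := by
      simp only [List.mem_cons, List.not_mem_nil, or_false] at hi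
      omega
    have hi' : i ∈ ([23, 0, 1, 2] : List ℕ) := by
      simp only [List.mem_cons, List.not_mem_nil, or_false] at hi ⊢
      omega
    rw [← hab, getD_tblOf _ hi24, Equiv.Perm.mul_apply (permOf a * permOf b) g', hfix i hi']
  rw [Bool.or_eq_true] at h1
  rcases h1 with h2 | h2
  · exfalso
    rw [bne_iff_ne] at h2
    apply h2
    rw [hval 2 (by simp), hval 1 (by simp), ← idx_permOf ht11]
    have e : ptOf 2 = permOf t11 (ptOf 1) := by
      rw [permOf_ptOf inM24_t11 (by norm_num)]; rfl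
    rw [e, ← Equiv.Perm.mul_apply, hc, Equiv.Perm.mul_apply]
  · have h3 := List.all_eq_true.1 h2 _ (tblOf_mem_list960 hg')
    rw [← hab, ← tblOf_mul] at h3
    unfold Qc at h3
    have h4 : comp (tblOf (permOf a * permOf b * g')) t11
        = comp t11 (tblOf (permOf a * permOf b * g')) := by
      have := congrArg tblOf hc
      rwa [tblOf_mul _ (permOf t11), tblOf_mul (permOf t11), tblOf_permOf ht11] at this
    rw [h4] at h3
    simp only [beq_self_eq_true, Bool.not_true, Bool.false_or, List.any_eq_true, beq_iff_eq] at h3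
    obtain ⟨k, _, hk⟩ := h3
    refine ⟨k, ?_⟩
    rw [← (pw11_spec k).2, ← hk, permOf_tblOf]

theorem t11_mem : permOf t11 ∈ stabL [23, 0] := by
  rw [mem_stabL]
  refine ⟨permOf_mem_M24 inM24_t11, ?_⟩
  intro i hi
  simp only [List.mem_cons, List.not_mem_nil, or_false] at hi
  rcases hi with rfl | rfl
  · rw [permOf_ptOf inM24_t11 (by norm_num)]; rfl
  · rw [permOf_ptOf inM24_t11 (by norm_num)]; rfl

theorem orderOf_t11 : orderOf (permOf t11) = 11 := by
  haveI : Fact (Nat.Prime 11) := ⟨by norm_num⟩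
  apply orderOf_eq_prime
  · rw [← (pw11_spec 11).2, pw11_eleven, permOf_idT]
  · exact permOf_ne_one inM24_t11 (by decide)

theorem m22_simple_std : IsSimpleGroup (stabL [23, 0]) := by
  haveI : Fact (Nat.Prime 11) := ⟨by norm_num⟩
  haveI : Finite (stabL [23, 0]) := Nat.finite_of_card_ne_zero (by rw [card_stabL2]; norm_num)
  haveI : Nontrivial (stabL [23, 0]) := by
    rw [← Finite.one_lt_card_iff_nontrivial, card_stabL2]; norm_num
  refine ⟨fun N hN => ?_⟩
  have hord : orderOf (⟨permOf t11, t11_mem⟩ : stabL [23, 0]) = 11 := by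
    rw [Subgroup.orderOf_mk]; exact orderOf_t11
  rcases normal_cases_of_self_centralizing N (⟨permOf t11, t11_mem⟩ : stabL [23, 0]) hord
    (by rw [card_stabL2]; norm_num)
    (by
      intro g hg
      obtain ⟨k, hk⟩ := centralizer_t11 g.2 (congrArg Subtype.val hg)
      rw [Subgroup.mem_zpowers_iff]
      refine ⟨k, ?_⟩
      apply Subtype.ext
      rw [zpow_natCast]
      exact hk.symm)
    40320 (by rw [card_stabL2])
    (by
      intro r k hr hk hd
      have e : 40320 = 2 ^ 7 * 3 ^ 2 * 5 ^ 1 * 7 ^ 1 := by norm_num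
      rw [e] at hd
      rcases prime_pow_cases7 hr hd hk with ⟨rfl, h⟩ | ⟨rfl, h⟩ | ⟨rfl, h⟩ | ⟨rfl, h⟩ <;>
        interval_cases k <;> norm_num) with h | h
  · exact Or.inl h
  · right
    rw [eq_top_iff]
    intro g _
    have hK : ∀ x ∈ stabL [23, 0], x * (x * x) = 1 → x ∈ N.map (stabL [23, 0]).subtype := by
      intro x hx h3
      refine ⟨⟨x, hx⟩, ?_, rfl⟩
      have h4 := h ⟨x, hx⟩
      have h5 : (⟨x, hx⟩ : stabL [23, 0]) ^ (11 - 1) = ⟨x, hx⟩ := by
        apply Subtype.ext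
        show x ^ 10 = x
        have h6 : x ^ 3 = 1 := by rw [pow_succ, pow_two, mul_assoc]; exact h3
        calc x ^ 10 = (x ^ 3) ^ 3 * x := by group
          _ = x := by rw [h6]; simp
      rw [h5] at h4
      exact h4
    obtain ⟨y, hy, e⟩ := mem_of_cubes _ hK g.2
    have : y = g := Subtype.ext e
    rw [← this]
    exact hy

/-- the two-point stabiliser as a subgroup of `M24`. -/
def m22Equiv : ↥(MulAction.stabilizer M24 (none : GolayPt) ⊓
    MulAction.stabilizer M24 (some 0 : GolayPt)) ≃* stabL [23, 0] where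
  toFun σ := ⟨σ.1.1, by
    rw [mem_stabL]
    refine ⟨σ.1.2, ?_⟩
    intro i hi
    simp only [List.mem_cons, List.not_mem_nil, or_false] at hi
    rcases hi with rfl | rfl
    · rw [ptOf_23]; exact σ.2.1
    · rw [ptOf_0]; exact σ.2.2⟩
  invFun g := ⟨⟨g.1, ((mem_stabL _ _).1 g.2).1⟩,
    ⟨by
      have := ((mem_stabL _ _).1 g.2).2 23 (by simp)
      rw [ptOf_23] at this
      exact this,
     by
      have := ((mem_stabL _ _).1 g.2).2 0 (by simp)
      rw [ptOf_0] at this
      exact this⟩⟩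
  left_inv _ := rfl
  right_inv _ := rfl
  map_mul' _ _ := rfl

theorem stabilizer_pair (p q : GolayPt) : MulAction.stabilizer M24 (p, q)
    = MulAction.stabilizer M24 p ⊓ MulAction.stabilizer M24 q := by
  ext g
  simp only [MulAction.mem_stabilizer_iff, Subgroup.mem_inf, Prod.smul_mk, Prod.mk.injEq]

theorem m22_simple {p q : GolayPt} (hpq : p ≠ q) :
    IsSimpleGroup ↥(MulAction.stabilizer M24 p ⊓ MulAction.stabilizer M24 q) := by
  obtain ⟨k, hk, h1, h2⟩ := M24_trans2 hpq (show (none : GolayPt) ≠ some 0 by decide)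
  haveI := m22_simple_std
  have e : ((none : GolayPt), (some 0 : GolayPt)) = (⟨k, hk⟩ : M24) • (p, q) := by
    rw [Prod.smul_mk]
    exact Prod.ext h1.symm h2.symm
  exact ((MulEquiv.subgroupCongr (stabilizer_pair p q).symm).trans
    ((MulAction.stabilizerEquivStabilizer e).trans
      ((MulEquiv.subgroupCongr (stabilizer_pair none (some 0))).trans m22Equiv))).isSimpleGroup

end Cfsg.Agent.Lib.Helper28
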