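import Cfsg.Agent.Lib.Helper28.LeechSimple
import Cfsg.Agent.Lib.Helper28.LeechHS2
import Cfsg.Agent.Lib.Helper28.M22Simple

/-!
The Higman–Sims and McLaughlin groups (as stabilisers in `Co0`) are simple.
-/

set_option autoImplicit false

namespace Cfsg.Agent.Lib.Helper28

open Cfsg
open scoped Pointwise

/-- multiplication by `2` on the integers modulo 23. -/
def mul2 : Equiv.Perm (ZMod 23) := ⟨fun x => 2 * x, fun x => 12 * x, by decide, by decide⟩

def mul2P : Equiv.Perm GolayPt := Equiv.optionCongr mul2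

theorem mul2P_mem : mul2P ∈ M24 := by
  rw [mem_M24_iff]
  decide +kernel

def rho11 : M24 := ⟨mul2P, mul2P_mem⟩

theorem mul2P_pow : mul2P ^ 11 = 1 := by
  apply Equiv.ext
  decide +kernel

theorem mul2P_one_ne : mul2P (some 1) ≠ some 1 := by decide +kernel

theorem orderOf_rho11 : orderOf rho11 = 11 := by
  haveI : Fact (Nat.Prime 11) := ⟨by norm_num⟩
  apply orderOf_eq_prime
  · apply Subtype.ext
    exact mul2P_pow
  · intro h
    have h1 : mul2P (some 1) = some 1 := congrArg (fun g : M24 => g.1 (some 1)) h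
    exact mul2P_one_ne h1

theorem rho11_mem : rho11 ∈ MulAction.stabilizer M24 (none : GolayPt) ⊓
    MulAction.stabilizer M24 (some 0 : GolayPt) := by
  constructor
  · rfl
  · show mul2P (some 0) = some 0
    decide +kernel

/-- representative of the orbit of the multiplication by 2. -/
def cl23 (i : ZMod 23) : ZMod 23 := if i = 0 then 0 else if i ^ 11 = 1 then 1 else 5

theorem cl23_spec : ∀ i : ZMod 23, ∃ k ∈ Finset.range 11, i = 2 ^ k * cl23 i := by decide +kernel

theorem mul2P_symm (i : ZMod 23) : mul2P.symm (some (2 * i)) = some i := by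
  rw [Equiv.symm_apply_eq]
  rfl

theorem fix_rho {y : leechLattice} (h : pEl rho11 • y = y) (i : ZMod 23) :
    (y : GolayPt → ℤ) (some i) = (y : GolayPt → ℤ) (some (cl23 i)) := by
  have h1 : ∀ i : ZMod 23, (y : GolayPt → ℤ) (some (2 * i)) = (y : GolayPt → ℤ) (some i) := by
    intro i
    have h2 := congrFun (congrArg Subtype.val h) (some (2 * i))
    rw [pEl_smul] at h2
    have h3 : rho11.1.symm (some (2 * i)) = some i := mul2P_symm i
    rw [h3] at h2
    exact h2.symm
  have h2 : ∀ (k : ℕ) (i : ZMod 23),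
      (y : GolayPt → ℤ) (some (2 ^ k * i)) = (y : GolayPt → ℤ) (some i) := by
    intro k
    induction k with
    | zero => intro i; rw [pow_zero, one_mul]
    | succ k ih => intro i; rw [pow_succ', mul_assoc, h1, ih]
  obtain ⟨k, _, hk⟩ := cl23_spec i
  conv_lhs => rw [hk]
  exact h2 k _

theorem sum_cl23 (G : ZMod 23 → ℤ) : ∑ i, G (cl23 i) = G 0 + 11 * G 1 + 11 * G 5 := by
  rw [Finset.sum_comp G cl23]
  have h1 : (Finset.univ : Finset (ZMod 23)).image cl23 = {0, 1, 5} := by decide +kernel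
  have c0 : (Finset.univ.filter fun a : ZMod 23 => cl23 a = 0).card = 1 := by decide +kernel
  have c1 : (Finset.univ.filter fun a : ZMod 23 => cl23 a = 1).card = 11 := by decide +kernel
  have c5 : (Finset.univ.filter fun a : ZMod 23 => cl23 a = 5).card = 11 := by decide +kernel
  rw [h1, Finset.sum_insert (by decide), Finset.sum_insert (by decide), Finset.sum_singleton,
    c0, c1, c5]
  simp
  ring

theorem sqNorm_of_fix {y : leechLattice} (h : pEl rho11 • y = y) :
    sqNorm (y : GolayPt → ℤ) = (y : GolayPt → ℤ) none ^ 2 + (y : GolayPt → ℤ) (some 0) ^ 2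
      + 11 * (y : GolayPt → ℤ) (some 1) ^ 2 + 11 * (y : GolayPt → ℤ) (some 5) ^ 2 := by
  unfold sqNorm
  rw [Fintype.sum_option]
  have : ∀ i : ZMod 23, (y : GolayPt → ℤ) (some i) ^ 2 = (y : GolayPt → ℤ) (some (cl23 i)) ^ 2 := by
    intro i; rw [fix_rho h i]
  rw [Finset.sum_congr rfl (fun i _ => this i), sum_cl23 (fun j => (y : GolayPt → ℤ) (some j) ^ 2)]
  ring

theorem sum_of_fix {y : leechLattice} (h : pEl rho11 • y = y) :
    ∑ i, (y : GolayPt → ℤ) i = (y : GolayPt → ℤ) none + (y : GolayPt → ℤ) (some 0)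
      + 11 * (y : GolayPt → ℤ) (some 1) + 11 * (y : GolayPt → ℤ) (some 5) := by
  rw [Fintype.sum_option]
  rw [Finset.sum_congr rfl (fun i _ => fix_rho h i), sum_cl23 (fun j => (y : GolayPt → ℤ) (some j))]
  ring

/-- the arithmetic behind the uniqueness of the fixed vectors. -/
theorem arith_fix {a b c d : ℤ} (h1 : a ^ 2 + b ^ 2 + 11 * c ^ 2 + 11 * d ^ 2 = 32)
    (h2 : a ^ 2 = b ^ 2) : c = 0 ∧ d = 0 ∧ a ^ 2 = 16 := by
  have hc1 : c ≤ 1 := by nlinarith [sq_nonneg a, sq_nonneg b, sq_nonneg d]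
  have hc2 : -1 ≤ c := by nlinarith [sq_nonneg a, sq_nonneg b, sq_nonneg d]
  have hd1 : d ≤ 1 := by nlinarith [sq_nonneg a, sq_nonneg b, sq_nonneg c]
  have hd2 : -1 ≤ d := by nlinarith [sq_nonneg a, sq_nonneg b, sq_nonneg c]
  have ha1 : a ≤ 4 := by nlinarith [sq_nonneg c, sq_nonneg b, sq_nonneg d]
  have ha2 : -4 ≤ a := by nlinarith [sq_nonneg c, sq_nonneg b, sq_nonneg d]
  have h1' : 2 * a ^ 2 + 11 * c ^ 2 + 11 * d ^ 2 = 32 := by rw [← h2] at h1; linarith
  clear h1 h2
  interval_cases c <;> interval_cases d <;> interval_cases a <;>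
    first | (exfalso; norm_num at h1'; done) | norm_num

theorem eq_of_coords {y z : leechLattice} (h : pEl rho11 • y = y)
    (h0 : (y : GolayPt → ℤ) none = (z : GolayPt → ℤ) none)
    (h1 : (y : GolayPt → ℤ) (some 0) = (z : GolayPt → ℤ) (some 0))
    (hc : (y : GolayPt → ℤ) (some 1) = 0) (hd : (y : GolayPt → ℤ) (some 5) = 0)
    (hz : ∀ i : ZMod 23, i ≠ 0 → (z : GolayPt → ℤ) (some i) = 0) : y = z := by
  apply Subtype.ext
  funext k
  cases k with
  | none => exact h0
  | some i =>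
    by_cases hi : i = 0
    · rw [hi]; exact h1
    · rw [hz i hi, fix_rho h i]
      unfold cl23
      rw [if_neg hi]
      split_ifs
      · exact hc
      · exact hd

theorem vPlus_some (i : ZMod 23) (hi : i ≠ 0) : ((vPlus : leechLattice) : GolayPt → ℤ) (some i) = 0 := by
  rw [vPlus_coe]
  simp [Pi.single_apply, hi]

theorem vMinus_some (i : ZMod 23) (hi : i ≠ 0) :
    ((vMinus : leechLattice) : GolayPt → ℤ) (some i) = 0 := by
  rw [vMinus_coe]
  simp [Pi.single_apply, hi]

theorem hs_simple_std : IsSimpleGroup H5 := by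
  haveI : Fact (Nat.Prime 11) := ⟨by norm_num⟩
  apply simple_of_pEl H5 vPlus
    (MulAction.stabilizer M24 (none : GolayPt) ⊓ MulAction.stabilizer M24 (some 0 : GolayPt))
    (m22_simple (by decide)) (p := 11)
    (fun σ hσ => by
      obtain ⟨b1, b2, b3⟩ := pEl_fix (σ := σ) hσ.1 hσ.2
      exact ⟨⟨b1, b2⟩, b3⟩)
    (fun g hg hE => by
      obtain ⟨σ, h1, h2, h3⟩ := exists_pEl hg.1 hg.2 hE
      exact ⟨σ, ⟨h1, h2⟩, h3⟩)
    rho11 rho11_mem orderOf_rho11
    (fun h hh hfix => by
      obtain ⟨a1, a2, a3⟩ := smul_mem_T5 hh vPlus_mem_T5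
      rw [sqNorm_of_fix hfix] at a1
      rw [dot_u5, sum_of_fix hfix] at a2
      rw [dot_vMinus] at a3
      have e : ((h • vPlus : leechLattice) : GolayPt → ℤ) none
          = ((h • vPlus : leechLattice) : GolayPt → ℤ) (some 0) := by omega
      obtain ⟨hc, hd, ha⟩ := arith_fix a1 (by rw [e])
      rw [hc, hd] at a2
      have ha4 : ((h • vPlus : leechLattice) : GolayPt → ℤ) none = 4 := by omega
      apply eq_of_coords hfix _ _ hc hd vPlus_some
      · rw [ha4, vPlus_coe]; decide +kernel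
      · rw [← e, ha4, vPlus_coe]; decide +kernel)
    (by rw [card_H5]; norm_num) 2 0 2
    (by rw [card_H5, card_stabilizer_pt2 (by decide)]; norm_num)
  rintro r k (⟨rfl, hk⟩ | ⟨rfl, hk⟩ | ⟨rfl, hk⟩) hk0 <;> interval_cases k <;> norm_num

theorem stabilizer_pairL (v w : leechLattice) : MulAction.stabilizer Co0 (v, w)
    = MulAction.stabilizer Co0 v ⊓ MulAction.stabilizer Co0 w := by
  ext g
  simp only [MulAction.mem_stabilizer_iff, Subgroup.mem_inf, Prod.smul_mk, Prod.mk.injEq]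

theorem hs_simple (v w : leechLattice) (hv : sqNorm (v : GolayPt → ℤ) = 48)
    (hw : sqNorm (w : GolayPt → ℤ) = 48)
    (hvw : dotInt (v : GolayPt → ℤ) (w : GolayPt → ℤ) = -32) :
    IsSimpleGroup ↥(MulAction.stabilizer Co0 v ⊓ MulAction.stabilizer Co0 w) := by
  obtain ⟨g, h1, h2⟩ := exists_to_std v w hv hw hvw
  haveI := hs_simple_std
  have e : ((u5 : leechLattice), (vMinus - u5 : leechLattice)) = g • (v, w) := by
    rw [Prod.smul_mk, h1, h2]
  have e2 : MulAction.stabilizer Co0 u5 ⊓ MulAction.stabilizer Co0 (vMinus - u5) = H5 := by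
    ext x
    simp only [H5, Subgroup.mem_inf, MulAction.mem_stabilizer_iff]
    constructor
    · rintro ⟨a, b⟩
      refine ⟨a, ?_⟩
      rw [co0_sub, a] at b
      exact sub_left_injective b
    · rintro ⟨a, b⟩
      exact ⟨a, by rw [co0_sub, a, b]⟩
  exact ((MulEquiv.subgroupCongr (stabilizer_pairL v w).symm).trans
    ((MulAction.stabilizerEquivStabilizer e).trans
      ((MulEquiv.subgroupCongr (stabilizer_pairL _ _)).trans
        (MulEquiv.subgroupCongr e2)))).isSimpleGroup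

/-- the group of the McLaughlin configuration. -/
def Mc5 : Subgroup Co0 := MulAction.stabilizer Co0 u5 ⊓ MulAction.stabilizer Co0 vPlus

theorem card_stab32_8 (v w : leechLattice) (hv : sqNorm (v : GolayPt → ℤ) = 32)
    (hw : sqNorm (w : GolayPt → ℤ) = 32)
    (hvw : dotInt (v : GolayPt → ℤ) (w : GolayPt → ℤ) = -8) :
    Nat.card ↥(MulAction.stabilizer Co0 v ⊓ MulAction.stabilizer Co0 w) = 898128000 := by
  have h1 := card_eq_stab_mul (MulAction.stabilizer Co0 v) w
    {y : leechLattice | sqNorm (y : GolayPt → ℤ) = 32 ∧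
      dotInt (v : GolayPt → ℤ) (y : GolayPt → ℤ) = -8} (by
    intro y
    constructor
    · rintro ⟨a, b⟩
      obtain ⟨g, hg1, hg2⟩ := trans_same_dot v w y hv hw a (by rw [hvw, b])
      exact ⟨g, hg1, hg2⟩
    · rintro ⟨g, hg, rfl⟩
      have hg' : g • v = v := hg
      refine ⟨by rw [co0_norm, hw], ?_⟩
      conv_lhs => rw [← hg']
      rw [co0_dot, hvw])
  rw [card_stab32 v hv, ← ncard_val (fun y => sqNorm y = 32 ∧ dotInt (v : GolayPt → ℤ) y = -8),
    (census v hv).2.1] at h1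
  omega

theorem sqNorm_vPlus : sqNorm ((vPlus : leechLattice) : GolayPt → ℤ) = 32 := by
  rw [vPlus_coe]; decide +kernel

theorem sqNorm_w0 : sqNorm ((u5 - vPlus : leechLattice) : GolayPt → ℤ) = 32 := by
  rw [AddSubgroup.coe_sub, u5_coe, vPlus_coe]; decide +kernel

theorem dot_vPlus_w0 : dotInt ((vPlus : leechLattice) : GolayPt → ℤ)
    ((u5 - vPlus : leechLattice) : GolayPt → ℤ) = -8 := by
  rw [AddSubgroup.coe_sub, u5_coe, vPlus_coe]; decide +kernel

theorem dot_vPlus_vMinus : dotInt ((vPlus : leechLattice) : GolayPt → ℤ)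
    ((vMinus : leechLattice) : GolayPt → ℤ) = 0 := by
  rw [vMinus_coe, vPlus_coe]; decide +kernel

theorem Mc5_eq : MulAction.stabilizer Co0 vPlus ⊓ MulAction.stabilizer Co0 (u5 - vPlus) = Mc5 := by
  ext x
  simp only [Mc5, Subgroup.mem_inf, MulAction.mem_stabilizer_iff]
  constructor
  · rintro ⟨a, b⟩
    refine ⟨?_, a⟩
    rw [co0_sub, a] at b
    exact sub_left_injective b
  · rintro ⟨a, b⟩
    exact ⟨b, by rw [co0_sub, a, b]⟩

theorem card_Mc5 : Nat.card Mc5 = 898128000 := by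
  rw [← Mc5_eq]
  exact card_stab32_8 _ _ sqNorm_vPlus sqNorm_w0 dot_vPlus_w0

theorem mcl_simple_std : IsSimpleGroup Mc5 := by
  haveI : Fact (Nat.Prime 11) := ⟨by norm_num⟩
  apply simple_of_pEl Mc5 vMinus
    (MulAction.stabilizer M24 (none : GolayPt) ⊓ MulAction.stabilizer M24 (some 0 : GolayPt))
    (m22_simple (by decide)) (p := 11)
    (fun σ hσ => by
      obtain ⟨b1, b2, b3⟩ := pEl_fix (σ := σ) hσ.1 hσ.2
      exact ⟨⟨b1, b3⟩, b2⟩)
    (fun g hg hE => by
      obtain ⟨σ, h1, h2, h3⟩ := exists_pEl hg.1 hE hg.2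
      exact ⟨σ, ⟨h1, h2⟩, h3⟩)
    rho11 rho11_mem orderOf_rho11
    (fun h hh hfix => by
      have hu : h • u5 = u5 := hh.1
      have hp : h • vPlus = vPlus := hh.2
      have a1 : sqNorm ((h • vMinus : leechLattice) : GolayPt → ℤ) = 32 := by
        rw [co0_norm, sqNorm_vMinus]
      have a2 : dotInt ((u5 : leechLattice) : GolayPt → ℤ)
          ((h • vMinus : leechLattice) : GolayPt → ℤ) = 16 := by
        conv_lhs => rw [← hu]
        rw [co0_dot, dot_u5_vMinus]
      have a3 : dotInt ((vPlus : leechLattice) : GolayPt → ℤ)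
          ((h • vMinus : leechLattice) : GolayPt → ℤ) = 0 := by
        conv_lhs => rw [← hp]
        rw [co0_dot, dot_vPlus_vMinus]
      rw [sqNorm_of_fix hfix] at a1
      rw [dot_u5, sum_of_fix hfix] at a2
      rw [dot_vPlus] at a3
      have e : ((h • vMinus : leechLattice) : GolayPt → ℤ) (some 0)
          = -((h • vMinus : leechLattice) : GolayPt → ℤ) none := by omega
      obtain ⟨hc, hd, ha⟩ := arith_fix a1 (by rw [e]; ring)
      rw [hc, hd] at a2
      have ha4 : ((h • vMinus : leechLattice) : GolayPt → ℤ) none = 4 := by omega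
      apply eq_of_coords hfix _ _ hc hd vMinus_some
      · rw [ha4, vMinus_coe]; decide +kernel
      · rw [e, ha4, vMinus_coe]; decide +kernel)
    (by rw [card_Mc5]; norm_num) 0 4 2
    (by rw [card_Mc5, card_stabilizer_pt2 (by decide)]; norm_num)
  rintro r k (⟨rfl, hk⟩ | ⟨rfl, hk⟩ | ⟨rfl, hk⟩) hk0 <;> interval_cases k <;> norm_num

theorem mcl_simple (v w : leechLattice) (hv : sqNorm (v : GolayPt → ℤ) = 32)
    (hw : sqNorm (w : GolayPt → ℤ) = 32)
    (hvw : dotInt (v : GolayPt → ℤ) (w : GolayPt → ℤ) = -8) :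
    IsSimpleGroup ↥(MulAction.stabilizer Co0 v ⊓ MulAction.stabilizer Co0 w) := by
  obtain ⟨g1, h1⟩ := co0_trans32 v vPlus hv sqNorm_vPlus
  obtain ⟨g2, h2, h3⟩ := trans_same_dot vPlus (g1 • w) (u5 - vPlus) sqNorm_vPlus
    (by rw [co0_norm, hw]) sqNorm_w0 (by
      rw [dot_vPlus_w0]
      conv_lhs => rw [← h1]
      rw [co0_dot, hvw])
  haveI := mcl_simple_std
  have e : ((vPlus : leechLattice), (u5 - vPlus : leechLattice)) = (g2 * g1) • (v, w) := by
    rw [Prod.smul_mk, mul_smul, mul_smul, h1, h2, h3]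
  exact ((MulEquiv.subgroupCongr (stabilizer_pairL v w).symm).trans
    ((MulAction.stabilizerEquivStabilizer e).trans
      ((MulEquiv.subgroupCongr (stabilizer_pairL _ _)).trans
        (MulEquiv.subgroupCongr Mc5_eq)))).isSimpleGroup

end Cfsg.Agent.Lib.Helper28
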