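import Cfsg.Agent.Lib.Helper28.LeechCount

/-!
The index of the lattice in `ℤ^24`, and of twice the lattice in the lattice.
-/

set_option autoImplicit false

namespace Cfsg.Agent.Lib.Helper28

open Cfsg

/-- reduction of the coordinates modulo `n`. -/
def redMod (n : ℕ) : (GolayPt → ℤ) →+ (GolayPt → ZMod n) :=
  (Int.castAddHom (ZMod n)).compLeft GolayPt

theorem redMod_apply (n : ℕ) (x : GolayPt → ℤ) (i : GolayPt) : redMod n x i = (x i : ZMod n) := rfl

theorem redMod_surjective (n : ℕ) : Function.Surjective (redMod n) := by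
  intro y
  choose f hf using fun i => ZMod.intCast_surjective (y i)
  exact ⟨f, funext hf⟩

theorem index_ker_redMod (n : ℕ) [NeZero n] : (redMod n).ker.index = n ^ 24 := by
  rw [AddSubgroup.index_ker, AddMonoidHom.range_eq_top.2 (redMod_surjective n)]
  rw [Nat.card_congr AddSubgroup.topEquiv.toEquiv, Nat.card_eq_fintype_card, Fintype.card_fun,
    ZMod.card, card_golayPt]

theorem mem_ker_redMod {n : ℕ} {x : GolayPt → ℤ} : x ∈ (redMod n).ker ↔ ∀ i, (n : ℤ) ∣ x i := by
  rw [AddMonoidHom.mem_ker, funext_iff]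
  simp only [redMod_apply, Pi.zero_apply, ZMod.intCast_zmod_eq_zero_iff_dvd]

/-- the sum of the coordinates modulo 8. -/
def sumMod8 : (GolayPt → ℤ) →+ ZMod 8 where
  toFun x := ((∑ i, x i : ℤ) : ZMod 8)
  map_zero' := by simp
  map_add' x y := by simp [Finset.sum_add_distrib]

theorem mem_ker_sumMod8 {x : GolayPt → ℤ} : x ∈ sumMod8.ker ↔ (8 : ℤ) ∣ ∑ i, x i := by
  rw [AddMonoidHom.mem_ker]
  show ((∑ i, x i : ℤ) : ZMod 8) = 0 ↔ _
  rw [ZMod.intCast_zmod_eq_zero_iff_dvd]; rfl

theorem card_GCfin : GCfin.card = 4096 := by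
  rw [Finset.card_eq_sum_ones]
  exact (sum_GCfin (fun _ => 1)).trans (by norm_num)

/-- a vector of the lattice of each type. -/
def repVec (m : ℕ) (c : Finset GolayPt) : GolayPt → ℤ :=
  fun i => m + 2 * chi c i + 4 * (Pi.single none (m : ℤ) : GolayPt → ℤ) i

theorem repVec_mem {m : ℕ} (hm : m < 2) {c : Finset GolayPt} (hc : c ∈ GC) :
    repVec m c ∈ leechLattice := by
  refine mem_leech_iff.2 ⟨m, by omega, c, hc, Pi.single none (m : ℤ), fun i => rfl, ?_⟩
  rw [Finset.sum_pi_single']
  simp

theorem inf_ker4 : sumMod8.ker ⊓ (redMod 4).ker = leechLattice ⊓ (redMod 4).ker := by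
  ext x
  simp only [AddSubgroup.mem_inf, mem_ker_redMod, mem_ker_sumMod8]
  constructor
  · rintro ⟨h8, h4⟩
    refine ⟨mem_leech_iff.2 ⟨0, Or.inl rfl, ∅, gc_empty, fun i => x i / 4, fun i => ?_, ?_⟩, h4⟩
    · have := h4 i
      simp only [chi, Finset.notMem_empty, if_false]
      push_cast at this
      omega
    · have h1 : ∑ i, x i = 4 * ∑ i, x i / 4 := by
        rw [Finset.mul_sum]
        refine Finset.sum_congr rfl fun i _ => ?_
        have := h4 i
        push_cast at this
        omega
      rw [h1] at h8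
      show (∑ i, x i / 4) % 2 = 0 % 2
      omega
  · rintro ⟨hx, h4⟩
    refine ⟨?_, h4⟩
    obtain ⟨m, hm, hs, _⟩ := mem_leechSet_iff.1 (mem_leechLattice_iff.1 hx)
    have h1 := hm none
    have h2 := h4 none
    push_cast at h2
    unfold Int.ModEq at *
    omega

theorem card_map_sumMod8 : Nat.card ((redMod 4).ker.map sumMod8) = 2 := by
  have h : (((redMod 4).ker.map sumMod8 : AddSubgroup (ZMod 8)) : Set (ZMod 8))
      = ↑({0, 4} : Finset (ZMod 8)) := by
    ext y
    simp only [AddSubgroup.coe_map, Set.mem_image, SetLike.mem_coe, mem_ker_redMod,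
      Finset.coe_insert, Finset.coe_singleton, Set.mem_insert_iff, Set.mem_singleton_iff]
    constructor
    · rintro ⟨x, hx, rfl⟩
      have h4 : (4 : ℤ) ∣ ∑ i, x i := Finset.dvd_sum fun i _ => by simpa using hx i
      obtain ⟨k, hk⟩ := h4
      show ((∑ i, x i : ℤ) : ZMod 8) = 0 ∨ ((∑ i, x i : ℤ) : ZMod 8) = 4
      rw [hk]
      rcases Int.even_or_odd' k with ⟨j, rfl | rfl⟩
      · left
        have : (4 * (2 * j) : ℤ) = 8 * j := by ring
        rw [this]; push_cast
        have : (8 : ZMod 8) = 0 := by decide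
        rw [this, zero_mul]
      · right
        have : (4 * (2 * j + 1) : ℤ) = 8 * j + 4 := by ring
        rw [this]; push_cast
        have : (8 : ZMod 8) = 0 := by decide
        rw [this, zero_mul, zero_add]
    · rintro (rfl | rfl)
      · exact ⟨0, fun i => by simp, by simp⟩
      · refine ⟨Pi.single none 4, fun i => ?_, ?_⟩
        · by_cases hi : i = none
          · subst hi; simp
          · simp [hi]
        · show ((∑ i, (Pi.single none 4 : GolayPt → ℤ) i : ℤ) : ZMod 8) = 4
          rw [Finset.sum_pi_single']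
          simp
  have h2 : Nat.card ((redMod 4).ker.map sumMod8)
      = (((redMod 4).ker.map sumMod8 : AddSubgroup (ZMod 8)) : Set (ZMod 8)).ncard := rfl
  rw [h2, h, Set.ncard_coe_finset]
  decide

theorem card_map_redMod4 : Nat.card (leechLattice.map (redMod 4)) = 8192 := by
  have h : ((leechLattice.map (redMod 4) : AddSubgroup (GolayPt → ZMod 4)) : Set (GolayPt → ZMod 4))
      = ↑((Finset.range 2 ×ˢ GCfin).image fun p => redMod 4 (repVec p.1 p.2)) := by
    ext y
    simp only [AddSubgroup.coe_map, Set.mem_image, SetLike.mem_coe, Finset.coe_image,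
      Finset.coe_product, Set.mem_prod, Finset.mem_range, mem_GCfin, Prod.exists]
    constructor
    · rintro ⟨x, hx, rfl⟩
      obtain ⟨m, hm, c, hc, h1, _⟩ := mem_leech_iff'.1 hx
      refine ⟨m, c, ⟨hm, hc⟩, ?_⟩
      funext i
      rw [redMod_apply, redMod_apply, ZMod.intCast_eq_intCast_iff]
      have := h1 i
      unfold repVec Int.ModEq
      push_cast
      omega
    · rintro ⟨m, c, ⟨hm, hc⟩, rfl⟩
      exact ⟨_, repVec_mem hm hc, rfl⟩
  have h2 : Nat.card (leechLattice.map (redMod 4))
      = ((leechLattice.map (redMod 4) : AddSubgroup (GolayPt → ZMod 4)) : Set (GolayPt → ZMod 4)).ncard :=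
    rfl
  rw [h2, h, Set.ncard_coe_finset, Finset.card_image_of_injOn, Finset.card_product, card_GCfin]
  · simp
  · rintro ⟨m, c⟩ hp ⟨m', c'⟩ hp' he
    simp only [Finset.coe_product, Set.mem_prod, Finset.mem_coe, Finset.mem_range] at hp hp'
    have h1 : ∀ i, (m : ℤ) + 2 * chi c i ≡ m' + 2 * chi c' i [ZMOD 4] := by
      intro i
      have := congrFun he i
      dsimp only at this
      rw [redMod_apply, redMod_apply, ZMod.intCast_eq_intCast_iff] at this
      unfold repVec Int.ModEq at *
      push_cast at this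
      omega
    have hm : m = m' := by
      have a1 := h1 none
      have a3 := chi_cases c none
      have a4 := chi_cases c' none
      unfold Int.ModEq at a1
      omega
    subst hm
    have hc : c = c' := by
      ext i
      have a1 := h1 i
      have a3 := chi_cases c i
      have a4 := chi_cases c' i
      have e : chi c i = chi c' i := by unfold Int.ModEq at a1; omega
      unfold chi at e
      by_cases hi : i ∈ c <;> by_cases hi' : i ∈ c' <;> simp_all
    rw [hc]

theorem index_leech : leechLattice.index = 2 ^ 36 := by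
  have h1 := AddSubgroup.relIndex_mul_index (H := (redMod 4).ker ⊓ leechLattice) (K := leechLattice)
    inf_le_right
  have h2 := AddSubgroup.relIndex_mul_index (H := leechLattice ⊓ (redMod 4).ker) (K := (redMod 4).ker)
    inf_le_right
  rw [AddSubgroup.inf_relIndex_right, AddSubgroup.relIndex_ker, card_map_redMod4] at h1
  rw [← inf_ker4, AddSubgroup.inf_relIndex_right, AddSubgroup.relIndex_ker, card_map_sumMod8,
    index_ker_redMod, inf_ker4, inf_comm] at h2
  rw [← h2] at h1
  have : (8192 : ℕ) * leechLattice.index = 8192 * 2 ^ 36 := by rw [h1]; norm_num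
  exact Nat.eq_of_mul_eq_mul_left (by norm_num) this

end Cfsg.Agent.Lib.Helper28
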