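import Cfsg.Agent.Lib.Helper28.LeechCount

/-!
The numbers of vectors of norm 32, 48, 64 in the lattice.
-/

set_option autoImplicit false

namespace Cfsg.Agent.Lib.Helper28

open Cfsg

/-- the possible coordinates of a vector of norm at most 64. -/
noncomputable def A8 : Finset ℤ := Finset.Icc (-8) 8

/-- the square, as a natural number. -/
def hsq (v : ℤ) : ℕ := v.natAbs ^ 2

theorem sum_hsq (x : GolayPt → ℤ) : ((∑ i, hsq (x i) : ℕ) : ℤ) = sqNorm x := by
  unfold hsq sqNorm; push_cast; simp [sq_abs]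

theorem mem_A8_of_sqNorm_le {x : GolayPt → ℤ} (h : sqNorm x ≤ 64) (i : GolayPt) : x i ∈ A8 := by
  have := sq_le_sqNorm x i
  rw [A8, Finset.mem_Icc]; constructor <;> nlinarith

theorem card_A8 : A8.card ^ 24 < 2 ^ 100 := by
  unfold A8; simp

theorem ncard_norm (n : ℕ) (hn : n ≤ 64) :
    {x : GolayPt → ℤ | x ∈ leechLattice ∧ sqNorm x = n}.ncard = leechCnt A8 hsq n (2 ^ 100) := by
  rw [← ncard_leech_uniform A8 hsq n (2 ^ 100) card_A8]
  congr 1
  ext x
  simp only [Set.mem_ofPred_eq]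
  constructor
  · rintro ⟨h1, h2⟩
    refine ⟨h1, mem_A8_of_sqNorm_le (by rw [h2]; exact_mod_cast hn), ?_⟩
    have := sum_hsq x
    rw [h2] at this
    exact_mod_cast this
  · rintro ⟨h1, _, h2⟩
    exact ⟨h1, by rw [← sum_hsq, h2]⟩

theorem cnt32 : leechCnt A8 hsq 32 (2 ^ 100) = 196560 := by decide +kernel
theorem cnt48 : leechCnt A8 hsq 48 (2 ^ 100) = 16773120 := by decide +kernel
theorem cnt64 : leechCnt A8 hsq 64 (2 ^ 100) = 398034000 := by decide +kernel

theorem ncard_norm32 : {x : GolayPt → ℤ | x ∈ leechLattice ∧ sqNorm x = 32}.ncard = 196560 :=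
  (ncard_norm 32 (by decide)).trans cnt32

theorem ncard_norm48 : {x : GolayPt → ℤ | x ∈ leechLattice ∧ sqNorm x = 48}.ncard = 16773120 :=
  (ncard_norm 48 (by decide)).trans cnt48

theorem ncard_norm64 : {x : GolayPt → ℤ | x ∈ leechLattice ∧ sqNorm x = 64}.ncard = 398034000 :=
  (ncard_norm 64 (by decide)).trans cnt64

end Cfsg.Agent.Lib.Helper28
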