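import Cfsg.Agent.Lib.Helper28.M24Trans

/-!
Transitivity of `M24` on points, ordered pairs, triples ... in elementary form, and orders of point stabilizers.
-/

set_option autoImplicit false

namespace Cfsg.Agent.Lib.Helper28

open Cfsg
open scoped Pointwise

/-- transitivity on lists of at most five distinct points. -/
theorem exists_M24_map_list (xs ys : List GolayPt) (hlen : xs.length = ys.length) (h5 : xs.length ≤ 5)
    (hx : xs.Nodup) (hy : ys.Nodup) : ∃ g ∈ M24, xs.map g = ys := by
  obtain ⟨gx, hgx, h1⟩ := exists_M24_map_base xs h5 hx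
  obtain ⟨gy, hgy, h2⟩ := exists_M24_map_base ys (hlen ▸ h5) hy
  refine ⟨gy⁻¹ * gx, M24.mul_mem (M24.inv_mem hgy) hgx, ?_⟩
  have : xs.map (gy⁻¹ * gx) = (xs.map gx).map (⇑(gy⁻¹)) := by
    rw [List.map_map]; rfl
  rw [this, h1, hlen, ← h2, List.map_map]
  have h3 : (⇑(gy⁻¹) ∘ ⇑gy) = id := by funext x; simp
  rw [h3, List.map_id]

theorem M24_trans1 (p q : GolayPt) : ∃ g ∈ M24, g p = q := by
  obtain ⟨g, hg, h⟩ := exists_M24_map_list [p] [q] rfl (by simp) (by simp) (by simp)
  exact ⟨g, hg, by simpa using h⟩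

theorem M24_trans2 {p q p' q' : GolayPt} (h : p ≠ q) (h' : p' ≠ q') :
    ∃ g ∈ M24, g p = p' ∧ g q = q' := by
  obtain ⟨g, hg, h⟩ := exists_M24_map_list [p, q] [p', q'] rfl (by simp) (by simp [h]) (by simp [h'])
  exact ⟨g, hg, by simpa using h⟩

theorem card_stabilizer_pt (p : GolayPt) : Nat.card (MulAction.stabilizer M24 p) = 10200960 := by
  have h := card_stabilizer_mul_ncard_orbit p
  have h2 : MulAction.orbit M24 p = Set.univ := by
    ext q
    simp only [Set.mem_univ, iff_true]
    obtain ⟨g, hg, h⟩ := M24_trans1 p q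
    exact ⟨⟨g, hg⟩, h⟩
  rw [h2, Set.ncard_univ] at h
  have h3 : Nat.card GolayPt = 24 := by
    rw [Nat.card_eq_fintype_card]; decide
  rw [h3] at h
  omega

theorem card_offdiag : (Finset.univ.filter fun x : GolayPt × GolayPt => x.1 ≠ x.2).card = 552 := by
  decide +kernel

theorem card_stabilizer_pt2 {p q : GolayPt} (hpq : p ≠ q) :
    Nat.card ↥(MulAction.stabilizer M24 p ⊓ MulAction.stabilizer M24 q) = 443520 := by
  have e : MulAction.stabilizer M24 p ⊓ MulAction.stabilizer M24 q = MulAction.stabilizer M24 (p, q) := by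
    ext g
    simp [MulAction.mem_stabilizer_iff, Prod.ext_iff]
  rw [e]
  have h := card_stabilizer_mul_ncard_orbit (p, q)
  have h2 : MulAction.orbit M24 (p, q) =
      ↑(Finset.univ.filter fun x : GolayPt × GolayPt => x.1 ≠ x.2) := by
    ext ⟨a, b⟩
    simp only [Finset.coe_filter, Finset.mem_univ, true_and, Set.mem_ofPred_eq]
    constructor
    · rintro ⟨g, hg⟩
      have h1 : (g : Equiv.Perm GolayPt) p = a := congrArg Prod.fst hg
      have h2 : (g : Equiv.Perm GolayPt) q = b := congrArg Prod.snd hg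
      rw [← h1, ← h2]
      exact fun h => hpq ((g : Equiv.Perm GolayPt).injective h)
    · intro hab
      obtain ⟨g, hg, h1, h2⟩ := M24_trans2 hpq hab
      exact ⟨⟨g, hg⟩, Prod.ext h1 h2⟩
  rw [h2, Set.ncard_coe_finset, card_offdiag] at h
  omega

end Cfsg.Agent.Lib.Helper28
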