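import Cfsg.Agent.Lib.Helper28.LeechCo0
import Cfsg.Agent.Lib.Helper28.M24Pts

/-!
`Co0` is transitive on the vectors of norm 32, 48 and 64.
-/

set_option autoImplicit false

namespace Cfsg.Agent.Lib.Helper28

open Cfsg Matrix
open scoped Pointwise

theorem filter_tn_none : (Finset.univ.filter fun j => tn none = tn j)
    = {none, some 0, some 1, some 2} := by decide +kernel

/-- the basic move: bring four points to the first tetrad and apply `xi`. -/
theorem exists_move {x : GolayPt → ℤ} (hx : x ∈ leechLattice) {a b c d : GolayPt}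
    (hnd : [a, b, c, d].Nodup) :
    ∃ y, Eqv x y ∧ 2 * y none = x b + x c + x d - x a := by
  obtain ⟨σ, hσ, hmap⟩ := exists_M24_map_list [a, b, c, d] [none, some 0, some 1, some 2] rfl
    (by simp) hnd (by decide)
  simp only [List.map_cons, List.map_nil, List.cons.injEq, and_true] at hmap
  obtain ⟨ha, hb, hc, hd⟩ := hmap
  have h1 := eqv_perm hσ hx
  have h2 := eqv_xi h1.mem_right
  refine ⟨_, h1.trans h2, ?_⟩
  have h3 := congrFun (two_xiF h1.mem_right) none
  rw [xiM_mulVec, filter_tn_none] at h3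
  simp only [Pi.smul_apply, smul_eq_mul] at h3
  rw [h3]
  rw [Finset.sum_insert (by decide), Finset.sum_insert (by decide), Finset.sum_insert (by decide),
    Finset.sum_singleton]
  rw [← ha, ← hb, ← hc, ← hd]
  simp only [Equiv.symm_apply_apply]
  have : tn (σ a) = 0 := by rw [ha]; decide
  rw [if_pos this]
  ring

theorem parity_of_mem {x : GolayPt → ℤ} (hx : x ∈ leechLattice) (i j : GolayPt) :
    x i % 2 = x j % 2 := by
  obtain ⟨m, hm, _⟩ := mem_leechSet_iff.1 (mem_leechLattice_iff.1 hx)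
  have h1 := hm i
  have h2 := hm j
  unfold Int.ModEq at *
  omega

theorem cls_mem_GC {x : GolayPt → ℤ} (hx : x ∈ leechLattice) (k : ℤ) : cls x k ∈ GC := by
  obtain ⟨_, _, _, hc⟩ := mem_leechSet_iff.1 (mem_leechLattice_iff.1 hx)
  exact hc k

theorem oddify_E2 {x : GolayPt → ℤ} (hx : x ∈ leechLattice) (hn : sqNorm x ≤ 64)
    (he : x none % 2 = 0) (h2 : ∃ i, x i % 4 = 2) : ∃ y, Eqv x y ∧ y none % 2 = 1 := by
  obtain ⟨i0, hi0⟩ := h2
  have hc := cls_mem_GC hx 2
  have hi0' : i0 ∈ cls x 2 := mem_cls.2 (by unfold Int.ModEq; omega)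
  have hcard := gc_card_cases hc
  have hpos : 0 < (cls x 2).card := Finset.card_pos.2 ⟨i0, hi0'⟩
  have h1 : ∑ i ∈ cls x 2, (4 : ℤ) ≤ ∑ i ∈ cls x 2, x i ^ 2 := by
    refine Finset.sum_le_sum fun i hi => ?_
    have h2 := mem_cls.1 hi
    unfold Int.ModEq at h2
    have h3 : x i ≤ -2 ∨ 2 ≤ x i := by omega
    rcases h3 with h3 | h3 <;> nlinarith
  have h2 : ∑ i ∈ cls x 2, x i ^ 2 ≤ sqNorm x :=
    Finset.sum_le_sum_of_subset_of_nonneg (Finset.subset_univ _) fun i _ _ => sq_nonneg _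
  rw [Finset.sum_const, nsmul_eq_mul] at h1
  have hlt : (cls x 2).card < 24 := by
    by_contra hcon
    have : (24 : ℤ) ≤ ((cls x 2).card : ℤ) := by exact_mod_cast not_lt.1 hcon
    omega
  obtain ⟨a, ha, b, hb, c, hc', hab, hac, hbc⟩ := Finset.two_lt_card.1 (by omega : 2 < (cls x 2).card)
  obtain ⟨d, hd⟩ : ∃ d, d ∉ cls x 2 := by
    by_contra hcon
    have hall : cls x 2 = Finset.univ := by
      ext i; simp only [Finset.mem_univ, iff_true]
      by_contra hi; exact hcon ⟨i, hi⟩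
    rw [hall, Finset.card_univ, card_golayPt] at hlt
    omega
  have hnd : [a, b, c, d].Nodup := by
    have h1 : a ≠ d := fun h => hd (h ▸ ha)
    have h2 : b ≠ d := fun h => hd (h ▸ hb)
    have h3 : c ≠ d := fun h => hd (h ▸ hc')
    simp [hab, hac, hbc, h1, h2, h3]
  obtain ⟨y, hy, he2⟩ := exists_move hx hnd
  refine ⟨y, hy, ?_⟩
  have ea := mem_cls.1 ha
  have eb := mem_cls.1 hb
  have ec := mem_cls.1 hc'
  have ed : ¬ (x d ≡ 2 [ZMOD 4]) := fun h => hd (mem_cls.2 h)
  have pd := parity_of_mem hx d none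
  unfold Int.ModEq at *
  omega

theorem oddify_E4 {x : GolayPt → ℤ} (hx : x ∈ leechLattice) (hn : sqNorm x ≤ 64)
    (h4 : ∀ i, x i % 4 = 0) (h8 : ∃ i, x i % 8 = 4) : ∃ y, Eqv x y ∧ y none % 2 = 1 := by
  obtain ⟨a, ha⟩ := h8
  set O := Finset.univ.filter fun i => x i % 8 = 4 with hO
  have h1 : ∑ i ∈ O, (16 : ℤ) ≤ ∑ i ∈ O, x i ^ 2 := by
    refine Finset.sum_le_sum fun i hi => ?_
    have h2 := (Finset.mem_filter.1 hi).2
    have h3 : x i ≤ -4 ∨ 4 ≤ x i := by omega
    rcases h3 with h3 | h3 <;> nlinarith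
  have h2 : ∑ i ∈ O, x i ^ 2 ≤ sqNorm x :=
    Finset.sum_le_sum_of_subset_of_nonneg (Finset.subset_univ _) fun i _ _ => sq_nonneg _
  rw [Finset.sum_const, nsmul_eq_mul] at h1
  have hle : O.card ≤ 4 := by
    have : (O.card : ℤ) ≤ 4 := by omega
    exact_mod_cast this
  have hcc : 2 < Oᶜ.card := by
    rw [Finset.card_compl, card_golayPt]; omega
  obtain ⟨b, hb, c, hc, d, hd, hbc, hbd, hcd⟩ := Finset.two_lt_card.1 hcc
  have haO : a ∈ O := Finset.mem_filter.2 ⟨Finset.mem_univ _, ha⟩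
  have hnd : [a, b, c, d].Nodup := by
    have h1 : a ≠ b := fun h => (Finset.mem_compl.1 hb) (h ▸ haO)
    have h2 : a ≠ c := fun h => (Finset.mem_compl.1 hc) (h ▸ haO)
    have h3 : a ≠ d := fun h => (Finset.mem_compl.1 hd) (h ▸ haO)
    simp [hbc, hbd, hcd, h1, h2, h3]
  obtain ⟨y, hy, he2⟩ := exists_move hx hnd
  have nb : ¬ x b % 8 = 4 := fun h => (Finset.mem_compl.1 hb) (Finset.mem_filter.2 ⟨Finset.mem_univ _, h⟩)
  have nc : ¬ x c % 8 = 4 := fun h => (Finset.mem_compl.1 hc) (Finset.mem_filter.2 ⟨Finset.mem_univ _, h⟩)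
  have nd : ¬ x d % 8 = 4 := fun h => (Finset.mem_compl.1 hd) (Finset.mem_filter.2 ⟨Finset.mem_univ _, h⟩)
  have fb := h4 b
  have fc := h4 c
  have fd := h4 d
  obtain ⟨z, hz, hz1⟩ := oddify_E2 hy.mem_right (by rw [hy.norm]; exact hn) (by omega)
    ⟨none, by omega⟩
  exact ⟨z, hy.trans hz, hz1⟩

theorem oddify {x : GolayPt → ℤ} (hx : x ∈ leechLattice) (hn : sqNorm x ≤ 64) (h0 : x ≠ 0) :
    ∃ y, Eqv x y ∧ y none % 2 = 1 := by
  by_cases ho : x none % 2 = 1
  · exact ⟨x, Eqv.refl hx, ho⟩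
  have he : x none % 2 = 0 := by omega
  by_cases h2 : ∃ i, x i % 4 = 2
  · exact oddify_E2 hx hn he h2
  have h4 : ∀ i, x i % 4 = 0 := by
    intro i
    have h3 : ¬ x i % 4 = 2 := fun h => h2 ⟨i, h⟩
    have := parity_of_mem hx i none
    omega
  by_cases h8 : ∃ i, x i % 8 = 4
  · exact oddify_E4 hx hn h4 h8
  have h8' : ∀ i, x i % 8 = 0 := by
    intro i
    have h3 : ¬ x i % 8 = 4 := fun h => h8 ⟨i, h⟩
    have := h4 i
    omega
  obtain ⟨a, ha⟩ : ∃ a, x a ≠ 0 := by
    by_contra hcon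
    apply h0
    funext i
    by_contra hi
    exact hcon ⟨i, hi⟩
  have hz : ∀ i, i ≠ a → x i = 0 := by
    intro i hi
    have h1 : ∑ j ∈ ({i, a} : Finset GolayPt), x j ^ 2 ≤ sqNorm x :=
      Finset.sum_le_sum_of_subset_of_nonneg (Finset.subset_univ _) fun i _ _ => sq_nonneg _
    rw [Finset.sum_pair hi] at h1
    have e1 := h8' i
    have e2 := h8' a
    by_contra hne
    have h3 : x i ≤ -8 ∨ 8 ≤ x i := by omega
    have h4 : x a ≤ -8 ∨ 8 ≤ x a := by omega
    rcases h3 with h3 | h3 <;> rcases h4 with h4 | h4 <;> nlinarith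
  have ha8 : x a = 8 ∨ x a = -8 := by
    have h1 := sq_le_sqNorm x a
    have e2 := h8' a
    have h5 : -8 ≤ x a ∧ x a ≤ 8 := by constructor <;> nlinarith
    omega
  have hcc : 2 < ({a} : Finset GolayPt)ᶜ.card := by
    rw [Finset.card_compl, card_golayPt, Finset.card_singleton]; omega
  obtain ⟨b, hb, c, hc, d, hd, hbc, hbd, hcd⟩ := Finset.two_lt_card.1 hcc
  simp only [Finset.mem_compl, Finset.mem_singleton] at hb hc hd
  have hnd : [a, b, c, d].Nodup := by
    simp [hbc, hbd, hcd, Ne.symm hb, Ne.symm hc, Ne.symm hd]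
  obtain ⟨y, hy, he2⟩ := exists_move hx hnd
  rw [hz b hb, hz c hc, hz d hd] at he2
  have hyn : sqNorm y ≤ 64 := by rw [hy.norm]; exact hn
  by_cases hy2 : ∃ i, y i % 4 = 2
  · obtain ⟨z, hz, hz1⟩ := oddify_E2 hy.mem_right hyn (by omega) hy2
    exact ⟨z, hy.trans hz, hz1⟩
  · have hy4 : ∀ i, y i % 4 = 0 := by
      intro i
      have h3 : ¬ y i % 4 = 2 := fun h => hy2 ⟨i, h⟩
      have := parity_of_mem hy.mem_right i none
      omega
    obtain ⟨z, hz, hz1⟩ := oddify_E4 hy.mem_right hyn hy4 ⟨none, by omega⟩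
    exact ⟨z, hy.trans hz, hz1⟩

/-- normalising the signs of an odd vector. -/
theorem normalize_odd {y : GolayPt → ℤ} (hy : y ∈ leechLattice) (ho : y none % 2 = 1) :
    ∃ z, Eqv y z ∧ ∀ i, z i % 4 = 1 := by
  refine ⟨_, eqv_sign (cls_mem_GC hy 3) hy, fun i => ?_⟩
  have h1 := parity_of_mem hy i none
  by_cases hi : i ∈ cls y 3
  · have h2 := mem_cls.1 hi
    simp only [hi, if_true]
    unfold Int.ModEq at h2
    omega
  · have h2 : ¬ (y i ≡ 3 [ZMOD 4]) := fun h => hi (mem_cls.2 h)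
    simp only [hi, if_false]
    unfold Int.ModEq at h2
    omega

/-- the vector with `-3` on `A`, `5` on `B` and `1` elsewhere. -/
def shp (A B : Finset GolayPt) : GolayPt → ℤ := fun i => if i ∈ A then -3 else if i ∈ B then 5 else 1

theorem shp_perm (σ : Equiv.Perm GolayPt) (A B : Finset GolayPt) :
    (fun i => shp A B (σ.symm i)) = shp (σ • A) (σ • B) := by
  funext i
  have h : ∀ S : Finset GolayPt, i ∈ σ • S ↔ σ.symm i ∈ S := by
    intro S
    have := mem_smul_finset_iff σ S (σ.symm i)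
    rwa [Equiv.apply_symm_apply] at this
  unfold shp
  simp only [h]

theorem smul_eq_of_map_toList {σ : Equiv.Perm GolayPt} {A A' : Finset GolayPt}
    (h : A.toList.map σ = A'.toList) : σ • A = A' := by
  rw [smul_finset_eq_image]
  ext i
  rw [← Finset.mem_toList (s := A'), ← h]
  simp

theorem shp_eqv {A B A' B' : Finset GolayPt} (hA : A.card = A'.card) (hB : B.card = B'.card)
    (hd : Disjoint A B) (hd' : Disjoint A' B') (h5 : A.card + B.card ≤ 5)
    (hL : shp A B ∈ leechLattice) : Eqv (shp A B) (shp A' B') := by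
  obtain ⟨σ, hσ, hmap⟩ := exists_M24_map_list (A.toList ++ B.toList) (A'.toList ++ B'.toList)
    (by simp [hA, hB]) (by simpa using h5)
    (List.Nodup.append (Finset.nodup_toList _) (Finset.nodup_toList _) (by
      intro a ha hb
      exact (Finset.disjoint_left.1 hd) (Finset.mem_toList.1 ha) (Finset.mem_toList.1 hb)))
    (List.Nodup.append (Finset.nodup_toList _) (Finset.nodup_toList _) (by
      intro a ha hb
      exact (Finset.disjoint_left.1 hd') (Finset.mem_toList.1 ha) (Finset.mem_toList.1 hb)))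
  rw [List.map_append] at hmap
  obtain ⟨h1, h2⟩ := List.append_inj hmap (by simp [hA])
  have := eqv_perm hσ hL
  rwa [shp_perm, smul_eq_of_map_toList h1, smul_eq_of_map_toList h2] at this

/-- the shape of a normalised odd vector of norm at most 64. -/
theorem shape_of_normalized {z : GolayPt → ℤ} (h1 : ∀ i, z i % 4 = 1) (hn : sqNorm z ≤ 64) :
    ∃ A B : Finset GolayPt, Disjoint A B ∧ z = shp A B ∧
      sqNorm z = 24 + 8 * A.card + 24 * B.card := by
  have hv : ∀ i, z i = 1 ∨ z i = -3 ∨ z i = 5 ∨ z i = -7 := by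
    intro i
    have h2 := sq_le_sqNorm z i
    have h3 := h1 i
    have h5 : -8 ≤ z i ∧ z i ≤ 8 := by constructor <;> nlinarith
    omega
  have hsq : ∀ i, z i ^ 2 = 1 + 8 * (if z i = -3 then 1 else 0) + 24 * (if z i = 5 then 1 else 0)
      + 48 * (if z i = -7 then 1 else 0) := by
    intro i
    rcases hv i with h | h | h | h <;> rw [h] <;> norm_num
  have hN : sqNorm z = 24 + 8 * ((Finset.univ.filter fun i => z i = -3).card : ℤ)
      + 24 * ((Finset.univ.filter fun i => z i = 5).card : ℤ)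
      + 48 * ((Finset.univ.filter fun i => z i = -7).card : ℤ) := by
    unfold sqNorm
    rw [Finset.sum_congr rfl (fun i _ => hsq i), Finset.sum_add_distrib, Finset.sum_add_distrib,
      Finset.sum_add_distrib, ← Finset.mul_sum, ← Finset.mul_sum, ← Finset.mul_sum]
    simp
  have h7 : (Finset.univ.filter fun i => z i = -7).card = 0 := by omega
  have h7' : ∀ i, z i ≠ -7 := by
    intro i hi
    have : i ∈ Finset.univ.filter fun i => z i = -7 := Finset.mem_filter.2 ⟨Finset.mem_univ _, hi⟩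
    rw [Finset.card_eq_zero.1 h7] at this
    simp at this
  refine ⟨Finset.univ.filter fun i => z i = -3, Finset.univ.filter fun i => z i = 5, ?_, ?_, ?_⟩
  · rw [Finset.disjoint_left]
    intro i hi hi'
    have a1 := (Finset.mem_filter.1 hi).2
    have a2 := (Finset.mem_filter.1 hi').2
    omega
  · funext i
    unfold shp
    simp only [Finset.mem_filter, Finset.mem_univ, true_and]
    rcases hv i with h | h | h | h
    · simp [h]
    · simp [h]
    · simp [h]
    · exact absurd h (h7' i)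
  · rw [hN, h7]; simp

theorem eqv_neg {x : GolayPt → ℤ} (hx : x ∈ leechLattice) : Eqv x (-x) := by
  have := eqv_sign gc_univ hx
  have e : (fun i => if i ∈ (Finset.univ : Finset GolayPt) then -x i else x i) = -x := by
    funext i; simp
  rwa [e] at this

theorem xi_fuse48 : xiF (shp ∅ {none}) = -shp {some 0, some 1, some 2} ∅ := by decide +kernel

theorem xi_fuse64 : xiF (shp {some 3, some 5} {none})
    = -shp {some 0, some 1, some 2, some 14, some 17} ∅ := by decide +kernel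

theorem shp48_mem : shp ∅ {none} ∈ leechLattice := mem_of_inL (by decide +kernel)

theorem shp64_mem : shp {some 3, some 5} {none} ∈ leechLattice := mem_of_inL (by decide +kernel)

theorem shp32_mem : shp {none} ∅ ∈ leechLattice := mem_of_inL (by decide +kernel)

theorem eqv_rep32 {x : GolayPt → ℤ} (hx : x ∈ leechLattice) (hn : sqNorm x = 32) :
    Eqv x (shp {none} ∅) := by
  have h0 : x ≠ 0 := by rintro rfl; rw [sqNorm_eq_zero.2 rfl] at hn; omega
  obtain ⟨y, hy, hy1⟩ := oddify hx (by omega) h0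
  obtain ⟨z, hz, hz1⟩ := normalize_odd hy.mem_right hy1
  have hzn : sqNorm z = 32 := by rw [hz.norm, hy.norm, hn]
  obtain ⟨A, B, hd, rfl, hN⟩ := shape_of_normalized hz1 (by omega)
  have hcases : A.card = 1 ∧ B.card = 0 := by omega
  exact (hy.trans hz).trans (shp_eqv (by simp [hcases.1]) (by simp [hcases.2]) hd (by simp)
    (by omega) hz.mem_right)

theorem eqv_rep48 {x : GolayPt → ℤ} (hx : x ∈ leechLattice) (hn : sqNorm x = 48) :
    Eqv x (shp ∅ {none}) := by
  have h0 : x ≠ 0 := by rintro rfl; rw [sqNorm_eq_zero.2 rfl] at hn; omega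
  obtain ⟨y, hy, hy1⟩ := oddify hx (by omega) h0
  obtain ⟨z, hz, hz1⟩ := normalize_odd hy.mem_right hy1
  have hzn : sqNorm z = 48 := by rw [hz.norm, hy.norm, hn]
  obtain ⟨A, B, hd, rfl, hN⟩ := shape_of_normalized hz1 (by omega)
  refine (hy.trans hz).trans ?_
  have hcases : (A.card = 0 ∧ B.card = 1) ∨ (A.card = 3 ∧ B.card = 0) := by omega
  rcases hcases with ⟨hA, hB⟩ | ⟨hA, hB⟩
  · exact shp_eqv (by simp [hA]) (by simp [hB]) hd (by simp) (by omega) hz.mem_right
  · have h1 : Eqv (shp A B) (shp {some 0, some 1, some 2} ∅) :=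
      shp_eqv (by rw [hA]; decide) (by simp [hB]) hd (by simp) (by omega) hz.mem_right
    have h2 := eqv_xi shp48_mem
    rw [xi_fuse48] at h2
    have h3 := (h2.trans (eqv_neg h2.mem_right))
    rw [neg_neg] at h3
    exact h1.trans h3.symm

theorem eqv_rep64 {x : GolayPt → ℤ} (hx : x ∈ leechLattice) (hn : sqNorm x = 64) :
    Eqv x (shp {some 3, some 5} {none}) := by
  have h0 : x ≠ 0 := by rintro rfl; rw [sqNorm_eq_zero.2 rfl] at hn; omega
  obtain ⟨y, hy, hy1⟩ := oddify hx (by omega) h0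
  obtain ⟨z, hz, hz1⟩ := normalize_odd hy.mem_right hy1
  have hzn : sqNorm z = 64 := by rw [hz.norm, hy.norm, hn]
  obtain ⟨A, B, hd, rfl, hN⟩ := shape_of_normalized hz1 (by omega)
  refine (hy.trans hz).trans ?_
  have hcases : (A.card = 2 ∧ B.card = 1) ∨ (A.card = 5 ∧ B.card = 0) := by omega
  rcases hcases with ⟨hA, hB⟩ | ⟨hA, hB⟩
  · exact shp_eqv (by rw [hA]; decide) (by simp [hB]) hd (by decide) (by omega) hz.mem_right
  · have h1 : Eqv (shp A B) (shp {some 0, some 1, some 2, some 14, some 17} ∅) :=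
      shp_eqv (by rw [hA]; decide) (by simp [hB]) hd (by simp) (by omega) hz.mem_right
    have h2 := eqv_xi shp64_mem
    rw [xi_fuse64] at h2
    have h3 := (h2.trans (eqv_neg h2.mem_right))
    rw [neg_neg] at h3
    exact h1.trans h3.symm

theorem co0_trans32 (v w : leechLattice) (hv : sqNorm (v : GolayPt → ℤ) = 32)
    (hw : sqNorm (w : GolayPt → ℤ) = 32) : ∃ g : Co0, g • v = w :=
  eqv_iff.1 ((eqv_rep32 v.2 hv).trans (eqv_rep32 w.2 hw).symm)

theorem co0_trans48 (v w : leechLattice) (hv : sqNorm (v : GolayPt → ℤ) = 48)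
    (hw : sqNorm (w : GolayPt → ℤ) = 48) : ∃ g : Co0, g • v = w :=
  eqv_iff.1 ((eqv_rep48 v.2 hv).trans (eqv_rep48 w.2 hw).symm)

theorem co0_trans64 (v w : leechLattice) (hv : sqNorm (v : GolayPt → ℤ) = 64)
    (hw : sqNorm (w : GolayPt → ℤ) = 64) : ∃ g : Co0, g • v = w :=
  eqv_iff.1 ((eqv_rep64 v.2 hv).trans (eqv_rep64 w.2 hw).symm)

end Cfsg.Agent.Lib.Helper28
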