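import Cfsg.Agent.Lib.Helper28.LeechMonomial
import Cfsg.Agent.Lib.Helper28.LeechTrans
import Cfsg.Agent.Lib.Helper28.LeechNorms
import Cfsg.Agent.Lib.Helper28.LeechIndex

/-!
The order of the monomial group and of `Co0`.
-/

set_option autoImplicit false

namespace Cfsg.Agent.Lib.Helper28

open Cfsg
open scoped Pointwise

theorem card_GC : Nat.card {c : Finset GolayPt // c ∈ GC} = 4096 := by
  rw [Nat.card_congr (Equiv.subtypeEquivRight (fun c => (mem_GCfin (c := c)).symm)),
    Nat.card_eq_fintype_card, Fintype.card_coe, card_GCfin]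

theorem card_preserves : Nat.card {g : Co0 // Preserves g} = 4096 * 244823040 := by
  have hbij : Function.Bijective (fun p : M24 × {c : Finset GolayPt // c ∈ GC} =>
      (⟨monoEl p.1 p.2, monoEl_preserves p.1 p.2⟩ : {g : Co0 // Preserves g})) := by
    constructor
    · intro p q h
      exact monoEl_injective (congrArg Subtype.val h)
    · rintro ⟨g, hg⟩
      obtain ⟨σ, c, rfl⟩ := exists_monoEl g hg
      exact ⟨(σ, c), rfl⟩
  rw [← Nat.card_congr (Equiv.ofBijective _ hbij), Nat.card_prod, card_M24, card_GC]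

theorem diff4_mem (k : GolayPt) : ((Pi.single k 4 : GolayPt → ℤ) - Pi.single none 4) ∈ leechLattice :=
  mem_of_inL (by revert k; decide +kernel)

theorem sqNorm_single8 : ∀ k : GolayPt, sqNorm (Pi.single k 8 : GolayPt → ℤ) = 64 := by
  decide +kernel

theorem mem_stdCross_of_congr {u : GolayPt → ℤ} (hu : u ∈ leechLattice) (hn : sqNorm u = 64)
    (hc : ∃ z ∈ leechLattice, (Pi.single none 8 : GolayPt → ℤ) - u = 2 • z) : u ∈ stdCross := by
  obtain ⟨z, hz, he⟩ := hc
  by_contra hcon
  have hzero : ∀ k, u k = 0 := by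
    intro k
    have hne : (Pi.single k 8 : GolayPt → ℤ) ≠ u := fun h => hcon ⟨k, 8, Or.inl rfl, h.symm⟩
    have hN : sqNorm (Pi.single k 8 : GolayPt → ℤ) = 64 := sqNorm_single8 k
    have hcong : ∃ z' ∈ leechLattice, (Pi.single k 8 : GolayPt → ℤ) - u = 2 • z' := by
      refine ⟨(Pi.single k 4 - Pi.single none 4) + z, leechLattice.add_mem (diff4_mem k) hz, ?_⟩
      rw [smul_add, ← he, smul_sub, ← Pi.single_smul, ← Pi.single_smul]
      simp
    rcases short_congruent (single8_mem k) hu hne (le_of_eq hN) (le_of_eq hn) hcong with h | h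
    · exfalso
      apply hcon
      refine ⟨k, -8, Or.inr rfl, ?_⟩
      rw [Pi.single_neg, h, neg_neg]
    · have h3 := h.2.2
      unfold dotInt at h3
      rw [Finset.sum_eq_single k] at h3
      · rw [Pi.single_eq_same] at h3; omega
      · intro j _ hj; rw [Pi.single_eq_of_ne hj, zero_mul]
      · intro hk; exact absurd (Finset.mem_univ _) hk
  have : u = 0 := funext hzero
  rw [this, sqNorm_eq_zero.2 rfl] at hn
  omega

theorem stdCross_congr {y : GolayPt → ℤ} (hy : y ∈ stdCross) :
    ∃ z ∈ leechLattice, (Pi.single none 8 : GolayPt → ℤ) - y = 2 • z := by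
  obtain ⟨j, t, ht, rfl⟩ := hy
  have h1 : ∀ j : GolayPt, inL ((Pi.single none 4 : GolayPt → ℤ) - Pi.single j 4) = true ∧
      inL ((Pi.single none 4 : GolayPt → ℤ) + Pi.single j 4) = true := by decide +kernel
  rcases ht with rfl | rfl
  · refine ⟨_, mem_of_inL (h1 j).1, ?_⟩
    rw [smul_sub, ← Pi.single_smul, ← Pi.single_smul]; simp
  · refine ⟨_, mem_of_inL (h1 j).2, ?_⟩
    rw [smul_add, ← Pi.single_smul, ← Pi.single_smul, Pi.single_neg]; simp

theorem sqNorm_stdCross {y : GolayPt → ℤ} (hy : y ∈ stdCross) : sqNorm y = 64 := by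
  obtain ⟨j, t, ht, rfl⟩ := hy
  have h1 : ∀ j : GolayPt, sqNorm (Pi.single j 8 : GolayPt → ℤ) = 64 ∧
      sqNorm (Pi.single j (-8) : GolayPt → ℤ) = 64 := by decide +kernel
  rcases ht with rfl | rfl
  · exact (h1 j).1
  · exact (h1 j).2

theorem preserves_of_fix {g : Co0} (hg : g • E8 none = E8 none) : Preserves g := by
  intro v hv
  obtain ⟨z, hz, he⟩ := stdCross_congr hv
  refine mem_stdCross_of_congr (Subtype.coe_prop _) (by rw [co0_norm]; exact sqNorm_stdCross hv) ?_
  refine ⟨((g • (⟨z, hz⟩ : leechLattice) : leechLattice) : GolayPt → ℤ), Subtype.coe_prop _, ?_⟩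
  have h1 : E8 none - v = (2 : ℤ) • (⟨z, hz⟩ : leechLattice) := by
    apply Subtype.ext
    rw [AddSubgroup.coe_sub, AddSubgroup.coe_zsmul, E8_coe, he, two_smul, two_smul]
  have h2 := congrArg (fun w => g • w) h1
  simp only [co0_sub, co0_zsmul, hg] at h2
  have h3 := congrArg Subtype.val h2
  rw [AddSubgroup.coe_sub, AddSubgroup.coe_zsmul, E8_coe] at h3
  rw [h3, two_smul, two_smul]

theorem un_enc_injOn : Set.InjOn (fun a => un (enc B12 a)) (Finset.range 4096 : Set ℕ) := by
  intro a ha b hb h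
  simp only [Finset.coe_range, Set.mem_Iio] at ha hb
  have h' : mk (un (enc B12 a)) = mk (un (enc B12 b)) := congrArg mk h
  rw [mk_un (enc_facts a ha).2.1, mk_un (enc_facts b hb).2.1] at h'
  rw [← (enc_facts a ha).1, ← (enc_facts b hb).1, h']

theorem card_GC_avoid : Nat.card {c : {c : Finset GolayPt // c ∈ GC} // none ∉ c.1} = 2048 := by
  have e : {c : {c : Finset GolayPt // c ∈ GC} // none ∉ c.1} ≃
      {c : Finset GolayPt // c ∈ GCfin.filter fun c => none ∉ c} :=
    (Equiv.subtypeSubtypeEquivSubtypeInter (fun c : Finset GolayPt => c ∈ GC)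
      (fun c : Finset GolayPt => none ∉ c)).trans (Equiv.subtypeEquivRight (fun c => by
      rw [Finset.mem_filter, mem_GCfin]))
  rw [Nat.card_congr e, Nat.card_eq_fintype_card, Fintype.card_coe]
  unfold GCfin
  rw [Finset.filter_image, Finset.card_image_of_injOn (un_enc_injOn.mono (by
    intro a ha; exact Finset.mem_coe.2 (Finset.mem_filter.1 (Finset.mem_coe.1 ha)).1))]
  have : (Finset.range 4096).filter (fun a => none ∉ un (enc B12 a))
      = (Finset.range 4096).filter (fun a => (enc B12 a).testBit 23 = false) := by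
    apply Finset.filter_congr
    intro a _
    rw [mem_un]
    have : idx none = 23 := rfl
    rw [this]
    simp
  rw [this]
  decide +kernel

theorem card_stab_E8 : Nat.card (MulAction.stabilizer Co0 (E8 none)) = 10200960 * 2048 := by
  have hfix : ∀ p : {σ : M24 // σ ∈ MulAction.stabilizer M24 (none : GolayPt)} ×
      {c : {c : Finset GolayPt // c ∈ GC} // none ∉ c.1},
      monoEl p.1.1 p.2.1 ∈ MulAction.stabilizer Co0 (E8 none) := by
    rintro ⟨⟨σ, hσ⟩, ⟨c, hc⟩⟩
    rw [MulAction.mem_stabilizer_iff]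
    apply Subtype.ext
    have h1 : σ.1 none = none := hσ
    rw [monoEl_smul, E8_coe, signedPerm_single, h1, if_neg hc]
  have hbij : Function.Bijective (fun p : {σ : M24 // σ ∈ MulAction.stabilizer M24 (none : GolayPt)} ×
      {c : {c : Finset GolayPt // c ∈ GC} // none ∉ c.1} =>
      (⟨monoEl p.1.1 p.2.1, hfix p⟩ : MulAction.stabilizer Co0 (E8 none))) := by
    constructor
    · rintro ⟨⟨σ, hσ⟩, ⟨c, hc⟩⟩ ⟨⟨σ', hσ'⟩, ⟨c', hc'⟩⟩ h
      have := monoEl_injective (a₁ := (σ, c)) (a₂ := (σ', c')) (congrArg Subtype.val h)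
      simp only [Prod.mk.injEq] at this
      obtain ⟨rfl, rfl⟩ := this
      rfl
    · rintro ⟨g, hg⟩
      obtain ⟨σ, c, rfl⟩ := exists_monoEl g (preserves_of_fix hg)
      have h1 := congrArg Subtype.val (MulAction.mem_stabilizer_iff.1 hg)
      rw [monoEl_smul, E8_coe, signedPerm_single] at h1
      have hσ : σ.1 none = none := by
        by_contra hne
        have h2 := congrFun h1 (σ.1 none)
        rw [Pi.single_eq_same, Pi.single_eq_of_ne hne] at h2
        split_ifs at h2 <;> omega
      have hc : none ∉ c.1 := by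
        intro hc
        have h2 := congrFun h1 none
        rw [hσ, if_pos hc, Pi.single_eq_same, Pi.single_eq_same] at h2
        omega
      exact ⟨(⟨σ, hσ⟩, ⟨c, hc⟩), rfl⟩
  rw [← Nat.card_congr (Equiv.ofBijective _ hbij), Nat.card_prod, card_GC_avoid]
  congr 1
  exact card_stabilizer_pt none

theorem ncard_orbit_E8 : (MulAction.orbit Co0 (E8 none)).ncard = 398034000 := by
  rw [← ncard_norm64]
  have e : {x : GolayPt → ℤ | x ∈ leechLattice ∧ sqNorm x = 64}
      = Subtype.val '' (MulAction.orbit Co0 (E8 none)) := by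
    ext x
    simp only [Set.mem_ofPred_eq, Set.mem_image]
    have hN : sqNorm ((E8 none : leechLattice) : GolayPt → ℤ) = 64 := by
      rw [E8_coe]; decide +kernel
    constructor
    · rintro ⟨hx, hn⟩
      obtain ⟨g, hg⟩ := co0_trans64 (E8 none) ⟨x, hx⟩ hN hn
      exact ⟨⟨x, hx⟩, ⟨g, hg⟩, rfl⟩
    · rintro ⟨v, ⟨g, rfl⟩, rfl⟩
      refine ⟨Subtype.coe_prop _, ?_⟩
      show sqNorm ((g • E8 none : leechLattice) : GolayPt → ℤ) = 64
      rw [co0_norm, hN]
  rw [e, Set.ncard_image_of_injective _ Subtype.val_injective]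

theorem card_Co0 : Nat.card Co0 = 8315553613086720000 := by
  rw [← Subgroup.card_mul_index (MulAction.stabilizer Co0 (E8 none)), MulAction.index_stabilizer,
    card_stab_E8, ncard_orbit_E8]

end Cfsg.Agent.Lib.Helper28
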