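import Cfsg.Agent.Lib.Helper28.LeechCensus3
import Cfsg.Agent.Lib.Helper28.LeechOrder
import Cfsg.Agent.Lib.Helper28.M24Pts

/-!
The Higman–Sims configuration: the stabiliser of `u5 = (5, 1, ..., 1)` and `vMinus = (4, -4, 0, ...)`
acting on 100 minimal vectors.
-/

set_option autoImplicit false

namespace Cfsg.Agent.Lib.Helper28

open Cfsg
open scoped Pointwise

theorem card_eq_stab_mul {G X : Type*} [Group G] [MulAction G X] (H : Subgroup G) (x : X)
    (S : Set X) (hS : ∀ y, y ∈ S ↔ ∃ g ∈ H, g • x = y) :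
    Nat.card H = Nat.card ↥(H ⊓ MulAction.stabilizer G x) * S.ncard := by
  have h1 := Subgroup.card_mul_index (MulAction.stabilizer ↥H x)
  rw [MulAction.index_stabilizer] at h1
  have h2 : MulAction.orbit ↥H x = S := by
    ext y
    rw [hS y]
    constructor
    · rintro ⟨g, rfl⟩; exact ⟨g.1, g.2, rfl⟩
    · rintro ⟨g, hg, rfl⟩; exact ⟨⟨g, hg⟩, rfl⟩
  have h3 : Nat.card (MulAction.stabilizer ↥H x) = Nat.card ↥(H ⊓ MulAction.stabilizer G x) :=
    Nat.card_congr ⟨fun g => ⟨g.1.1, g.1.2, g.2⟩, fun g => ⟨⟨g.1, g.2.1⟩, g.2.2⟩,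
      fun _ => rfl, fun _ => rfl⟩
  rw [← h1, h2, h3]

theorem card_stab48 (v : leechLattice) (hv : sqNorm (v : GolayPt → ℤ) = 48) :
    Nat.card (MulAction.stabilizer Co0 v) = 495766656000 := by
  have h1 := Subgroup.card_mul_index (MulAction.stabilizer Co0 v)
  rw [MulAction.index_stabilizer, card_Co0] at h1
  have h2 : (MulAction.orbit Co0 v).ncard = 16773120 := by
    rw [← ncard_norm48, ncard_val (fun x => sqNorm x = 48)]
    congr 1
    ext x
    constructor
    · rintro ⟨g, rfl⟩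
      show sqNorm ((g • v : leechLattice) : GolayPt → ℤ) = 48
      rw [co0_norm, hv]
    · intro hx
      exact co0_trans48 v x hv hx
  rw [h2] at h1
  omega

theorem co0_trans48_16 (u x x' : leechLattice) (hu : sqNorm (u : GolayPt → ℤ) = 48)
    (hx1 : sqNorm (x : GolayPt → ℤ) = 32) (hx2 : dotInt (u : GolayPt → ℤ) (x : GolayPt → ℤ) = -16)
    (hx1' : sqNorm (x' : GolayPt → ℤ) = 32)
    (hx2' : dotInt (u : GolayPt → ℤ) (x' : GolayPt → ℤ) = -16) :
    ∃ g : Co0, g • u = u ∧ g • x = x' := by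
  obtain ⟨g, hg1, hg2⟩ := co0_trans32_16 (-x) (-x') u u
    (by rw [AddSubgroup.coe_neg, sqNorm_neg]; exact hx1)
    (by rw [AddSubgroup.coe_neg, sqNorm_neg]; exact hx1') hu hu
    (by rw [AddSubgroup.coe_neg, dotInt_neg_left, dotInt_comm', hx2]; rfl)
    (by rw [AddSubgroup.coe_neg, dotInt_neg_left, dotInt_comm', hx2']; rfl)
  refine ⟨g, hg2, ?_⟩
  rw [co0_neg] at hg1
  exact neg_injective hg1

theorem card_stab48_32 (u x : leechLattice) (hu : sqNorm (u : GolayPt → ℤ) = 48)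
    (hx1 : sqNorm (x : GolayPt → ℤ) = 32) (hx2 : dotInt (u : GolayPt → ℤ) (x : GolayPt → ℤ) = -16) :
    Nat.card ↥(MulAction.stabilizer Co0 u ⊓ MulAction.stabilizer Co0 x) = 44352000 := by
  have h1 := card_eq_stab_mul (MulAction.stabilizer Co0 u) x
    {y : leechLattice | sqNorm (y : GolayPt → ℤ) = 32 ∧
      dotInt (u : GolayPt → ℤ) (y : GolayPt → ℤ) = -16} (by
    intro y
    constructor
    · rintro ⟨h1, h2⟩
      obtain ⟨g, hg1, hg2⟩ := co0_trans48_16 u x y hu hx1 hx2 h1 h2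
      exact ⟨g, hg1, hg2⟩
    · rintro ⟨g, hg, rfl⟩
      have hg' : g • u = u := hg
      refine ⟨by rw [co0_norm, hx1], ?_⟩
      conv_lhs => rw [← hg']
      rw [co0_dot, hx2])
  rw [card_stab48 u hu, census48_16 u hu] at h1
  omega

/-- the group of the configuration. -/
def H5 : Subgroup Co0 := MulAction.stabilizer Co0 u5 ⊓ MulAction.stabilizer Co0 vMinus

theorem mem_H5 {g : Co0} : g ∈ H5 ↔ g • u5 = u5 ∧ g • vMinus = vMinus := Iff.rfl

theorem dot_u5_vMinus : dotInt ((u5 : leechLattice) : GolayPt → ℤ)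
    ((vMinus : leechLattice) : GolayPt → ℤ) = 16 := by
  rw [dotInt_comm', dot_vMinus, u5_coe]; decide +kernel

theorem card_H5 : Nat.card H5 = 44352000 := by
  rw [← card_stab48_32 u5 (-vMinus) sqNorm_u5
    (by rw [AddSubgroup.coe_neg, sqNorm_neg, sqNorm_vMinus])
    (by rw [AddSubgroup.coe_neg, dotInt_comm', dotInt_neg_left, dotInt_comm', dot_u5_vMinus])]
  have : H5 = MulAction.stabilizer Co0 u5 ⊓ MulAction.stabilizer Co0 (-vMinus) := by
    ext g
    simp only [H5, Subgroup.mem_inf, MulAction.mem_stabilizer_iff, co0_neg, neg_inj]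
  rw [this]

/-- the 100 points. -/
def T5 : Set leechLattice := {x | sqNorm (x : GolayPt → ℤ) = 32 ∧
  dotInt ((u5 : leechLattice) : GolayPt → ℤ) (x : GolayPt → ℤ) = 24 ∧
  dotInt ((vMinus : leechLattice) : GolayPt → ℤ) (x : GolayPt → ℤ) = 0}

theorem cenHS : ∑ p ∈ Pdiff 0, leechCnt2 {p.1} {p.2} A5 h6 h6 h6 (192 + 24 - 4 * p.1).toNat (2 ^ 80)
    = 100 := by decide +kernel

theorem Pdiff_sub (d : ℤ) : ∀ p ∈ Pdiff d, p.1 ∈ A5 ∧ p.2 ∈ A5 := by
  intro p hp
  simp only [Pdiff, Finset.mem_filter, Finset.mem_product] at hp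
  exact hp.1

theorem ncard_T5 : T5.ncard = 100 := by
  rw [← cenHS, ← census_u5 24 (by decide) (by decide) (Pdiff 0) (Pdiff_sub 0), T5,
    ← ncard_val (fun x => sqNorm x = 32 ∧ dotInt ((u5 : leechLattice) : GolayPt → ℤ) x = 24 ∧
      dotInt ((vMinus : leechLattice) : GolayPt → ℤ) x = 0)]
  congr 1
  ext x
  simp only [Set.mem_ofPred_eq, dot_vMinus, Pdiff, Finset.mem_filter, Finset.mem_product]
  constructor
  · rintro ⟨h1, h2, h3, h4⟩
    have hA := mem_A5_of_sqNorm_le (x := x) (by omega)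
    exact ⟨h1, h2, h3, ⟨hA _, hA _⟩, by omega⟩
  · rintro ⟨h1, h2, h3, _, h4⟩
    exact ⟨h1, h2, h3, by omega⟩

theorem smul_mem_T5 {g : Co0} (hg : g ∈ H5) {x : leechLattice} (hx : x ∈ T5) : g • x ∈ T5 := by
  obtain ⟨h1, h2⟩ := mem_H5.1 hg
  obtain ⟨a, b, c⟩ := hx
  refine ⟨by rw [co0_norm, a], ?_, ?_⟩
  · conv_lhs => rw [← h1]
    rw [co0_dot, b]
  · conv_lhs => rw [← h2]
    rw [co0_dot, c]

theorem vPlus_coe : ((vPlus : leechLattice) : GolayPt → ℤ)
    = (Pi.single none 4 : GolayPt → ℤ) + Pi.single (some 0) 4 := rfl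

theorem vPlus_mem_T5 : vPlus ∈ T5 := by
  refine ⟨?_, ?_, ?_⟩
  · rw [vPlus_coe]; decide +kernel
  · rw [dot_u5, vPlus_coe]; decide +kernel
  · rw [dot_vMinus, vPlus_coe]; decide +kernel


/-- the coordinate permutation, as a monomial element. -/
def pEl (σ : M24) : Co0 := monoEl σ ⟨∅, gc_empty⟩

theorem pEl_smul (σ : M24) (v : leechLattice) (k : GolayPt) :
    ((pEl σ • v : leechLattice) : GolayPt → ℤ) k = (v : GolayPt → ℤ) (σ.1.symm k) := by
  unfold pEl
  rw [monoEl_smul]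
  simp [signedPerm]

theorem pEl_injective : Function.Injective pEl := by
  intro σ σ' h
  have := monoEl_injective (a₁ := (σ, ⟨∅, gc_empty⟩)) (a₂ := (σ', ⟨∅, gc_empty⟩)) h
  exact congrArg Prod.fst this

theorem pEl_fix {σ : M24} (h1 : σ.1 none = none) (h2 : σ.1 (some 0) = some 0) :
    pEl σ • u5 = u5 ∧ pEl σ • vMinus = vMinus ∧ pEl σ • vPlus = vPlus := by
  refine ⟨?_, ?_, ?_⟩
  · apply Subtype.ext
    funext k
    rw [pEl_smul, u5_coe]
    have := congrFun (shp_perm σ.1 ∅ {none}) k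
    rw [this]
    have e1 : σ.1 • (∅ : Finset GolayPt) = ∅ := by simp
    have e2 : σ.1 • ({none} : Finset GolayPt) = {none} := by
      rw [Finset.smul_finset_singleton]
      exact congrArg _ h1
    rw [e1, e2]
  · apply Subtype.ext
    funext k
    rw [pEl_smul, vMinus_coe, Pi.sub_apply, Pi.sub_apply, single_symm, single_symm, h1, h2]
  · apply Subtype.ext
    funext k
    rw [pEl_smul, vPlus_coe, Pi.add_apply, Pi.add_apply, single_symm, single_symm, h1, h2]

theorem E8_none_eq : E8 none = vPlus + vMinus := by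
  apply Subtype.ext
  rw [AddSubgroup.coe_add, E8_coe, vPlus_coe, vMinus_coe]
  decide +kernel

theorem E8_zero_eq : E8 (some 0) = vPlus - vMinus := by
  apply Subtype.ext
  rw [AddSubgroup.coe_sub, E8_coe, vPlus_coe, vMinus_coe]
  decide +kernel

theorem u5_pos (k : GolayPt) : 0 < ((u5 : leechLattice) : GolayPt → ℤ) k := by
  rw [u5_coe]; unfold shp; split_ifs <;> simp_all

/-- the elements fixing `u5`, `vMinus` and `vPlus` are coordinate permutations. -/
theorem exists_pEl {g : Co0} (h1 : g • u5 = u5) (h2 : g • vMinus = vMinus) (h3 : g • vPlus = vPlus) :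
    ∃ σ : M24, σ.1 none = none ∧ σ.1 (some 0) = some 0 ∧ g = pEl σ := by
  have hE : g • E8 none = E8 none := by rw [E8_none_eq, co0_add, h2, h3]
  have hE0 : g • E8 (some 0) = E8 (some 0) := by rw [E8_zero_eq, co0_sub, h2, h3]
  obtain ⟨σ, c, rfl⟩ := exists_monoEl g (preserves_of_fix hE)
  have hfix : ∀ i, monoEl σ c • E8 i = E8 i → σ.1 i = i := by
    intro i hi
    have a1 := congrArg Subtype.val hi
    rw [monoEl_smul, E8_coe, signedPerm_single] at a1
    by_contra hne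
    have a2 := congrFun a1 (σ.1 i)
    rw [Pi.single_eq_same, Pi.single_eq_of_ne hne] at a2
    split_ifs at a2 <;> omega
  have hc : c.1 = ∅ := by
    rw [Finset.eq_empty_iff_forall_notMem]
    intro k hk
    have a1 := congrFun (congrArg Subtype.val h1) k
    rw [monoEl_smul] at a1
    unfold signedPerm at a1
    rw [if_pos hk] at a1
    have a2 := u5_pos k
    have a3 := u5_pos (σ.1.symm k)
    omega
  refine ⟨σ, hfix _ hE, hfix _ hE0, ?_⟩
  unfold pEl
  congr 1
  exact Subtype.ext hc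

theorem card_H5_vPlus : Nat.card ↥(H5 ⊓ MulAction.stabilizer Co0 vPlus) = 443520 := by
  rw [← card_stabilizer_pt2 (p := none) (q := some 0) (by decide)]
  symm
  have hmem : ∀ σ : ↥(MulAction.stabilizer M24 (none : GolayPt) ⊓ MulAction.stabilizer M24 (some 0 : GolayPt)),
      pEl σ.1 ∈ H5 ⊓ MulAction.stabilizer Co0 vPlus := by
    rintro ⟨σ, a1, a2⟩
    obtain ⟨b1, b2, b3⟩ := pEl_fix (σ := σ) a1 a2
    exact ⟨⟨b1, b2⟩, b3⟩
  apply Nat.card_congr
  apply Equiv.ofBijective (fun σ => (⟨pEl σ.1, hmem σ⟩ : ↥(H5 ⊓ MulAction.stabilizer Co0 vPlus)))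
  constructor
  · intro σ σ' h
    exact Subtype.ext (pEl_injective (congrArg Subtype.val h))
  · rintro ⟨g, ⟨b1, b2⟩, b3⟩
    obtain ⟨σ, a1, a2, rfl⟩ := exists_pEl b1 b2 b3
    exact ⟨⟨σ, a1, a2⟩, rfl⟩

theorem finite_T5 : T5.Finite := Set.finite_of_ncard_ne_zero (by rw [ncard_T5]; decide)

/-- the group is transitive on the 100 points. -/
theorem T5_eq_orbit : {y : leechLattice | ∃ g ∈ H5, g • vPlus = y} = T5 := by
  apply Set.eq_of_subset_of_ncard_le _ _ finite_T5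
  · rintro y ⟨g, hg, rfl⟩
    exact smul_mem_T5 hg vPlus_mem_T5
  · have h1 := card_eq_stab_mul H5 vPlus {y : leechLattice | ∃ g ∈ H5, g • vPlus = y}
      (fun y => Iff.rfl)
    rw [card_H5, card_H5_vPlus] at h1
    rw [ncard_T5]
    omega

theorem H5_trans {x x' : leechLattice} (hx : x ∈ T5) (hx' : x' ∈ T5) : ∃ g ∈ H5, g • x = x' := by
  rw [← T5_eq_orbit] at hx hx'
  obtain ⟨g, hg, rfl⟩ := hx
  obtain ⟨g', hg', rfl⟩ := hx'
  exact ⟨g' * g⁻¹, H5.mul_mem hg' (H5.inv_mem hg), by rw [mul_smul, inv_smul_smul]⟩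

/-- reduction of a general configuration to the standard one. -/
theorem exists_to_std (v w : leechLattice) (hv : sqNorm (v : GolayPt → ℤ) = 48)
    (hw : sqNorm (w : GolayPt → ℤ) = 48)
    (hvw : dotInt (v : GolayPt → ℤ) (w : GolayPt → ℤ) = -32) :
    ∃ g : Co0, g • v = u5 ∧ g • w = vMinus - u5 := by
  obtain ⟨g, h1, h2⟩ := co0_trans32_16 (v + w) vMinus v u5
    (by rw [AddSubgroup.coe_add, sqNorm_add]; omega) sqNorm_vMinus hv sqNorm_u5
    (by
      have h3 : dotInt (((v + w : leechLattice)) : GolayPt → ℤ) (v : GolayPt → ℤ)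
          = sqNorm (v : GolayPt → ℤ) + dotInt (v : GolayPt → ℤ) (w : GolayPt → ℤ) := by
        rw [AddSubgroup.coe_add]
        unfold dotInt sqNorm
        rw [← Finset.sum_add_distrib]
        refine Finset.sum_congr rfl fun i _ => ?_
        simp only [Pi.add_apply]; ring
      rw [h3]; omega)
    (by rw [dotInt_comm', dot_u5_vMinus])
  refine ⟨g, h2, ?_⟩
  rw [co0_add, h2] at h1
  rw [← h1]; abel


theorem dotInt_add_left (a b x : GolayPt → ℤ) : dotInt (a + b) x = dotInt a x + dotInt b x := by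
  unfold dotInt
  rw [← Finset.sum_add_distrib]
  refine Finset.sum_congr rfl fun i _ => ?_
  simp only [Pi.add_apply]; ring

theorem mem_T5_iff_of_std {v w : leechLattice} {g0 : Co0} (h1 : g0 • v = u5)
    (h2 : g0 • w = vMinus - u5) (x : leechLattice) :
    g0 • x ∈ T5 ↔ sqNorm (x : GolayPt → ℤ) = 32 ∧
      dotInt (v : GolayPt → ℤ) (x : GolayPt → ℤ) = 24 ∧
      dotInt (w : GolayPt → ℤ) (x : GolayPt → ℤ) = -24 := by
  have h3 : g0 • (v + w) = vMinus := by rw [co0_add, h1, h2]; abel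
  unfold T5
  rw [Set.mem_ofPred_eq, co0_norm, ← h1, co0_dot, ← h3, co0_dot, AddSubgroup.coe_add,
    dotInt_add_left]
  constructor
  · rintro ⟨a, b, c⟩; exact ⟨a, b, by omega⟩
  · rintro ⟨a, b, c⟩; exact ⟨a, b, by omega⟩

theorem conj_fix_of_std {v w : leechLattice} {g0 h : Co0} (h1 : g0 • v = u5)
    (h2 : g0 • w = vMinus - u5) (hh : h ∈ H5) :
    (g0⁻¹ * h * g0) • v = v ∧ (g0⁻¹ * h * g0) • w = w := by
  obtain ⟨a, b⟩ := mem_H5.1 hh
  constructor
  · rw [mul_smul, mul_smul, h1, a, ← h1, inv_smul_smul]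
  · rw [mul_smul, mul_smul, h2, co0_sub, a, b, ← h2, inv_smul_smul]

end Cfsg.Agent.Lib.Helper28
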