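import Cfsg.Agent.Lib.Helper28.HSGraphD
import Cfsg.Agent.S1583
import Cfsg.Agent.S1584
import Cfsg.Agent.S0405
import Cfsg.Agent.S0410

/-!
The graph on the 100 lattice points of the Higman-Sims configuration.
-/

set_option autoImplicit false

namespace Cfsg.Agent.Lib.Helper28.HSGraph

open Cfsg Finset Cfsg.Agent.Lib.Helper28

/-- the 100 points -/
def X (v w : leechLattice) : Set leechLattice :=
  {x : ↥Cfsg.leechLattice | Cfsg.sqNorm (x : Cfsg.GolayPt → ℤ) = 32 ∧
    Cfsg.dotInt (v : Cfsg.GolayPt → ℤ) (x : Cfsg.GolayPt → ℤ) = 24 ∧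
    Cfsg.dotInt (w : Cfsg.GolayPt → ℤ) (x : Cfsg.GolayPt → ℤ) = -24}

/-- the graph -/
def Gam (v w : leechLattice) : SimpleGraph ↥(X v w) where
  Adj a b := dotInt ((a : leechLattice) : GolayPt → ℤ) ((b : leechLattice) : GolayPt → ℤ) = 8
  symm := ⟨fun a b h => by rw [dotInt_comm']; exact h⟩
  loopless := ⟨fun a h => by
    have h1 := a.2.1
    rw [dotInt_self] at h
    omega⟩

theorem gam_adj {v w : leechLattice} (a b : ↥(X v w)) : (Gam v w).Adj a b ↔
    dotInt ((a : leechLattice) : GolayPt → ℤ) ((b : leechLattice) : GolayPt → ℤ) = 8 := Iff.rfl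

theorem sqNorm5 (x y z v w : GolayPt → ℤ) : sqNorm (x + y + z - v + w)
    = sqNorm x + sqNorm y + sqNorm z + sqNorm v + sqNorm w
      + 2 * (dotInt x y + dotInt x z + dotInt y z - dotInt v x - dotInt v y - dotInt v z
        + dotInt w x + dotInt w y + dotInt w z - dotInt v w) := by
  unfold sqNorm dotInt
  simp only [Finset.mul_sum, ← Finset.sum_add_distrib, ← Finset.sum_sub_distrib]
  refine Finset.sum_congr rfl fun i _ => ?_
  simp only [Pi.add_apply, Pi.sub_apply]; ring

theorem smul_mem_X {v w : leechLattice} {g : Co0} (hgv : g • v = v) (hgw : g • w = w)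
    {u : leechLattice} (hu : u ∈ X v w) : g • u ∈ X v w := by
  obtain ⟨a, b, c⟩ := hu
  refine ⟨by rw [co0_norm, a], ?_, ?_⟩
  · conv_lhs => rw [← hgv]
    rw [co0_dot, b]
  · conv_lhs => rw [← hgw]
    rw [co0_dot, c]

theorem card_filter_X {v w : leechLattice} [Fintype ↥(X v w)] (P : leechLattice → Prop)
    [DecidablePred fun u : ↥(X v w) => P u.1] :
    (univ.filter (fun u : ↥(X v w) => P u.1)).card = {y | y ∈ X v w ∧ P y}.ncard := by
  rw [← Set.ncard_coe_finset, ← Set.ncard_image_of_injective _ Subtype.val_injective]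
  congr 1
  ext y
  simp only [Set.mem_image, Finset.coe_filter, Finset.mem_univ, true_and, Set.mem_ofPred_eq]
  constructor
  · rintro ⟨u, hu, rfl⟩
    exact ⟨u.2, hu⟩
  · rintro ⟨h1, h2⟩
    exact ⟨⟨y, h1⟩, h2, rfl⟩

section

variable {v w : leechLattice} (hv : sqNorm (v : GolayPt → ℤ) = 48)
  (hw : sqNorm (w : GolayPt → ℤ) = 48)
  (hvw : dotInt (v : GolayPt → ℤ) (w : GolayPt → ℤ) = -32)

include hv hw hvw in
theorem gam_isHSG [Fintype ↥(X v w)] [DecidableEq ↥(X v w)] [DecidableRel (Gam v w).Adj] :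
    IsHSG (Gam v w) := by
  apply isHSG_of_const
  · rw [← Nat.card_eq_fintype_card, Nat.card_coe_set_eq]
    exact (Cfsg.Agent.S1583.result v w hv hw hvw).1
  · intro a
    have := (Cfsg.Agent.S1584.result v w a.1 hv hw hvw a.2).1
    rw [← this]
    have h2 := card_filter_X (v := v) (w := w)
      (fun y => dotInt ((a : leechLattice) : GolayPt → ℤ) (y : GolayPt → ℤ) = 8)
    convert h2 using 2
    · ext u
      simp only [Finset.mem_filter, Finset.mem_univ, true_and, gam_adj]
    · rfl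
  · intro a b c hab hbc hac
    rw [gam_adj] at hab hbc hac
    have hn := sqNorm5 (a.1 : GolayPt → ℤ) (b.1 : GolayPt → ℤ) (c.1 : GolayPt → ℤ)
      (v : GolayPt → ℤ) (w : GolayPt → ℤ)
    rw [hab, hbc, hac, a.2.1, b.2.1, c.2.1, hv, hw, hvw, a.2.2.1, b.2.2.1, c.2.2.1,
      a.2.2.2, b.2.2.2, c.2.2.2] at hn
    have hmem : ((a.1 : GolayPt → ℤ) + (b.1 : GolayPt → ℤ) + (c.1 : GolayPt → ℤ)
        - (v : GolayPt → ℤ) + (w : GolayPt → ℤ)) ∈ leechLattice :=
      (a.1 + b.1 + c.1 - v + w).2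
    have h0 : ((a.1 : GolayPt → ℤ) + (b.1 : GolayPt → ℤ) + (c.1 : GolayPt → ℤ)
        - (v : GolayPt → ℤ) + (w : GolayPt → ℤ)) ≠ 0 := by
      intro h0
      rw [h0] at hn
      simp [sqNorm] at hn
    have := min_sqNorm hmem h0
    omega
  · have key : ∀ x y y' : ↥(X v w), y ∈ Q (Gam v w) x → y' ∈ Q (Gam v w) x →
        (blkV (Gam v w) x y).card ≤ (blkV (Gam v w) x y').card := by
      intro x y y' hy hy'
      rw [mem_Q'] at hy hy'
      obtain ⟨g, g1, g2, g3, g4⟩ := (Cfsg.Agent.S1584.result v w x.1 hv hw hvw x.2).2.2 y.1 y.2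
        y'.1 y'.2 (fun e => hy.1 (Subtype.ext e)) (fun e => hy'.1 (Subtype.ext e))
        ⟨fun e => (hy.2 ((gam_adj _ _).2 e)).elim, fun e => (hy'.2 ((gam_adj _ _).2 e)).elim⟩
      apply Finset.card_le_card_of_injOn (fun u => ⟨g • u.1, smul_mem_X g1 g2 u.2⟩)
      · intro u hu
        rw [Finset.mem_coe, mem_blkV] at hu ⊢
        constructor
        · have := (gam_adj _ _).1 hu.1
          rw [gam_adj]
          conv_lhs => rw [← g3]
          rw [co0_dot, this]
        · have := (gam_adj _ _).1 hu.2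
          rw [gam_adj]
          conv_lhs => rw [← g4]
          rw [co0_dot, this]
      · intro u _ u' _ he
        have := congrArg Subtype.val he
        exact Subtype.ext (MulAction.injective g this)
    intro x y y' hy hy'
    exact le_antisymm (key x y y' hy hy') (key x y' y hy' hy)

end

/-- the group -/
abbrev K (v w : leechLattice) : Subgroup Co0 :=
  MulAction.stabilizer Cfsg.Co0 v ⊓ MulAction.stabilizer Cfsg.Co0 w

theorem K_fix {v w : leechLattice} (g : K v w) : g.1 • v = v ∧ g.1 • w = w := g.2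

theorem K_fix_inv {v w : leechLattice} (g : K v w) : g.1⁻¹ • v = v ∧ g.1⁻¹ • w = w :=
  (g⁻¹).2

/-- the action on the graph -/
def act {v w : leechLattice} (g : K v w) : Gam v w ≃g Gam v w where
  toFun u := ⟨g.1 • u.1, smul_mem_X (K_fix g).1 (K_fix g).2 u.2⟩
  invFun u := ⟨g.1⁻¹ • u.1, smul_mem_X (K_fix_inv g).1 (K_fix_inv g).2 u.2⟩
  left_inv u := Subtype.ext (inv_smul_smul _ _)
  right_inv u := Subtype.ext (smul_inv_smul _ _)
  map_rel_iff' := by
    intro a b
    rw [gam_adj, gam_adj, Equiv.coe_fn_mk, co0_dot]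

theorem act_apply {v w : leechLattice} (g : K v w) (u : ↥(X v w)) :
    ((act g u : ↥(X v w)) : leechLattice) = g.1 • u.1 := rfl

end Cfsg.Agent.Lib.Helper28.HSGraph
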