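import Cfsg.Agent.Lib.Helper28.HSLattice

/-!
The Higman-Sims group acting on the point-block graph of an S(3,6,22).
-/

set_option autoImplicit false

namespace Cfsg.Agent.Lib.Helper28.HSGraph

open Cfsg Finset Cfsg.Agent.Lib.Helper28

/-- the action as a homomorphism -/
def actHom (v w : leechLattice) : K v w →* (Gam v w ≃g Gam v w) where
  toFun := act
  map_one' := DFunLike.ext _ _ (fun u => Subtype.ext (one_smul _ _))
  map_mul' g h := DFunLike.ext _ _ (fun u => Subtype.ext (mul_smul _ _ _))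

/-- conjugation by an isomorphism -/
def conjHom {V W : Type*} {G : SimpleGraph V} {H : SimpleGraph W} (ψ : G ≃g H) :
    (G ≃g G) →* (H ≃g H) where
  toFun f := (ψ.symm.trans f).trans ψ
  map_one' := DFunLike.ext _ _ (fun u => ψ.apply_symm_apply u)
  map_mul' f g := DFunLike.ext _ _ (fun u => by
    show ψ (f (g (ψ.symm u))) = ψ (f (ψ.symm (ψ (g (ψ.symm u)))))
    rw [ψ.symm_apply_apply])

theorem conjHom_apply {V W : Type*} {G : SimpleGraph V} {H : SimpleGraph W} (ψ : G ≃g H)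
    (f : G ≃g G) (u : W) : conjHom ψ f u = ψ (f (ψ.symm u)) := rfl

theorem conjHom_injective {V W : Type*} {G : SimpleGraph V} {H : SimpleGraph W} (ψ : G ≃g H) :
    Function.Injective (conjHom ψ) := by
  intro f g hfg
  refine DFunLike.ext _ _ (fun u => ?_)
  have := DFunLike.congr_fun hfg (ψ u)
  rw [conjHom_apply, conjHom_apply, ψ.symm_apply_apply] at this
  exact ψ.injective this

theorem std_facts : sqNorm ((u5 : leechLattice) : GolayPt → ℤ) = 48 ∧
    sqNorm ((vMinus - u5 : leechLattice) : GolayPt → ℤ) = 48 ∧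
    dotInt ((u5 : leechLattice) : GolayPt → ℤ) ((vMinus - u5 : leechLattice) : GolayPt → ℤ) = -32 := by
  have h1 := sqNorm_u5
  have h2 := sqNorm_vMinus
  have h3 := dot_u5_vMinus
  refine ⟨h1, ?_, ?_⟩
  · rw [AddSubgroup.coe_sub, sqNorm_sub, dotInt_comm', h1, h2, h3]; norm_num
  · have h4 := sqNorm_sub ((u5 : leechLattice) : GolayPt → ℤ) ((vMinus - u5 : leechLattice) : GolayPt → ℤ)
    have h5 : sqNorm ((vMinus - u5 : leechLattice) : GolayPt → ℤ) = 48 := by
      rw [AddSubgroup.coe_sub, sqNorm_sub, dotInt_comm', h1, h2, h3]; norm_num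
    have h6 : ((u5 : leechLattice) : GolayPt → ℤ) - ((vMinus - u5 : leechLattice) : GolayPt → ℤ)
        = 2 • ((u5 : leechLattice) : GolayPt → ℤ) - ((vMinus : leechLattice) : GolayPt → ℤ) := by
      rw [AddSubgroup.coe_sub]; abel
    have h7 : dotInt (2 • ((u5 : leechLattice) : GolayPt → ℤ)) ((vMinus : leechLattice) : GolayPt → ℤ)
        = 2 * dotInt ((u5 : leechLattice) : GolayPt → ℤ) ((vMinus : leechLattice) : GolayPt → ℤ) := by
      rw [two_smul, dotInt_add_left]; ring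
    rw [h6, sqNorm_sub, sqNorm_two_smul, h7, h1, h2, h3, h5] at h4
    omega

section

variable {α : Type*} [Fintype α] [DecidableEq α] (hα : Fintype.card α = 22)
  {B : Set (Finset α)} (hB : IsSteinerSystem 3 6 B)

include hα hB in
theorem exists_iso {v w : leechLattice} (hv : sqNorm (v : GolayPt → ℤ) = 48)
    (hw : sqNorm (w : GolayPt → ℤ) = 48)
    (hvw : dotInt (v : GolayPt → ℤ) (w : GolayPt → ℤ) = -32) :
    Nonempty (Gam v w ≃g pointBlockGraph B) := by
  classical
  have hc : (X v w).ncard = 100 := (Cfsg.Agent.S1583.result v w hv hw hvw).1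
  have hfin : (X v w).Finite := Set.finite_of_ncard_ne_zero (by
    rw [hc]; decide)
  have : Fintype ↥(X v w) := hfin.fintype
  have hG := gam_isHSG hv hw hvw
  obtain ⟨x, hx⟩ : (X v w).Nonempty := Set.nonempty_of_ncard_ne_zero (by
    rw [hc]; decide)
  obtain ⟨f, _⟩ := reconstruct hG ⟨x, hx⟩
  obtain ⟨e, he⟩ := Cfsg.Agent.S0410.result (card_Pt hG ⟨x, hx⟩) hα (steiner hG ⟨x, hx⟩) hB
  obtain ⟨k, _⟩ := pbg_iso e he
  exact ⟨f.trans k⟩

include hα hB in
theorem pbg_isHSG [Fintype (Option (α ⊕ B))] [DecidableEq (Option (α ⊕ B))]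
    [DecidableRel (pointBlockGraph B).Adj] : IsHSG (pointBlockGraph B) := by
  classical
  obtain ⟨hv, hw, hvw⟩ := std_facts
  obtain ⟨ψ⟩ := exists_iso hα hB hv hw hvw
  have hc : (X u5 (vMinus - u5)).ncard = 100 := (Cfsg.Agent.S1583.result _ _ hv hw hvw).1
  have hfin : (X u5 (vMinus - u5)).Finite := Set.finite_of_ncard_ne_zero (by
    rw [hc]; decide)
  have : Fintype ↥(X u5 (vMinus - u5)) := hfin.fintype
  exact isHSG_iso ψ (gam_isHSG hv hw hvw)

include hα hB in
theorem pbg_transitive (a b : Option (α ⊕ B)) :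
    ∃ f : pointBlockGraph B ≃g pointBlockGraph B, f a = b := by
  obtain ⟨hv, hw, hvw⟩ := std_facts
  obtain ⟨ψ⟩ := exists_iso hα hB hv hw hvw
  obtain ⟨g, g1, g2, g3⟩ := (Cfsg.Agent.S1583.result _ _ hv hw hvw).2 (ψ.symm a).1 (ψ.symm a).2
    (ψ.symm b).1 (ψ.symm b).2
  refine ⟨conjHom ψ (act ⟨g, g1, g2⟩), ?_⟩
  rw [conjHom_apply]
  have : act (⟨g, g1, g2⟩ : K u5 (vMinus - u5)) (ψ.symm a) = ψ.symm b := Subtype.ext g3
  rw [this, ψ.apply_symm_apply]

include hα hB in
theorem exists_subgroup : ∃ H : Subgroup (pointBlockGraph B ≃g pointBlockGraph B), IsHS H := by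
  obtain ⟨hv, hw, hvw⟩ := std_facts
  obtain ⟨ψ⟩ := exists_iso hα hB hv hw hvw
  obtain ⟨hsimple, hcard⟩ := Cfsg.Agent.S0405.result _ _ hv hw hvw
  let φ := (conjHom ψ).comp (actHom u5 (vMinus - u5))
  have hc : (X u5 (vMinus - u5)).ncard = 100 := (Cfsg.Agent.S1583.result _ _ hv hw hvw).1
  have hφ : Function.Injective φ := by
    rw [← MonoidHom.ker_eq_bot_iff]
    rcases hsimple.eq_bot_or_eq_top_of_normal φ.ker inferInstance with h1 | h1
    · exact h1
    · exfalso
      obtain ⟨x, hx⟩ : (X u5 (vMinus - u5)).Nonempty := Set.nonempty_of_ncard_ne_zero (by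
            rw [hc]; decide)
      obtain ⟨y, hy, hyx⟩ := Set.exists_ne_of_one_lt_ncard (s := X u5 (vMinus - u5)) (by
        rw [hc]; decide) x
      obtain ⟨g, g1, g2, g3⟩ := (Cfsg.Agent.S1583.result _ _ hv hw hvw).2 x hx y hy
      have hg : (⟨g, g1, g2⟩ : K u5 (vMinus - u5)) ∈ φ.ker := by rw [h1]; trivial
      rw [MonoidHom.mem_ker] at hg
      have h2 : actHom u5 (vMinus - u5) ⟨g, g1, g2⟩ = 1 :=
        conjHom_injective ψ (by rw [map_one]; exact hg)
      have h3 := DFunLike.congr_fun h2 ⟨x, hx⟩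
      have h4 := congrArg Subtype.val h3
      exact hyx (g3.symm.trans h4)
  refine ⟨φ.range, ?_, ?_⟩
  · exact (MonoidHom.ofInjective hφ).symm.isSimpleGroup
  · rw [← Nat.card_congr (MonoidHom.ofInjective hφ).toEquiv]
    exact hcard

end

end Cfsg.Agent.Lib.Helper28.HSGraph
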