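import Cfsg.Agent.Lib.Helper28.HSAut
import Cfsg.Agent.Lib.Helper3.AutPerm

/-!
Fixed vertices of automorphisms of order 7 and 11 of the point-block graph of an S(3,6,22).
-/

set_option autoImplicit false

namespace Cfsg.Agent.Lib.Helper28.HSOut

open Cfsg Finset Cfsg.Agent.Lib.Helper28 Cfsg.Agent.Lib.Helper28.HSGraph

section steiner

variable {α : Type*} [Fintype α] [DecidableEq α] {B : Set (Finset α)}

theorem image_mem {σ : Equiv.Perm α} (hσ : σ ∈ setSystemAut B) {b : Finset α} (hb : b ∈ B) :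
    b.image σ ∈ B := by
  rw [SteinerAut.mem_aut_iff] at hσ
  rw [← hσ]
  exact ⟨b, hb, rfl⟩

/-- an invariant block is fixed pointwise by a permutation of prime order `> 6` -/
theorem block_fixed (hB : IsSteinerSystem 3 6 B) (σ : Equiv.Perm α) (p : ℕ) [Fact p.Prime]
    (hp : 6 < p) (hσp : σ ^ p = 1) {b : Finset α} (hb : b ∈ B) (hinv : b.image σ = b) :
    ∀ y ∈ b, σ y = y := by
  have h1 := Cfsg.Agent.Lib.Helper3.AutP.card_modEq_fix σ p hσp b (by
    intro y hy
    rw [← hinv]
    exact Finset.mem_image_of_mem _ hy)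
  rw [hB.1 b hb] at h1
  have h2 : (b.filter fun y => σ y = y).card ≤ 6 := by
    rw [← hB.1 b hb]; exact Finset.card_filter_le _ _
  have h3 : (b.filter fun y => σ y = y).card = 6 := by
    unfold Nat.ModEq at h1
    rw [Nat.mod_eq_of_lt hp, Nat.mod_eq_of_lt (by omega)] at h1
    exact h1.symm
  have h4 : b.filter (fun y => σ y = y) = b :=
    Finset.eq_of_subset_of_card_le (Finset.filter_subset _ _) (by rw [h3, hB.1 b hb])
  intro y hy
  rw [← h4] at hy
  exact (Finset.mem_filter.1 hy).2

theorem fix_card (hB : IsSteinerSystem 3 6 B) (σ : Equiv.Perm α) (hσ : σ ∈ setSystemAut B)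
    (p : ℕ) [Fact p.Prime] (hp : 6 < p) (hσp : σ ^ p = 1) (a b : α) (hab : a ≠ b)
    (ha : σ a = a) (hb : σ b = b) :
    ∃ m, (univ.filter (fun y => σ y = y)).card = 2 + 4 * m := by
  have hex : ∀ c, ∃ blk : Finset α, c ≠ a → c ≠ b → (blk ∈ B ∧ a ∈ blk ∧ b ∈ blk ∧ c ∈ blk ∧
      ∀ blk' ∈ B, a ∈ blk' → b ∈ blk' → c ∈ blk' → blk' = blk) := by
    intro c
    by_cases h1 : c = a
    · exact ⟨∅, fun h => absurd h1 h⟩
    by_cases h2 : c = b
    · exact ⟨∅, fun _ h => absurd h2 h⟩
    obtain ⟨blk, ⟨h3, h4⟩, h5⟩ := hB.2 {a, b, c} (by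
      rw [Finset.card_insert_of_notMem, Finset.card_insert_of_notMem, Finset.card_singleton]
      · simpa using Ne.symm h2
      · simp only [Finset.mem_insert, Finset.mem_singleton, not_or]
        exact ⟨hab, Ne.symm h1⟩)
    refine ⟨blk, fun _ _ => ⟨h3, h4 (by simp), h4 (by simp), h4 (by simp), ?_⟩⟩
    intro blk' g1 g2 g3 g4
    apply h5 blk' ⟨g1, ?_⟩
    intro y hy
    simp only [Finset.mem_insert, Finset.mem_singleton] at hy
    rcases hy with rfl | rfl | rfl <;> assumption
  choose β hβ using hex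
  set F := univ.filter (fun y => σ y = y) with hF
  set S := F \ {a, b} with hS
  have hmemS : ∀ c, c ∈ S ↔ σ c = c ∧ c ≠ a ∧ c ≠ b := by
    intro c
    simp [hS, hF]
  have hfib : ∀ blk ∈ S.image β, (S.filter (fun c => β c = blk)).card = 4 := by
    intro blk hblk
    obtain ⟨c0, hc0, rfl⟩ := Finset.mem_image.1 hblk
    obtain ⟨g0, g1, g2⟩ := (hmemS c0).1 hc0
    obtain ⟨k1, k2, k3, k4, k5⟩ := hβ c0 g1 g2
    have hinv : (β c0).image σ = β c0 := by
      apply k5 _ (image_mem hσ k1)
      · rw [← ha]; exact Finset.mem_image_of_mem _ k2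
      · rw [← hb]; exact Finset.mem_image_of_mem _ k3
      · have := Finset.mem_image_of_mem σ k4
        rwa [g0] at this
    have hfixed := block_fixed hB σ p hp hσp k1 hinv
    have : S.filter (fun c => β c = β c0) = β c0 \ {a, b} := by
      ext c
      simp only [Finset.mem_filter, Finset.mem_sdiff, Finset.mem_insert, Finset.mem_singleton,
        not_or, hmemS]
      constructor
      · rintro ⟨⟨e1, e2, e3⟩, e4⟩
        refine ⟨?_, e2, e3⟩
        rw [← e4]
        exact (hβ c e2 e3).2.2.2.1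
      · rintro ⟨e1, e2, e3⟩
        refine ⟨⟨hfixed c e1, e2, e3⟩, ?_⟩
        exact ((hβ c e2 e3).2.2.2.2 _ k1 k2 k3 e1).symm
    rw [this, Finset.card_sdiff_of_subset, hB.1 _ k1, Finset.card_pair hab]
    intro y hy
    simp only [Finset.mem_insert, Finset.mem_singleton] at hy
    rcases hy with rfl | rfl <;> assumption
  have h1 := Finset.card_eq_sum_card_fiberwise (f := β) (s := S) (t := S.image β)
    (fun c hc => Finset.mem_image_of_mem _ hc)
  rw [Finset.sum_congr rfl hfib, Finset.sum_const, smul_eq_mul] at h1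
  refine ⟨(S.image β).card, ?_⟩
  have h2 : S.card = F.card - 2 := by
    rw [hS, Finset.card_sdiff_of_subset, Finset.card_pair hab]
    intro y hy
    simp only [Finset.mem_insert, Finset.mem_singleton] at hy
    rcases hy with rfl | rfl <;> simp [hF, ha, hb]
  have h3 : 2 ≤ F.card := by
    rw [← Finset.card_pair hab]
    apply Finset.card_le_card
    intro y hy
    simp only [Finset.mem_insert, Finset.mem_singleton] at hy
    rcases hy with rfl | rfl <;> simp [hF, ha, hb]
  omega

end steiner

section graph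

variable {α : Type*} [Fintype α] [DecidableEq α] {B : Set (Finset α)}

theorem pow_apply_pt (f : pointBlockGraph B ≃g pointBlockGraph B) (σ : Equiv.Perm α)
    (h : ∀ a, f (some (Sum.inl a)) = some (Sum.inl (σ a))) (k : ℕ) (a : α) :
    (f ^ k) (some (Sum.inl a)) = some (Sum.inl ((σ ^ k) a)) := by
  induction k with
  | zero => rfl
  | succ k ih =>
    rw [pow_succ', pow_succ']
    show f ((f ^ k) _) = some (Sum.inl (σ ((σ ^ k) a)))
    rw [ih, h]

theorem fix_none (hα : Fintype.card α = 22) (hB : IsSteinerSystem 3 6 B)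
    (f : pointBlockGraph B ≃g pointBlockGraph B) (p : ℕ) [hpp : Fact p.Prime]
    (hp : p = 7 ∨ p = 11) (hf : orderOf f = p) (h0 : f none = none) :
    ∃ σ : Equiv.Perm α, (∀ a, f (some (Sum.inl a)) = some (Sum.inl (σ a))) ∧
      (univ.filter (fun y => σ y = y)).card ≤ 1 ∧
      22 % p = (univ.filter (fun y => σ y = y)).card % p ∧
      ∀ b : B, f (some (Sum.inr b)) ≠ some (Sum.inr b) := by
  obtain ⟨σ, hσ, hfσ⟩ := stab_exists f h0
  have hσp : σ ^ p = 1 := by
    apply Equiv.ext
    intro a
    have h1 := pow_apply_pt f σ hfσ p a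
    rw [← hf, pow_orderOf_eq_one] at h1
    have h2 : (some (Sum.inl a) : Option (α ⊕ B)) = some (Sum.inl ((σ ^ orderOf f) a)) := h1
    rw [hf] at h2
    simpa using h2.symm
  have h6 : 6 < p := by rcases hp with rfl | rfl <;> norm_num
  have hmod := Cfsg.Agent.Lib.Helper3.AutP.card_modEq_fix σ p hσp univ (fun _ _ => Finset.mem_univ _)
  rw [Finset.card_univ, hα] at hmod
  have hle : (univ.filter (fun y => σ y = y)).card ≤ 22 := by
    rw [← hα, ← Finset.card_univ]; exact Finset.card_filter_le _ _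
  have hF1 : (univ.filter (fun y => σ y = y)).card ≤ 1 := by
    by_contra hcon
    push Not at hcon
    obtain ⟨a, ha, b, hb, hab⟩ := Finset.one_lt_card.1 hcon
    obtain ⟨m, hm⟩ := fix_card hB σ hσ p h6 hσp a b hab (Finset.mem_filter.1 ha).2
      (Finset.mem_filter.1 hb).2
    have h22 : (univ.filter (fun y => σ y = y)).card = 22 := by
      unfold Nat.ModEq at hmod
      rcases hp with rfl | rfl <;> omega
    have huniv : univ.filter (fun y => σ y = y) = univ :=
      Finset.eq_of_subset_of_card_le (Finset.filter_subset _ _) (by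
        rw [h22, Finset.card_univ, hα])
    have hone : f = 1 := by
      apply stab_unique f 1 h0 rfl
      intro a
      rw [hfσ]
      have : a ∈ univ.filter (fun y => σ y = y) := by rw [huniv]; exact Finset.mem_univ _
      rw [(Finset.mem_filter.1 this).2]
      rfl
    rw [hone, orderOf_one] at hf
    exact hpp.out.one_lt.ne hf
  refine ⟨σ, hfσ, hF1, hmod, ?_⟩
  intro b hb
  have hsub : (b : Finset α).image σ ⊆ b := by
    intro y hy
    obtain ⟨a, ha, rfl⟩ := Finset.mem_image.1 hy
    rw [← adj_pt_blk, ← hb, ← hfσ, f.map_adj_iff, adj_pt_blk]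
    exact ha
  have hinv : (b : Finset α).image σ = b :=
    Finset.eq_of_subset_of_card_le hsub (by rw [Finset.card_image_of_injective _ σ.injective])
  have hfixed := block_fixed hB σ p h6 hσp b.2 hinv
  have : (b : Finset α).card ≤ (univ.filter (fun y => σ y = y)).card := by
    apply Finset.card_le_card
    intro y hy
    exact Finset.mem_filter.2 ⟨Finset.mem_univ _, hfixed y hy⟩
  rw [hB.1 b b.2] at this
  omega

theorem fix_none11 (hα : Fintype.card α = 22) (hB : IsSteinerSystem 3 6 B)
    (f : pointBlockGraph B ≃g pointBlockGraph B) (hf : orderOf f = 11) (h0 : f none = none)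
    (u : Option (α ⊕ B)) (hu : f u = u) : u = none := by
  have : Fact (Nat.Prime 11) := ⟨by norm_num⟩
  obtain ⟨σ, h1, h2, h3, h4⟩ := fix_none hα hB f 11 (Or.inr rfl) hf h0
  rcases u with _ | a | b
  · rfl
  · exfalso
    rw [h1] at hu
    have : a ∈ univ.filter (fun y => σ y = y) := by
      simpa using hu
    have := Finset.card_pos.2 ⟨a, this⟩
    omega
  · exact absurd hu (h4 b)

theorem fix_none7 (hα : Fintype.card α = 22) (hB : IsSteinerSystem 3 6 B)
    (f : pointBlockGraph B ≃g pointBlockGraph B) (hf : orderOf f = 7) (h0 : f none = none)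
    (u v : Option (α ⊕ B)) (hu : f u = u) (hv : f v = v) (hu0 : u ≠ none) (hv0 : v ≠ none) :
    u = v := by
  have : Fact (Nat.Prime 7) := ⟨by norm_num⟩
  obtain ⟨σ, h1, h2, h3, h4⟩ := fix_none hα hB f 7 (Or.inl rfl) hf h0
  rcases u with _ | a | b
  · exact absurd rfl hu0
  · rcases v with _ | a' | b'
    · exact absurd rfl hv0
    · rw [h1] at hu hv
      have g1 : a ∈ univ.filter (fun y => σ y = y) := by simpa using hu
      have g2 : a' ∈ univ.filter (fun y => σ y = y) := by simpa using hv
      rw [Finset.card_le_one.1 h2 a g1 a' g2]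
    · exact absurd hv (h4 b')
  · exact absurd hu (h4 b)

theorem conj_facts (f t : pointBlockGraph B ≃g pointBlockGraph B) :
    orderOf (t * f * t⁻¹) = orderOf f ∧ ∀ u, f u = u → (t * f * t⁻¹) (t u) = t u := by
  constructor
  · exact (MulAut.conj t).orderOf_eq f
  · intro u hu
    show t (f (t⁻¹ (t u))) = t u
    have : t⁻¹ (t u) = u := t.symm_apply_apply u
    rw [this, hu]

theorem fix11 (hα : Fintype.card α = 22) (hB : IsSteinerSystem 3 6 B)
    (f : pointBlockGraph B ≃g pointBlockGraph B) (hf : orderOf f = 11)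
    (u v : Option (α ⊕ B)) (hu : f u = u) (hv : f v = v) : u = v := by
  obtain ⟨t, ht⟩ := pbg_transitive hα hB u none
  obtain ⟨h1, h2⟩ := conj_facts f t
  have h3 := fix_none11 hα hB (t * f * t⁻¹) (h1.trans hf) (by rw [← ht]; exact h2 u hu) (t v) (h2 v hv)
  rw [← ht] at h3
  exact (t.injective h3).symm

theorem fix7 (hα : Fintype.card α = 22) (hB : IsSteinerSystem 3 6 B)
    (f : pointBlockGraph B ≃g pointBlockGraph B) (hf : orderOf f = 7)
    (u v w : Option (α ⊕ B)) (hu : f u = u) (hv : f v = v) (hw : f w = w) (huv : u ≠ v)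
    (huw : u ≠ w) : v = w := by
  obtain ⟨t, ht⟩ := pbg_transitive hα hB u none
  obtain ⟨h1, h2⟩ := conj_facts f t
  have h3 := fix_none7 hα hB (t * f * t⁻¹) (h1.trans hf) (by rw [← ht]; exact h2 u hu) (t v) (t w)
    (h2 v hv) (h2 w hw) (by rw [← ht]; exact fun h => huv (t.injective h).symm)
    (by rw [← ht]; exact fun h => huw (t.injective h).symm)
  exact t.injective h3

end graph

end Cfsg.Agent.Lib.Helper28.HSOut
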