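import Cfsg.Agent.Lib.Helper28.HSGraphA
import Cfsg.Agent.Lib.Helper3.AutPerm

/-!
A group of automorphisms of order 443520 of a strongly regular graph with parameters (100,22,0,6)
fixes a vertex (given the fixed-vertex counts of the automorphisms of order 7 and 11).
-/

set_option autoImplicit false

namespace Cfsg.Agent.Lib.Helper28.HSOut

open Cfsg Finset Cfsg.Agent.Lib.Helper28 Cfsg.Agent.Lib.Helper28.HSGraph

variable {V : Type*} [Fintype V] [DecidableEq V] {Γ : SimpleGraph V} [DecidableRel Γ.Adj]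

omit [Fintype V] [DecidableRel Γ.Adj] in
theorem card_mod (f : Γ ≃g Γ) (p : ℕ) [Fact p.Prime] (hf : f ^ p = 1) (S : Finset V)
    (hS : ∀ y ∈ S, f y ∈ S) : S.card % p = (S.filter fun y => f y = y).card % p := by
  have hpow : ∀ k : ℕ, ∀ y, ((f.toEquiv : Equiv.Perm V) ^ k) y = (f ^ k) y := by
    intro k
    induction k with
    | zero => intro y; rfl
    | succ k ih =>
      intro y
      rw [pow_succ', pow_succ']
      show f (((f.toEquiv : Equiv.Perm V) ^ k) y) = f ((f ^ k) y)
      rw [ih]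
  exact Cfsg.Agent.Lib.Helper3.AutP.card_modEq_fix (f.toEquiv : Equiv.Perm V) p (by
    apply Equiv.ext
    intro y
    rw [hpow, hf]; rfl) S hS

/-- number of neighbours in `O` -/
def nb (Γ : SimpleGraph V) [DecidableRel Γ.Adj] (O : Finset V) (y : V) : ℕ :=
  (O.filter (fun z => Γ.Adj y z)).card

omit [Fintype V] in
theorem nb_le_smul (O : Finset V) (l : Γ ≃g Γ) (hl : ∀ y ∈ O, l y ∈ O) (y : V) :
    nb Γ O y ≤ nb Γ O (l y) := by
  unfold nb
  rw [← Finset.card_image_of_injective _ l.injective]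
  apply Finset.card_le_card
  intro z hz
  obtain ⟨z', hz', rfl⟩ := Finset.mem_image.1 hz
  obtain ⟨h1, h2⟩ := Finset.mem_filter.1 hz'
  exact Finset.mem_filter.2 ⟨hl _ h1, l.map_adj_iff.2 h2⟩

omit [Fintype V] in
theorem nb_smul (L : Subgroup (Γ ≃g Γ)) (O : Finset V) (hO : ∀ l ∈ L, ∀ y ∈ O, l y ∈ O)
    (l : Γ ≃g Γ) (hl : l ∈ L) (y : V) : nb Γ O (l y) = nb Γ O y := by
  apply le_antisymm
  · have := nb_le_smul O l⁻¹ (hO _ (L.inv_mem hl)) (l y)
    have e : l⁻¹ (l y) = y := l.symm_apply_apply y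
    rwa [e] at this
  · exact nb_le_smul O l (hO l hl) y

theorem nb_le (hΓ : IsHSG Γ) (O : Finset V) (y : V) : nb Γ O y ≤ 22 := by
  rw [← hΓ.deg y]
  apply Finset.card_le_card
  intro z hz
  exact Finset.mem_filter.2 ⟨Finset.mem_univ _, (Finset.mem_filter.1 hz).2⟩

theorem sum_nb (hΓ : IsHSG Γ) (O : Finset V) : ∑ y, nb Γ O y = 22 * O.card := by
  have h := Finset.sum_card_bipartiteAbove_eq_sum_card_bipartiteBelow (s := (univ : Finset V))
    (t := O) Γ.Adj
  have h2 : ∀ z ∈ O, ((univ : Finset V).bipartiteBelow Γ.Adj z).card = 22 := by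
    intro z _
    rw [← hΓ.deg z]
    congr 1
    ext y
    simp [Finset.bipartiteBelow, Γ.adj_comm]
  rw [Finset.sum_congr rfl h2, Finset.sum_const, smul_eq_mul, mul_comm] at h
  exact h

theorem sum_nb_nbr (hΓ : IsHSG Γ) (O : Finset V) (x : V) (hx : x ∈ O) :
    ∑ y ∈ univ.filter (fun y => Γ.Adj x y), nb Γ O y + 6 * nb Γ O x = 6 * O.card + 16 := by
  have h := Finset.sum_card_bipartiteAbove_eq_sum_card_bipartiteBelow
    (s := univ.filter (fun y => Γ.Adj x y)) (t := O) Γ.Adj
  have h1 : ∑ y ∈ univ.filter (fun y => Γ.Adj x y), nb Γ O y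
      = ∑ z ∈ O, ((univ.filter (fun y => Γ.Adj x y)).bipartiteBelow Γ.Adj z).card := h
  have h2 : ∀ z ∈ O, ((univ.filter (fun y => Γ.Adj x y)).bipartiteBelow Γ.Adj z).card
      + 6 * (if Γ.Adj x z then 1 else 0) = 6 + (if z = x then 16 else 0) := by
    intro z _
    by_cases hzx : z = x
    · subst hzx
      rw [if_neg (Γ.loopless.irrefl z), if_pos rfl]
      have : (univ.filter (fun y => Γ.Adj z y)).bipartiteBelow Γ.Adj z
          = univ.filter (fun y => Γ.Adj z y) := by
        ext y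
        simp only [Finset.bipartiteBelow, Finset.mem_filter, Finset.mem_univ, true_and]
        exact ⟨fun h => h.1, fun h => ⟨h, h.symm⟩⟩
      rw [this, hΓ.deg]
    · rw [if_neg hzx]
      by_cases hadj : Γ.Adj x z
      · rw [if_pos hadj]
        have : (univ.filter (fun y => Γ.Adj x y)).bipartiteBelow Γ.Adj z = ∅ := by
          ext y
          simp only [Finset.bipartiteBelow, Finset.mem_filter, Finset.mem_univ, true_and,
            Finset.notMem_empty, iff_false, not_and]
          intro g1 g2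
          exact hΓ.tri x y z g1 g2 hadj
        rw [this, Finset.card_empty]
      · rw [if_neg hadj]
        have : (univ.filter (fun y => Γ.Adj x y)).bipartiteBelow Γ.Adj z
            = univ.filter (fun u => Γ.Adj x u ∧ Γ.Adj z u) := by
          ext y
          simp only [Finset.bipartiteBelow, Finset.mem_filter, Finset.mem_univ, true_and]
          exact ⟨fun h => ⟨h.1, h.2.symm⟩, fun h => ⟨h.1, h.2.symm⟩⟩
        rw [this, hΓ.mu x z (Ne.symm hzx) hadj]
  have h3 := Finset.sum_congr rfl h2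
  rw [Finset.sum_add_distrib, Finset.sum_add_distrib, ← Finset.mul_sum, Finset.sum_const,
    Finset.sum_ite_eq' O x, if_pos hx, ← Finset.card_filter, smul_eq_mul] at h3
  rw [h1]
  unfold nb
  omega

/-- no orbit of length 56 -/
theorem no56 (hΓ : IsHSG Γ) (L : Subgroup (Γ ≃g Γ)) (O : Finset V)
    (hO : ∀ l ∈ L, ∀ y ∈ O, l y ∈ O) (x : V) (hx : x ∈ O)
    (htr : ∀ y ∈ O, ∃ l ∈ L, l y = x) (g : Γ ≃g Γ) (hg : g ∈ L) (hg11 : g ^ 11 = 1)
    (hgx : g x = x) (hfix : ∀ y, g y = y → y = x) (hcard : O.card = 56) : False := by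
  have : Fact (Nat.Prime 11) := ⟨by norm_num⟩
  have hinv := nb_smul L O hO
  have hI1 := sum_nb_nbr hΓ O x hx
  have hI2 := sum_nb hΓ O
  rw [hcard] at hI1 hI2
  have hconst : ∀ y ∈ O, nb Γ O y = nb Γ O x := by
    intro y hy
    obtain ⟨l, hl, hly⟩ := htr y hy
    rw [← hly, hinv l hl]
  have hnotO : ∀ l ∈ L, ∀ y, y ∉ O → l y ∉ O := by
    intro l hl y hy h
    apply hy
    have := hO _ (L.inv_mem hl) _ h
    have e : l⁻¹ (l y) = y := l.symm_apply_apply y
    rwa [e] at this
  -- k1 is 0, 11 or 22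
  have hk : nb Γ O x % 11 = 0 := by
    have h1 := card_mod g 11 hg11 (O.filter (fun z => Γ.Adj x z)) (by
      intro z hz
      obtain ⟨h1, h2⟩ := Finset.mem_filter.1 hz
      refine Finset.mem_filter.2 ⟨hO g hg z h1, ?_⟩
      have := g.map_adj_iff.2 h2
      rwa [hgx] at this)
    have h2 : (O.filter (fun z => Γ.Adj x z)).filter (fun y => g y = y) = ∅ := by
      ext y
      simp only [Finset.mem_filter, Finset.notMem_empty, iff_false, not_and]
      rintro ⟨_, g2⟩ g3
      rw [hfix y g3] at g2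
      exact Γ.loopless.irrefl x g2
    rw [h2, Finset.card_empty] at h1
    exact h1
  have hk22 := nb_le hΓ O x
  have hsplit : ∑ y, nb Γ O y = ∑ y ∈ O, nb Γ O y + ∑ y ∈ Oᶜ, nb Γ O y :=
    (Finset.sum_add_sum_compl O _).symm
  have hOc : Oᶜ.card = 44 := by
    rw [Finset.card_compl, hΓ.card, hcard]
  rw [Finset.sum_congr rfl hconst, Finset.sum_const, smul_eq_mul, hcard, hI2] at hsplit
  have hcases : nb Γ O x = 0 ∨ nb Γ O x = 11 ∨ nb Γ O x = 22 := by omega
  rcases hcases with h0 | h0 | h0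
  · -- coclique
    have := Finset.sum_le_card_nsmul Oᶜ (fun y => nb Γ O y) 22 (fun y _ => nb_le hΓ O y)
    rw [hOc, smul_eq_mul] at this
    rw [h0] at hsplit
    omega
  · -- valency 11
    set T := (univ.filter (fun y => Γ.Adj x y)).filter (fun y => y ∉ O) with hT
    have hN : (univ.filter (fun y => Γ.Adj x y)).filter (fun y => y ∈ O)
        = O.filter (fun z => Γ.Adj x z) := by
      ext y
      simp only [Finset.mem_filter, Finset.mem_univ, true_and]
      exact and_comm
    have hTc : T.card = 11 := by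
      have := Finset.card_filter_add_card_filter_not (s := univ.filter (fun y => Γ.Adj x y))
        (fun y => y ∈ O)
      rw [hN, hΓ.deg] at this
      have e : (O.filter (fun z => Γ.Adj x z)).card = 11 := h0
      rw [e] at this
      have h' : 11 + T.card = 22 := by
        rw [← this, hT]
      omega
    obtain ⟨y0, hy0⟩ : T.Nonempty := Finset.card_pos.1 (by omega)
    have hTconst : ∀ y ∈ T, nb Γ O y = nb Γ O y0 := by
      have h1 := card_mod g 11 hg11 (T.filter (fun y => nb Γ O y = nb Γ O y0)) (by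
        intro z hz
        obtain ⟨h1, h2⟩ := Finset.mem_filter.1 hz
        obtain ⟨h3, h4⟩ := Finset.mem_filter.1 h1
        refine Finset.mem_filter.2 ⟨Finset.mem_filter.2 ⟨Finset.mem_filter.2
          ⟨Finset.mem_univ _, ?_⟩, hnotO g hg z h4⟩, ?_⟩
        · have := g.map_adj_iff.2 (Finset.mem_filter.1 h3).2
          rwa [hgx] at this
        · rw [hinv g hg, h2])
      have h2 : (T.filter (fun y => nb Γ O y = nb Γ O y0)).filter (fun y => g y = y) = ∅ := by
        ext y
        simp only [Finset.mem_filter, Finset.notMem_empty, iff_false, not_and]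
        rintro ⟨g1, _⟩ g3
        rw [hfix y g3] at g1
        exact (Finset.mem_filter.1 g1).2 hx
      rw [h2, Finset.card_empty] at h1
      have h3 : 0 < (T.filter (fun y => nb Γ O y = nb Γ O y0)).card :=
        Finset.card_pos.2 ⟨y0, Finset.mem_filter.2 ⟨hy0, rfl⟩⟩
      have h4 : (T.filter (fun y => nb Γ O y = nb Γ O y0)).card ≤ 11 := by
        rw [← hTc]; exact Finset.card_filter_le _ _
      have h5 : T.filter (fun y => nb Γ O y = nb Γ O y0) = T :=
        Finset.eq_of_subset_of_card_le (Finset.filter_subset _ _) (by rw [hTc]; omega)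
      intro y hy
      rw [← h5] at hy
      exact (Finset.mem_filter.1 hy).2
    have hsum : ∑ y ∈ univ.filter (fun y => Γ.Adj x y), nb Γ O y = 121 + 11 * nb Γ O y0 := by
      rw [← Finset.sum_filter_add_sum_filter_not (univ.filter (fun y => Γ.Adj x y))
        (fun y => y ∈ O), Finset.sum_congr rfl hTconst, Finset.sum_const, smul_eq_mul, hTc,
        Finset.sum_congr rfl (fun y hy => hconst y (Finset.mem_filter.1 hy).2), Finset.sum_const,
        smul_eq_mul, hN]
      have e : (O.filter (fun z => Γ.Adj x z)).card = 11 := h0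
      rw [e, h0]
    have hc15 : nb Γ O y0 = 15 := by
      rw [hsum, h0] at hI1
      omega
    have hdvd : 15 ∣ ∑ y ∈ Oᶜ, nb Γ O y := by
      apply Finset.dvd_sum
      intro y hy
      rw [Finset.mem_compl] at hy
      by_cases hz : nb Γ O y = 0
      · rw [hz]; exact dvd_zero _
      · obtain ⟨z, hz⟩ := Finset.card_pos.1 (Nat.pos_of_ne_zero hz)
        obtain ⟨h1, h2⟩ := Finset.mem_filter.1 hz
        obtain ⟨l, hl, hlz⟩ := htr z h1
        have h3 : l y ∈ T := by
          refine Finset.mem_filter.2 ⟨Finset.mem_filter.2 ⟨Finset.mem_univ _, ?_⟩, hnotO l hl y hy⟩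
          have := l.map_adj_iff.2 h2
          rw [hlz] at this
          exact this.symm
        rw [← hinv l hl, hTconst _ h3, hc15]
    rw [h0] at hsplit
    omega
  · -- valency 22
    have hN : O.filter (fun z => Γ.Adj x z) = univ.filter (fun y => Γ.Adj x y) := by
      apply Finset.eq_of_subset_of_card_le
      · intro y hy
        exact Finset.mem_filter.2 ⟨Finset.mem_univ _, (Finset.mem_filter.1 hy).2⟩
      · rw [hΓ.deg]
        exact h0.ge
    have hsum : ∑ y ∈ univ.filter (fun y => Γ.Adj x y), nb Γ O y = 22 * 22 := by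
      rw [Finset.sum_congr rfl (fun y hy => hconst y (by
        rw [← hN] at hy
        exact (Finset.mem_filter.1 hy).1)), Finset.sum_const, smul_eq_mul, hΓ.deg, h0]
    rw [hsum, h0] at hI1
    omega

theorem arith : ∀ n ≤ 100, n ∣ 443520 → n % 11 = 1 → n % 7 ≤ 2 → n = 1 ∨ n = 56 := by
  decide +kernel

theorem fixes_vertex (hΓ : IsHSG Γ)
    (h11 : ∀ f : Γ ≃g Γ, orderOf f = 11 → ∀ u v, f u = u → f v = v → u = v)
    (h7 : ∀ f : Γ ≃g Γ, orderOf f = 7 → ∀ u v w, f u = u → f v = v → f w = w → u ≠ v → u ≠ w →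
      v = w)
    (L : Subgroup (Γ ≃g Γ)) (hL : Nat.card L = 443520) : ∃ x, ∀ l ∈ L, l x = x := by
  classical
  have : Fact (Nat.Prime 11) := ⟨by norm_num⟩
  have : Fact (Nat.Prime 7) := ⟨by norm_num⟩
  have : Finite L := Nat.finite_of_card_ne_zero (by rw [hL]; norm_num)
  obtain ⟨g, hg⟩ := exists_prime_orderOf_dvd_card' (G := L) 11 (by rw [hL]; norm_num)
  obtain ⟨g7, hg7⟩ := exists_prime_orderOf_dvd_card' (G := L) 7 (by rw [hL]; norm_num)
  have hg' : orderOf (g : Γ ≃g Γ) = 11 := by rw [Subgroup.orderOf_coe, hg]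
  have hg7' : orderOf (g7 : Γ ≃g Γ) = 7 := by rw [Subgroup.orderOf_coe, hg7]
  have hp11 : (g : Γ ≃g Γ) ^ 11 = 1 := by rw [← hg', pow_orderOf_eq_one]
  have hp7 : (g7 : Γ ≃g Γ) ^ 7 = 1 := by rw [← hg7', pow_orderOf_eq_one]
  obtain ⟨x, hx⟩ : ∃ x, (g : Γ ≃g Γ) x = x := by
    have h1 := card_mod (g : Γ ≃g Γ) 11 hp11 univ (fun _ _ => Finset.mem_univ _)
    rw [Finset.card_univ, hΓ.card] at h1
    have h2 : 0 < (univ.filter fun y => (g : Γ ≃g Γ) y = y).card := by
      by_contra h
      have h3 : (univ.filter fun y => (g : Γ ≃g Γ) y = y).card = 0 := by omega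
      rw [h3] at h1
      omega
    obtain ⟨x, hx⟩ := Finset.card_pos.1 h2
    exact ⟨x, (Finset.mem_filter.1 hx).2⟩
  set O := univ.filter (fun y => ∃ l ∈ L, l x = y) with hOdef
  have hmem : ∀ y, y ∈ O ↔ ∃ l ∈ L, l x = y := by
    intro y
    simp [hOdef]
  have hxO : x ∈ O := (hmem x).2 ⟨1, L.one_mem, rfl⟩
  have hO : ∀ l ∈ L, ∀ y ∈ O, l y ∈ O := by
    intro l hl y hy
    obtain ⟨k, hk, rfl⟩ := (hmem y).1 hy
    exact (hmem _).2 ⟨l * k, L.mul_mem hl hk, rfl⟩
  have htr : ∀ y ∈ O, ∃ l ∈ L, l y = x := by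
    intro y hy
    obtain ⟨k, hk, rfl⟩ := (hmem y).1 hy
    exact ⟨k⁻¹, L.inv_mem hk, k.symm_apply_apply x⟩
  have hOeq : MulAction.orbit L x = (O : Set V) := by
    ext y
    rw [MulAction.mem_orbit_iff, Finset.mem_coe, hmem]
    constructor
    · rintro ⟨l, hl⟩
      exact ⟨l.1, l.2, hl⟩
    · rintro ⟨l, hl, h⟩
      exact ⟨⟨l, hl⟩, h⟩
  have hdvd : O.card ∣ 443520 := by
    rw [← hL, ← Set.ncard_coe_finset, ← hOeq, ← MulAction.index_stabilizer]
    exact Subgroup.index_dvd_card _
  have hle : O.card ≤ 100 := by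
    rw [← hΓ.card, ← Finset.card_univ]
    exact Finset.card_le_card (Finset.subset_univ _)
  have hm11 : O.card % 11 = 1 := by
    have h1 := card_mod (g : Γ ≃g Γ) 11 hp11 O (hO g g.2)
    have h2 : O.filter (fun y => (g : Γ ≃g Γ) y = y) = {x} := by
      ext y
      simp only [Finset.mem_filter, Finset.mem_singleton]
      constructor
      · rintro ⟨_, h⟩
        exact h11 g hg' y x h hx
      · rintro rfl
        exact ⟨hxO, hx⟩
    rw [h2, Finset.card_singleton] at h1
    exact h1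
  have hm7 : O.card % 7 ≤ 2 := by
    have h1 := card_mod (g7 : Γ ≃g Γ) 7 hp7 O (hO g7 g7.2)
    have h2 : (O.filter (fun y => (g7 : Γ ≃g Γ) y = y)).card ≤ 2 := by
      by_contra hcon
      push Not at hcon
      obtain ⟨a, ha, b, hb, c, hc, hab, hac, hbc⟩ := Finset.two_lt_card.1 hcon
      exact hbc (h7 g7 hg7' a b c (Finset.mem_filter.1 ha).2 (Finset.mem_filter.1 hb).2
        (Finset.mem_filter.1 hc).2 hab hac)
    rw [h1, Nat.mod_eq_of_lt (by omega)]
    exact h2
  rcases arith _ hle hdvd hm11 hm7 with h1 | h1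
  · refine ⟨x, fun l hl => ?_⟩
    obtain ⟨b, hb⟩ := Finset.card_eq_one.1 h1
    have e1 := hO l hl x hxO
    have e2 := hxO
    rw [hb, Finset.mem_singleton] at e1 e2
    rw [e1, e2]
  · exact (no56 hΓ L O hO x hxO htr g g.2 hp11 hx (fun y hy => h11 g hg' y x hy hx) h1).elim

end Cfsg.Agent.Lib.Helper28.HSOut
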