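import Cfsg.Agent.Lib.Helper28.HSOut2

/-!
The outer automorphism group of a rank 3 group of index 2 in the automorphism group of a strongly
regular graph with parameters (100,22,0,6).
-/

set_option autoImplicit false

namespace Cfsg.Agent.Lib.Helper28.HSOut

open Cfsg Finset Cfsg.Agent.Lib.Helper28 Cfsg.Agent.Lib.Helper28.HSGraph

variable {V : Type*} [Fintype V] [DecidableEq V] {Γ : SimpleGraph V} [DecidableRel Γ.Adj]

/-- a point stabiliser fixes only its point -/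
theorem unique_fix (hΓ : IsHSG Γ) (H : Subgroup (Γ ≃g Γ))
    (hR : ∀ x y y', y ≠ x → y' ≠ x → (Γ.Adj x y ↔ Γ.Adj x y') → ∃ h ∈ H, h x = x ∧ h y = y')
    (x y : V) (h : ∀ h ∈ H, h x = x → h y = y) : y = x := by
  by_contra hyx
  by_cases hadj : Γ.Adj x y
  · obtain ⟨y', h1, h2⟩ := Finset.exists_mem_ne (s := univ.filter (fun u => Γ.Adj x u))
      (by rw [hΓ.deg]; norm_num) y
    have h3 : Γ.Adj x y' := (Finset.mem_filter.1 h1).2
    obtain ⟨k, hk, k1, k2⟩ := hR x y y' hyx (fun e => Γ.loopless.irrefl x (e ▸ h3))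
      ⟨fun _ => h3, fun _ => hadj⟩
    exact h2 (by rw [← k2, h k hk k1])
  · obtain ⟨y', h1, h2⟩ := Finset.exists_mem_ne (s := Q Γ x)
      (by rw [card_Q hΓ]; norm_num) y
    obtain ⟨h3, h4⟩ := (mem_Q' x).1 h1
    obtain ⟨k, hk, k1, k2⟩ := hR x y y' hyx h3 ⟨fun e => absurd e hadj, fun e => absurd e h4⟩
    exact h2 (by rw [← k2, h k hk k1])

/-- every automorphism is induced by a graph automorphism -/
theorem exists_graph_aut (hΓ : IsHSG Γ) (H : Subgroup (Γ ≃g Γ))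
    (hfixv : ∀ L : Subgroup (Γ ≃g Γ), Nat.card L = 443520 → ∃ x, ∀ l ∈ L, l x = x)
    (hT : ∀ a b, ∃ h ∈ H, h a = b)
    (hR : ∀ x y y', y ≠ x → y' ≠ x → (Γ.Adj x y ↔ Γ.Adj x y') → ∃ h ∈ H, h x = x ∧ h y = y')
    (hcH : Nat.card H = 44352000) (φ : MulAut H) :
    ∃ f : Γ ≃g Γ, ∀ h : H, ((φ h : H) : Γ ≃g Γ) = f * h * f⁻¹ := by
  classical
  obtain ⟨x0⟩ : Nonempty V := Fintype.card_pos_iff.1 (by rw [hΓ.card]; norm_num)
  -- the stabiliser
  have hS0 : Nat.card (MulAction.stabilizer H x0) = 443520 := by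
    have h1 := Subgroup.card_mul_index (MulAction.stabilizer H x0)
    have h2 : MulAction.orbit H x0 = Set.univ := by
      ext y
      simp only [Set.mem_univ, iff_true]
      obtain ⟨h, hh, rfl⟩ := hT x0 y
      exact ⟨⟨h, hh⟩, rfl⟩
    rw [MulAction.index_stabilizer, h2, Set.ncard_univ, Nat.card_eq_fintype_card (α := V), hΓ.card,
      hcH] at h1
    omega
  obtain ⟨y0, hy0⟩ := hfixv ((MulAction.stabilizer H x0).map (H.subtype.comp φ.toMonoidHom)) (by
    rw [Subgroup.card_map_of_injective, hS0]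
    exact H.subtype_injective.comp φ.injective)
  have hy0' : ∀ s : H, (s : Γ ≃g Γ) x0 = x0 → ((φ s : H) : Γ ≃g Γ) y0 = y0 := by
    intro s hs
    exact hy0 _ ⟨s, hs, rfl⟩
  have hr : ∀ x, ∃ h : H, (h : Γ ≃g Γ) x0 = x := by
    intro x
    obtain ⟨h, hh, rfl⟩ := hT x0 x
    exact ⟨⟨h, hh⟩, rfl⟩
  choose r hr using hr
  let π : V → V := fun x => ((φ (r x) : H) : Γ ≃g Γ) y0
  have hπ : ∀ (h : H) (x : V), π ((h : Γ ≃g Γ) x) = ((φ h : H) : Γ ≃g Γ) (π x) := by
    intro h x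
    have h1 : (((h * r x)⁻¹ * r ((h : Γ ≃g Γ) x) : H) : Γ ≃g Γ) x0 = x0 := by
      show ((h * r x : H) : Γ ≃g Γ)⁻¹ (((r ((h : Γ ≃g Γ) x) : H) : Γ ≃g Γ) x0) = x0
      rw [hr]
      have : (h : Γ ≃g Γ) x = ((h * r x : H) : Γ ≃g Γ) x0 := by
        show _ = (h : Γ ≃g Γ) ((r x : Γ ≃g Γ) x0)
        rw [hr]
      rw [this]
      exact ((h * r x : H) : Γ ≃g Γ).symm_apply_apply x0
    have h2 := hy0' _ h1
    have h3 : r ((h : Γ ≃g Γ) x) = (h * r x) * ((h * r x)⁻¹ * r ((h : Γ ≃g Γ) x)) := by group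
    show ((φ (r ((h : Γ ≃g Γ) x)) : H) : Γ ≃g Γ) y0 = _
    rw [h3, map_mul]
    show ((φ (h * r x) : H) : Γ ≃g Γ) (((φ ((h * r x)⁻¹ * r ((h : Γ ≃g Γ) x)) : H) : Γ ≃g Γ) y0) = _
    rw [h2, map_mul]
    rfl
  have hπ0 : π x0 = y0 := hy0' _ (hr x0)
  have hsurj : Function.Surjective π := by
    intro y
    obtain ⟨h', hh', rfl⟩ := hT y0 y
    refine ⟨((φ.symm ⟨h', hh'⟩ : H) : Γ ≃g Γ) x0, ?_⟩
    rw [hπ, hπ0, φ.apply_symm_apply]
  have hinj : Function.Injective π := Finite.injective_iff_surjective.2 hsurj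
  have hadj : ∀ x y, Γ.Adj (π x) (π y) ↔ Γ.Adj x y := by
    intro x
    set P := univ.filter (fun y => Γ.Adj (π x) (π y)) with hP
    have hPc : P.card = 22 := by
      rw [← hΓ.deg (π x), ← Finset.card_image_of_injective P hinj]
      congr 1
      ext z
      simp only [hP, Finset.mem_image, Finset.mem_filter, Finset.mem_univ, true_and]
      constructor
      · rintro ⟨y, hy, rfl⟩
        exact hy
      · intro hz
        obtain ⟨y, rfl⟩ := hsurj z
        exact ⟨y, hz, rfl⟩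
    have hsub : P ⊆ univ.filter (fun y => Γ.Adj x y) := by
      intro y hy
      have hy' : Γ.Adj (π x) (π y) := (Finset.mem_filter.1 hy).2
      refine Finset.mem_filter.2 ⟨Finset.mem_univ _, ?_⟩
      by_contra hn
      have hyx : y ≠ x := by
        rintro rfl
        exact Γ.loopless.irrefl _ hy'
      have hQP : Q Γ x ⊆ P := by
        intro z hz
        obtain ⟨h3, h4⟩ := (mem_Q' x).1 hz
        obtain ⟨k, hk, k1, k2⟩ := hR x y z hyx h3 ⟨fun e => absurd e hn, fun e => absurd e h4⟩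
        refine Finset.mem_filter.2 ⟨Finset.mem_univ _, ?_⟩
        have e1 := hπ ⟨k, hk⟩ x
        have e2 := hπ ⟨k, hk⟩ y
        change π (k x) = _ at e1
        change π (k y) = _ at e2
        rw [k1] at e1
        rw [k2] at e2
        rw [e1, e2, SimpleGraph.Iso.map_adj_iff]
        exact hy'
      have := Finset.card_le_card hQP
      rw [card_Q hΓ, hPc] at this
      omega
    have hPeq : P = univ.filter (fun y => Γ.Adj x y) :=
      Finset.eq_of_subset_of_card_le hsub (by rw [hΓ.deg, hPc])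
    intro y
    have : y ∈ P ↔ y ∈ univ.filter (fun y => Γ.Adj x y) := by rw [hPeq]
    simpa [hP] using this
  let f : Γ ≃g Γ := ⟨Equiv.ofBijective π ⟨hinj, hsurj⟩, fun {a b} => hadj a b⟩
  have hf : ∀ x, f x = π x := fun _ => rfl
  refine ⟨f, fun h => ?_⟩
  refine DFunLike.ext _ _ (fun z => ?_)
  show _ = f ((h : Γ ≃g Γ) (f⁻¹ z))
  rw [hf, hπ, ← hf]
  have : f (f⁻¹ z) = z := f.apply_symm_apply z
  rw [this]

theorem card_out (hΓ : IsHSG Γ) (H : Subgroup (Γ ≃g Γ))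
    (hfixv : ∀ L : Subgroup (Γ ≃g Γ), Nat.card L = 443520 → ∃ x, ∀ l ∈ L, l x = x)
    (hT : ∀ a b, ∃ h ∈ H, h a = b)
    (hR : ∀ x y y', y ≠ x → y' ≠ x → (Γ.Adj x y ↔ Γ.Adj x y') → ∃ h ∈ H, h x = x ∧ h y = y')
    (hcH : Nat.card H = 44352000) (hcA : Nat.card (Γ ≃g Γ) = 88704000) :
    Nat.card (Out H) = 2 := by
  have hidx : H.index = 2 := by
    have := Subgroup.card_mul_index H
    rw [hcH, hcA] at this
    omega
  have hN : H.Normal := Subgroup.normal_of_index_eq_two hidx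
  let c : (Γ ≃g Γ) →* MulAut H := MulAut.conjNormal
  have hc : ∀ (f : Γ ≃g Γ) (h : H), ((c f h : H) : Γ ≃g Γ) = f * h * f⁻¹ :=
    fun f h => MulAut.conjNormal_apply f h
  have hsurj : Function.Surjective c := by
    intro φ
    obtain ⟨f, hf⟩ := exists_graph_aut hΓ H hfixv hT hR hcH φ
    refine ⟨f, MulEquiv.ext fun h => Subtype.ext ?_⟩
    rw [hc, hf]
  have hinj : Function.Injective c := by
    rw [injective_iff_map_eq_one]
    intro f hf
    refine DFunLike.ext _ _ (fun x => ?_)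
    apply unique_fix hΓ H hR x (f x)
    intro h hh hx
    have h1 := hc f ⟨h, hh⟩
    rw [hf] at h1
    have h2 : h = f * h * f⁻¹ := h1
    have h3 : h * f = f * h := by
      conv_lhs => rw [h2]
      group
    have h4 := DFunLike.congr_fun h3 x
    change h (f x) = f (h x) at h4
    rw [h4, hx]
  have hInn : Inn H = H.map c := by
    ext φ
    constructor
    · rintro ⟨h, rfl⟩
      refine ⟨h, h.2, MulEquiv.ext fun k => Subtype.ext ?_⟩
      rw [hc]
      rfl
    · rintro ⟨h, hh, rfl⟩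
      refine ⟨⟨h, hh⟩, MulEquiv.ext fun k => Subtype.ext ?_⟩
      rw [hc]
      rfl
  change (Inn H).index = 2
  rw [hInn, Subgroup.index_map_of_bijective ⟨hinj, hsurj⟩, hidx]

end Cfsg.Agent.Lib.Helper28.HSOut
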