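import Cfsg.Agent.Lib.Helper28.HSOut1
import Cfsg.Agent.Lib.Helper28.HSOut3
import Cfsg.Agent.S1584
import Cfsg.Prelude.Def_Spor_Conway

/-!
The outer automorphism group of the Higman-Sims group has order 2.
-/

set_option autoImplicit false

namespace Cfsg.Agent.Lib.Helper28.HSOut

open Cfsg Cfsg.Spor Finset Cfsg.Agent.Lib.Helper28 Cfsg.Agent.Lib.Helper28.HSGraph

/-- `Out` is invariant under isomorphism. -/
theorem card_out_congr {G G' : Type*} [Group G] [Group G'] (e : G ≃* G') :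
    Nat.card (Cfsg.Out G) = Nat.card (Cfsg.Out G') := by
  have he : (Cfsg.Inn G).map (MulAut.congr e).toMonoidHom = Cfsg.Inn G' := by
    ext φ
    constructor
    · rintro ⟨_, ⟨g, rfl⟩, rfl⟩
      refine ⟨e g, ?_⟩
      ext x
      simp [MulAut.congr]
    · rintro ⟨g, rfl⟩
      refine ⟨_, ⟨e.symm g, rfl⟩, ?_⟩
      ext x
      simp [MulAut.congr]
  exact Nat.card_congr (QuotientGroup.congr (Cfsg.Inn G) (Cfsg.Inn G') (MulAut.congr e) he).toEquiv

theorem graph_facts {V : Type*} [Fintype V] [DecidableEq V] {Γ : SimpleGraph V}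
    [DecidableRel Γ.Adj] (hΓ : IsHSG Γ) :
    (∀ f : Γ ≃g Γ, orderOf f = 11 → ∀ u v, f u = u → f v = v → u = v) ∧
    (∀ f : Γ ≃g Γ, orderOf f = 7 → ∀ u v w, f u = u → f v = v → f w = w → u ≠ v → u ≠ w →
      v = w) ∧ Nat.card (Γ ≃g Γ) = 88704000 := by
  classical
  obtain ⟨x0⟩ : Nonempty V := Fintype.card_pos_iff.1 (by rw [hΓ.card]; norm_num)
  obtain ⟨ψ, _⟩ := reconstruct hΓ x0
  have hα := card_Pt hΓ x0
  have hB := steiner hΓ x0
  have hord : ∀ f : Γ ≃g Γ, orderOf (conjHom ψ f) = orderOf f :=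
    fun f => orderOf_injective (conjHom ψ) (conjHom_injective ψ) f
  have hfix : ∀ (f : Γ ≃g Γ) u, f u = u → conjHom ψ f (ψ u) = ψ u := by
    intro f u hu
    rw [conjHom_apply, ψ.symm_apply_apply, hu]
  refine ⟨?_, ?_, ?_⟩
  · intro f hf u v hu hv
    exact ψ.injective (fix11 hα hB (conjHom ψ f) ((hord f).trans hf) _ _ (hfix f u hu) (hfix f v hv))
  · intro f hf u v w hu hv hw huv huw
    exact ψ.injective (fix7 hα hB (conjHom ψ f) ((hord f).trans hf) _ _ _ (hfix f u hu) (hfix f v hv)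
      (hfix f w hw) (fun h => huv (ψ.injective h)) (fun h => huw (ψ.injective h)))
  · rw [← card_aut hα hB]
    refine Nat.card_congr ⟨conjHom ψ, conjHom ψ.symm, ?_, ?_⟩
    · intro f
      refine DFunLike.ext _ _ (fun u => ?_)
      rw [conjHom_apply, conjHom_apply]
      simp
    · intro f
      refine DFunLike.ext _ _ (fun u => ?_)
      rw [conjHom_apply, conjHom_apply]
      simp

theorem card_out_K {v w : leechLattice} (hv : sqNorm (v : GolayPt → ℤ) = 48)
    (hw : sqNorm (w : GolayPt → ℤ) = 48)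
    (hvw : dotInt (v : GolayPt → ℤ) (w : GolayPt → ℤ) = -32) : Nat.card (Out (K v w)) = 2 := by
  classical
  have hc : (X v w).ncard = 100 := (Cfsg.Agent.S1583.result v w hv hw hvw).1
  have hfin : (X v w).Finite := Set.finite_of_ncard_ne_zero (by
    rw [hc]; decide)
  have : Fintype ↥(X v w) := hfin.fintype
  have hΓ := gam_isHSG hv hw hvw
  obtain ⟨h11, h7, hcA⟩ := graph_facts hΓ
  obtain ⟨hsimple, hcard⟩ := Cfsg.Agent.S0405.result _ _ hv hw hvw
  have hinj : Function.Injective (actHom v w) := by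
    rw [← MonoidHom.ker_eq_bot_iff]
    rcases hsimple.eq_bot_or_eq_top_of_normal (actHom v w).ker inferInstance with h1 | h1
    · exact h1
    · exfalso
      obtain ⟨x, hx⟩ : (X v w).Nonempty := Set.nonempty_of_ncard_ne_zero (by
            rw [hc]; decide)
      obtain ⟨y, hy, hyx⟩ := Set.exists_ne_of_one_lt_ncard (s := X v w) (by
        rw [hc]; decide) x
      obtain ⟨g, g1, g2, g3⟩ := (Cfsg.Agent.S1583.result _ _ hv hw hvw).2 x hx y hy
      have hg : (⟨g, g1, g2⟩ : K v w) ∈ (actHom v w).ker := by rw [h1]; trivial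
      rw [MonoidHom.mem_ker] at hg
      have h3 := DFunLike.congr_fun hg ⟨x, hx⟩
      have h4 := congrArg Subtype.val h3
      exact hyx (g3.symm.trans h4)
  rw [card_out_congr (MonoidHom.ofInjective hinj)]
  apply card_out hΓ _ (fixes_vertex hΓ h11 h7) _ _ _ hcA
  · intro a b
    obtain ⟨g, g1, g2, g3⟩ := (Cfsg.Agent.S1583.result _ _ hv hw hvw).2 a.1 a.2 b.1 b.2
    exact ⟨actHom v w ⟨g, g1, g2⟩, ⟨_, rfl⟩, Subtype.ext g3⟩
  · intro x y y' hy hy' hiff
    obtain ⟨g, g1, g2, g3, g4⟩ := (Cfsg.Agent.S1584.result v w x.1 hv hw hvw x.2).2.2 y.1 y.2 y'.1 y'.2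
      (fun h => hy (Subtype.ext h)) (fun h => hy' (Subtype.ext h)) hiff
    exact ⟨actHom v w ⟨g, g1, g2⟩, ⟨_, rfl⟩, Subtype.ext g3, Subtype.ext g4⟩
  · rw [← Nat.card_congr (MonoidHom.ofInjective hinj).toEquiv]
    exact hcard

/-- the third vector -/
def wHS : leechLattice := -(leechV + leechU')

theorem wHS_facts : sqNorm ((leechV : leechLattice) : GolayPt → ℤ) = 48 ∧
    sqNorm ((wHS : leechLattice) : GolayPt → ℤ) = 48 ∧
    dotInt ((leechV : leechLattice) : GolayPt → ℤ) ((wHS : leechLattice) : GolayPt → ℤ) = -32 := by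
  refine ⟨by decide +kernel, by decide +kernel, by decide +kernel⟩

theorem fix_iff (g : Co0) (hg : g • leechV = leechV) : g • leechU' = leechU' ↔ g • wHS = wHS := by
  have h0 : g • (0 : leechLattice) = 0 := by
    have := co0_add g 0 0
    rw [add_zero] at this
    simpa using this
  have hsum : leechV + leechU' + wHS = 0 := add_neg_cancel _
  have key : leechV + g • leechU' + g • wHS = 0 := by
    rw [← h0, ← hsum, co0_add, co0_add, hg]
  constructor
  · intro h
    rw [h] at key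
    exact eq_neg_of_add_eq_zero_right key
  · intro h
    rw [h, ← hsum] at key
    exact add_left_cancel (add_right_cancel key)

/-- the Higman-Sims group as a two-vector stabiliser -/
def equivK : ↥Spor.HS ≃* ↥(K leechV wHS) where
  toFun g := ⟨⟨g.1, g.2.1.1⟩, g.2.1.2, (fix_iff ⟨g.1, g.2.1.1⟩ g.2.1.2).1 g.2.2⟩
  invFun k := ⟨k.1.1, ⟨k.1.2, k.2.1⟩, (fix_iff k.1 k.2.1).2 k.2.2⟩
  left_inv _ := rfl
  right_inv _ := rfl
  map_mul' _ _ := rfl

theorem card_out_HS : Nat.card (Out ↥Spor.HS) = 2 := by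
  rw [card_out_congr equivK]
  exact card_out_K wHS_facts.1 wHS_facts.2.1 wHS_facts.2.2

end Cfsg.Agent.Lib.Helper28.HSOut
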