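import Cfsg.Agent.Lib.Helper28.Hexa1

/-! Explicit monomial automorphisms of the hexacode (concrete model). -/

set_option autoImplicit false

namespace Cfsg.Agent.Lib.Helper28.Hexa

open Cfsg Finset

/-- the nonzero elements -/
def pw : Fin 3 → K := ![k1, kw, kv]

abbrev E6 := Fin 3 × Fin 3 × Fin 3 × Fin 3 × Fin 3 × Fin 3

def tup (e : E6) : Fin 6 → Fin 3 := ![e.1, e.2.1, e.2.2.1, e.2.2.2.1, e.2.2.2.2.1, e.2.2.2.2.2]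

/-- concrete form of "the monomial map preserves the code" -/
def CP (s : Fin 6 → Fin 6) (e : E6) : Prop :=
  ∀ j : Fin 3, isC (fun i => kmul (pw (tup e i)) (g j (s i)))

instance (s : Fin 6 → Fin 6) (e : E6) : Decidable (CP s e) := by unfold CP; infer_instance

theorem pw_ne : ∀ k, pw k ≠ kz := by decide

theorem exists_pw : ∀ x : K, x ≠ kz → ∃ k, x = pw k := by decide

theorem diag_dec : ∀ e : E6, CP id e → ∀ i j, tup e i = tup e j := by decide +kernel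

theorem swap_dec : ∀ e : E6, ¬ CP (Equiv.swap (0 : Fin 6) 1) e := by decide +kernel

def ptL (l : List (Fin 6)) : Fin 6 → Fin 6 := fun p => l.getD p.val 0

def tF : List (List (Fin 6)) := [
  [0, 1, 2, 3, 4, 5],
  [1, 0, 2, 3, 5, 4],
  [2, 0, 1, 3, 4, 5],
  [3, 0, 1, 2, 5, 4],
  [4, 0, 1, 2, 3, 5],
  [5, 0, 1, 2, 4, 3],
  [0, 1, 2, 3, 4, 5],
  [0, 1, 2, 3, 4, 5],
  [0, 2, 1, 3, 5, 4],
  [0, 3, 1, 2, 4, 5],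
  [0, 4, 1, 2, 5, 3],
  [0, 5, 1, 2, 3, 4],
  [0, 1, 2, 3, 4, 5],
  [0, 1, 2, 3, 4, 5],
  [0, 1, 2, 3, 4, 5],
  [0, 1, 3, 2, 5, 4],
  [0, 1, 4, 2, 3, 5],
  [0, 1, 5, 2, 4, 3],
  [0, 1, 2, 3, 4, 5],
  [0, 1, 2, 3, 4, 5],
  [0, 1, 2, 3, 4, 5],
  [0, 1, 2, 3, 4, 5],
  [0, 1, 2, 4, 5, 3],
  [0, 1, 2, 5, 3, 4]]

def tB : List (List (Fin 6)) := [
  [0, 1, 2, 3, 4, 5],
  [1, 0, 2, 3, 5, 4],
  [1, 2, 0, 3, 4, 5],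
  [1, 2, 3, 0, 5, 4],
  [1, 2, 3, 4, 0, 5],
  [1, 2, 3, 5, 4, 0],
  [0, 1, 2, 3, 4, 5],
  [0, 1, 2, 3, 4, 5],
  [0, 2, 1, 3, 5, 4],
  [0, 2, 3, 1, 4, 5],
  [0, 2, 3, 5, 1, 4],
  [0, 2, 3, 4, 5, 1],
  [0, 1, 2, 3, 4, 5],
  [0, 1, 2, 3, 4, 5],
  [0, 1, 2, 3, 4, 5],
  [0, 1, 3, 2, 5, 4],
  [0, 1, 3, 4, 2, 5],
  [0, 1, 3, 5, 4, 2],
  [0, 1, 2, 3, 4, 5],
  [0, 1, 2, 3, 4, 5],
  [0, 1, 2, 3, 4, 5],
  [0, 1, 2, 3, 4, 5],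
  [0, 1, 2, 5, 3, 4],
  [0, 1, 2, 4, 5, 3]]

def tS : List E6 := [
  (0, 0, 0, 0, 0, 0),
  (0, 0, 0, 0, 0, 0),
  (0, 0, 0, 0, 1, 2),
  (0, 0, 0, 0, 2, 1),
  (0, 1, 2, 0, 2, 1),
  (0, 2, 1, 0, 2, 1),
  (0, 0, 0, 0, 0, 0),
  (0, 0, 0, 0, 0, 0),
  (0, 0, 0, 0, 1, 2),
  (0, 0, 0, 0, 2, 1),
  (0, 1, 2, 0, 2, 1),
  (0, 2, 1, 0, 2, 1),
  (0, 0, 0, 0, 0, 0),
  (0, 0, 0, 0, 0, 0),
  (0, 0, 0, 0, 0, 0),
  (0, 0, 0, 0, 0, 0),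
  (0, 1, 2, 2, 2, 2),
  (0, 2, 1, 1, 1, 1),
  (0, 0, 0, 0, 0, 0),
  (0, 0, 0, 0, 0, 0),
  (0, 0, 0, 0, 0, 0),
  (0, 0, 0, 0, 0, 0),
  (0, 1, 2, 2, 2, 2),
  (0, 2, 1, 1, 1, 1)]

def fF (i : Fin 4) (t : Fin 6) : Fin 6 → Fin 6 := ptL (tF.getD (6 * i.val + t.val) [])
def fB (i : Fin 4) (t : Fin 6) : Fin 6 → Fin 6 := ptL (tB.getD (6 * i.val + t.val) [])
def fS (i : Fin 4) (t : Fin 6) : E6 := tS.getD (6 * i.val + t.val) (0, 0, 0, 0, 0, 0)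

theorem fB_fF : ∀ (i : Fin 4) (t x : Fin 6), fB i t (fF i t x) = x := by decide +kernel

theorem fF_fB : ∀ (i : Fin 4) (t x : Fin 6), fF i t (fB i t x) = x := by decide +kernel

/-- the table entries as permutations -/
def prm (i : Fin 4) (t : Fin 6) : Equiv.Perm (Fin 6) where
  toFun := fF i t
  invFun := fB i t
  left_inv := fB_fF i t
  right_inv := fF_fB i t

/-- the base points -/
def bs : Fin 4 → Fin 6 := ![0, 1, 2, 3]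

theorem tbl_spec : ∀ (i : Fin 4) (t : Fin 6), (∀ j : Fin 4, j < i → t ≠ bs j) →
    fF i t (bs i) = t ∧ ∀ j : Fin 4, j < i → fF i t (bs j) = bs j := by decide +kernel

theorem tbl_CP : ∀ (i : Fin 4) (t : Fin 6), CP (fB i t) (fS i t) := by decide +kernel

theorem tbl_sign : ∀ (i : Fin 4) (t : Fin 6), Equiv.Perm.sign (prm i t) = 1 := by decide +kernel

end Cfsg.Agent.Lib.Helper28.Hexa
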