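import Cfsg.Agent.Lib.Helper28.GolayFacts

/-!
The rank-24 lattice: `leechSet` is already a subgroup; normal form of its vectors; divisibility
of norms; minimal norm.
-/

set_option autoImplicit false

namespace Cfsg.Agent.Lib.Helper28

open Cfsg

/-- supports of code words. -/
abbrev GC : Set (Finset GolayPt) := supports (golayCode : Set (GolayPt → ZMod 2))

theorem gc_symmDiff {s t : Finset GolayPt} (hs : s ∈ GC) (ht : t ∈ GC) : symmDiff s t ∈ GC := by
  rw [mem_supports_iff] at *
  rw [mk_symmDiff]; exact isCode_xor hs ht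

theorem gc_empty : (∅ : Finset GolayPt) ∈ GC := by
  rw [mem_supports_iff, mk_empty]; exact isCode_zero

theorem gc_univ : (Finset.univ : Finset GolayPt) ∈ GC := by
  rw [mem_supports_iff, mk_univ]; exact isCode_full

theorem gc_compl {s : Finset GolayPt} (hs : s ∈ GC) : sᶜ ∈ GC := by
  have h := gc_symmDiff hs gc_univ
  have e : symmDiff s Finset.univ = sᶜ := by
    ext i; simp [Finset.mem_symmDiff]
  rwa [e] at h

theorem gc_card_cases {s : Finset GolayPt} (hs : s ∈ GC) :
    s.card = 0 ∨ s.card = 8 ∨ s.card = 12 ∨ s.card = 16 ∨ s.card = 24 := by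
  rw [mem_supports_iff] at hs
  rw [card_eq_popc]; exact popc_cases hs

theorem card_golayPt : Fintype.card GolayPt = 24 := by decide

/-- the positions where `x` is `k` modulo 4. -/
def cls (x : GolayPt → ℤ) (k : ℤ) : Finset GolayPt := Finset.univ.filter fun i => x i ≡ k [ZMOD 4]

theorem mem_cls {x : GolayPt → ℤ} {k : ℤ} {i : GolayPt} : i ∈ cls x k ↔ x i ≡ k [ZMOD 4] := by
  simp [cls]

theorem mem_leechSet_iff {x : GolayPt → ℤ} : x ∈ leechSet ↔
    ∃ m : ℤ, (∀ i, x i ≡ m [ZMOD 2]) ∧ (∑ i, x i ≡ 4 * m [ZMOD 8]) ∧ ∀ k : ℤ, cls x k ∈ GC :=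
  Iff.rfl

theorem leechSet_zero : (0 : GolayPt → ℤ) ∈ leechSet := by
  refine mem_leechSet_iff.2 ⟨0, fun i => by simp, by simp, fun k => ?_⟩
  by_cases hk : (0 : ℤ) ≡ k [ZMOD 4]
  · have : cls 0 k = Finset.univ := by ext i; simp [mem_cls, hk]
    rw [this]; exact gc_univ
  · have : cls 0 k = ∅ := by ext i; simp [mem_cls, hk]
    rw [this]; exact gc_empty

theorem leechSet_neg {x : GolayPt → ℤ} (hx : x ∈ leechSet) : -x ∈ leechSet := by
  obtain ⟨m, hm, hs, hc⟩ := mem_leechSet_iff.1 hx
  refine mem_leechSet_iff.2 ⟨m, fun i => ?_, ?_, fun k => ?_⟩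
  · have := hm i
    simp only [Pi.neg_apply]
    unfold Int.ModEq at *; omega
  · simp only [Pi.neg_apply, Finset.sum_neg_distrib]
    unfold Int.ModEq at *; omega
  · have : cls (-x) k = cls x (-k) := by
      ext i; simp only [mem_cls, Pi.neg_apply]
      unfold Int.ModEq; omega
    rw [this]; exact hc _

theorem leechSet_add {x y : GolayPt → ℤ} (hx : x ∈ leechSet) (hy : y ∈ leechSet) :
    x + y ∈ leechSet := by
  obtain ⟨m, hm, hs, hc⟩ := mem_leechSet_iff.1 hx
  obtain ⟨m', hm', hs', hc'⟩ := mem_leechSet_iff.1 hy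
  refine mem_leechSet_iff.2 ⟨m + m', fun i => (hm i).add (hm' i), ?_, fun k => ?_⟩
  · simp only [Pi.add_apply, Finset.sum_add_distrib]
    unfold Int.ModEq at *; omega
  · by_cases hk : k ≡ m + m' [ZMOD 2]
    · have : cls (x + y) k = (symmDiff (cls x m) (cls y (k - m)))ᶜ := by
        ext i
        simp only [mem_cls, Pi.add_apply, Finset.mem_compl, Finset.mem_symmDiff]
        have h1 := hm i
        have h2 := hm' i
        unfold Int.ModEq at *; omega
      rw [this]; exact gc_compl (gc_symmDiff (hc _) (hc' _))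
    · have : cls (x + y) k = ∅ := by
        ext i
        simp only [mem_cls, Pi.add_apply, Finset.notMem_empty, iff_false]
        have h1 := hm i
        have h2 := hm' i
        unfold Int.ModEq at *; omega
      rw [this]; exact gc_empty

/-- `leechSet` as a subgroup. -/
def leechSub : AddSubgroup (GolayPt → ℤ) where
  carrier := leechSet
  zero_mem' := leechSet_zero
  add_mem' := leechSet_add
  neg_mem' := leechSet_neg

theorem leechLattice_eq : leechLattice = leechSub :=
  AddSubgroup.closure_eq leechSub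

theorem mem_leechLattice_iff {x : GolayPt → ℤ} : x ∈ leechLattice ↔ x ∈ leechSet := by
  rw [leechLattice_eq]; rfl

/-- the indicator of a set of points, with integer values. -/
def chi (c : Finset GolayPt) (i : GolayPt) : ℤ := if i ∈ c then 1 else 0

theorem chi_sq (c : Finset GolayPt) (i : GolayPt) : chi c i * chi c i = chi c i := by
  unfold chi; split <;> simp

theorem sum_chi (c : Finset GolayPt) : ∑ i, chi c i = c.card := by
  unfold chi; simp

/-- Normal form: `x = m + 2 χ_c + 4 b` with `m ∈ {0, 1}`, `c` a code word, `∑ b ≡ m` mod 2. -/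
theorem mem_leech_iff {x : GolayPt → ℤ} : x ∈ leechLattice ↔
    ∃ m : ℤ, (m = 0 ∨ m = 1) ∧ ∃ c ∈ GC, ∃ b : GolayPt → ℤ,
      (∀ i, x i = m + 2 * chi c i + 4 * b i) ∧ (∑ i, b i) ≡ m [ZMOD 2] := by
  rw [mem_leechLattice_iff, mem_leechSet_iff]
  constructor
  · rintro ⟨m0, hm, hs, hc⟩
    have hm2 : m0 % 2 = 0 ∨ m0 % 2 = 1 := by omega
    have hb : ∀ i, ∃ b : ℤ, x i = m0 % 2 + 2 * chi (cls x (m0 % 2 + 2)) i + 4 * b := by
      intro i
      have h1 := hm i
      by_cases hi : i ∈ cls x (m0 % 2 + 2)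
      · have h2 := mem_cls.1 hi
        refine ⟨(x i - (m0 % 2 + 2)) / 4, ?_⟩
        simp only [chi, hi, if_true]
        unfold Int.ModEq at *; omega
      · have h2 : ¬ (x i ≡ m0 % 2 + 2 [ZMOD 4]) := fun h => hi (mem_cls.2 h)
        refine ⟨(x i - (m0 % 2)) / 4, ?_⟩
        simp only [chi, hi, if_false]
        unfold Int.ModEq at *; omega
    choose b hb using hb
    refine ⟨m0 % 2, hm2, _, hc _, b, hb, ?_⟩
    have hsum : ∑ i, x i = 24 * (m0 % 2) + 2 * ((cls x (m0 % 2 + 2)).card : ℤ) + 4 * ∑ i, b i := by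
      rw [Finset.sum_congr rfl (fun i _ => hb i)]
      rw [Finset.sum_add_distrib, Finset.sum_add_distrib, ← Finset.mul_sum, ← Finset.mul_sum,
        sum_chi]
      simp
    have hcard := gc_card_cases (hc (m0 % 2 + 2))
    rw [hsum] at hs
    unfold Int.ModEq at *
    rcases hcard with h | h | h | h | h <;> rw [h] at hs <;> push_cast at hs <;> omega
  · rintro ⟨m, hm2, c, hc, b, hb, hs⟩
    refine ⟨m, fun i => ?_, ?_, fun k => ?_⟩
    · rw [hb i]
      have : chi c i = 0 ∨ chi c i = 1 := by unfold chi; split <;> simp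
      unfold Int.ModEq; omega
    · have hsum : ∑ i, x i = 24 * m + 2 * (c.card : ℤ) + 4 * ∑ i, b i := by
        rw [Finset.sum_congr rfl (fun i _ => hb i)]
        rw [Finset.sum_add_distrib, Finset.sum_add_distrib, ← Finset.mul_sum, ← Finset.mul_sum,
          sum_chi]
        simp
      rw [hsum]
      have hcard := gc_card_cases hc
      unfold Int.ModEq at *
      rcases hcard with h | h | h | h | h <;> rw [h] <;> push_cast <;> omega
    · by_cases h1 : k ≡ m + 2 [ZMOD 4]
      · have : cls x k = c := by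
          ext i
          rw [mem_cls, hb i]
          by_cases hi : i ∈ c
          · simp only [chi, hi, if_true, iff_true]
            unfold Int.ModEq at *; omega
          · simp only [chi, hi, if_false, iff_false]
            unfold Int.ModEq at *; omega
        rw [this]; exact hc
      · by_cases h2 : k ≡ m [ZMOD 4]
        · have : cls x k = cᶜ := by
            ext i
            rw [mem_cls, hb i, Finset.mem_compl]
            by_cases hi : i ∈ c
            · simp only [chi, hi, if_true, not_true, iff_false]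
              unfold Int.ModEq at *; omega
            · simp only [chi, hi, if_false, not_false_iff, iff_true]
              unfold Int.ModEq at *; omega
          rw [this]; exact gc_compl hc
        · have : cls x k = ∅ := by
            ext i
            rw [mem_cls, hb i]
            simp only [Finset.notMem_empty, iff_false]
            have : chi c i = 0 ∨ chi c i = 1 := by unfold chi; split <;> simp
            unfold Int.ModEq at *; omega
          rw [this]; exact gc_empty

theorem sqNorm_formula {x b : GolayPt → ℤ} {m : ℤ} {c : Finset GolayPt}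
    (hb : ∀ i, x i = m + 2 * chi c i + 4 * b i) :
    sqNorm x = 24 * m ^ 2 + 4 * (1 + m) * c.card + 8 * m * ∑ i, b i
      + 16 * ∑ i, (b i ^ 2 + chi c i * b i) := by
  unfold sqNorm
  have h : ∀ i, x i ^ 2 = m ^ 2 + 4 * (1 + m) * chi c i + 8 * m * b i
      + 16 * (b i ^ 2 + chi c i * b i) := by
    intro i; rw [hb i]; linear_combination 4 * chi_sq c i
  rw [Finset.sum_congr rfl (fun i _ => h i)]
  rw [Finset.sum_add_distrib, Finset.sum_add_distrib, Finset.sum_add_distrib, ← Finset.mul_sum,
    ← Finset.mul_sum, ← Finset.mul_sum, sum_chi]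
  simp

theorem sixteen_dvd_sqNorm {x : GolayPt → ℤ} (hx : x ∈ leechLattice) : (16 : ℤ) ∣ sqNorm x := by
  obtain ⟨m, hm, c, hc, b, hb, hs⟩ := mem_leech_iff.1 hx
  rw [sqNorm_formula hb]
  have hcard := gc_card_cases hc
  unfold Int.ModEq at hs
  rcases hm with rfl | rfl <;> rcases hcard with h | h | h | h | h <;> rw [h] <;> push_cast <;> omega

theorem sqNorm_nonneg (x : GolayPt → ℤ) : 0 ≤ sqNorm x :=
  Finset.sum_nonneg fun i _ => sq_nonneg _

theorem sq_le_sqNorm (x : GolayPt → ℤ) (i : GolayPt) : x i ^ 2 ≤ sqNorm x :=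
  Finset.single_le_sum (f := fun i => x i ^ 2) (fun i _ => sq_nonneg _) (Finset.mem_univ i)

theorem sqNorm_eq_zero {x : GolayPt → ℤ} : sqNorm x = 0 ↔ x = 0 := by
  constructor
  · intro h
    funext i
    have h1 := sq_le_sqNorm x i
    rw [h] at h1
    have h2 : x i ^ 2 = 0 := le_antisymm h1 (sq_nonneg _)
    simpa using h2
  · rintro rfl; simp [sqNorm]

theorem sum_sq_modEq_sum (b : GolayPt → ℤ) : (∑ i, b i ^ 2) ≡ ∑ i, b i [ZMOD 2] := by
  have h : (2 : ℤ) ∣ ∑ i, (b i ^ 2 - b i) := by
    refine Finset.dvd_sum fun i _ => ?_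
    have : b i ^ 2 - b i = b i * (b i - 1) := by ring
    rw [this]
    exact (Int.even_mul_pred_self (b i)).two_dvd
  rw [Finset.sum_sub_distrib] at h
  exact (Int.modEq_iff_dvd.2 h).symm

theorem min_sqNorm {x : GolayPt → ℤ} (hx : x ∈ leechLattice) (h0 : x ≠ 0) : 32 ≤ sqNorm x := by
  have h16 := sixteen_dvd_sqNorm hx
  obtain ⟨m, hm, c, hc, b, hb, hs⟩ := mem_leech_iff.1 hx
  rcases hm with rfl | rfl
  · rcases gc_card_cases hc with h | h | h | h | h
    · -- `x = 4 b`
      have hc0 : c = ∅ := Finset.card_eq_zero.1 h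
      subst hc0
      have hN := sqNorm_formula hb
      have h1 : ∑ i, (b i ^ 2 + chi ∅ i * b i) = ∑ i, b i ^ 2 := by
        refine Finset.sum_congr rfl fun i _ => ?_
        simp [chi]
      rw [h1] at hN
      have h2 := sum_sq_modEq_sum b
      have h3 : 0 < sqNorm x := lt_of_le_of_ne (sqNorm_nonneg x) fun h => h0 (sqNorm_eq_zero.1 h.symm)
      simp only [Finset.card_empty] at hN
      unfold Int.ModEq at *
      push_cast at hN
      omega
    all_goals
      have h1 : ∑ i ∈ c, (4 : ℤ) ≤ ∑ i ∈ c, x i ^ 2 := by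
        refine Finset.sum_le_sum fun i hi => ?_
        have h2 := hb i
        simp only [chi, hi, if_true] at h2
        have h3 : x i ≤ -2 ∨ 2 ≤ x i := by omega
        rcases h3 with h3 | h3 <;> nlinarith
      have h2 : ∑ i ∈ c, x i ^ 2 ≤ sqNorm x :=
        Finset.sum_le_sum_of_subset_of_nonneg (Finset.subset_univ c) fun i _ _ => sq_nonneg _
      rw [Finset.sum_const, h] at h1
      simp only [nsmul_eq_mul] at h1
      push_cast at h1
      omega
  · have h1 : ∑ i : GolayPt, (1 : ℤ) ≤ ∑ i, x i ^ 2 := by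
      refine Finset.sum_le_sum fun i _ => ?_
      have h2 := hb i
      have h4 : chi c i = 0 ∨ chi c i = 1 := by unfold chi; split <;> simp
      have h3 : x i ≤ -1 ∨ 1 ≤ x i := by omega
      rcases h3 with h3 | h3 <;> nlinarith
    have h2 : ∑ i : GolayPt, (1 : ℤ) = 24 := by simp
    rw [h2] at h1
    change 24 ≤ sqNorm x at h1
    omega

theorem sqNorm_add (x y : GolayPt → ℤ) : sqNorm (x + y) = sqNorm x + sqNorm y + 2 * dotInt x y := by
  unfold sqNorm dotInt
  rw [Finset.mul_sum, ← Finset.sum_add_distrib, ← Finset.sum_add_distrib]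
  refine Finset.sum_congr rfl fun i _ => ?_
  simp only [Pi.add_apply]; ring

theorem sqNorm_sub (x y : GolayPt → ℤ) : sqNorm (x - y) = sqNorm x + sqNorm y - 2 * dotInt x y := by
  unfold sqNorm dotInt
  rw [Finset.mul_sum, ← Finset.sum_add_distrib, ← Finset.sum_sub_distrib]
  refine Finset.sum_congr rfl fun i _ => ?_
  simp only [Pi.sub_apply]; ring

theorem sqNorm_neg (x : GolayPt → ℤ) : sqNorm (-x) = sqNorm x := by
  unfold sqNorm; simp

theorem sqNorm_two_smul (x : GolayPt → ℤ) : sqNorm (2 • x) = 4 * sqNorm x := by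
  unfold sqNorm
  rw [Finset.mul_sum]
  refine Finset.sum_congr rfl fun i _ => ?_
  simp only [Pi.smul_apply, smul_eq_mul]; ring

theorem eight_dvd_dotInt {x y : GolayPt → ℤ} (hx : x ∈ leechLattice) (hy : y ∈ leechLattice) :
    (8 : ℤ) ∣ dotInt x y := by
  have h1 := sixteen_dvd_sqNorm hx
  have h2 := sixteen_dvd_sqNorm hy
  have h3 := sixteen_dvd_sqNorm (leechLattice.add_mem hx hy)
  rw [sqNorm_add] at h3
  omega

/-- Short vectors congruent modulo twice the lattice. -/
theorem short_congruent {x y : GolayPt → ℤ} (hx : x ∈ leechLattice) (hy : y ∈ leechLattice)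
    (hxy : x ≠ y) (hxn : sqNorm x ≤ 64) (hyn : sqNorm y ≤ 64)
    (hc : ∃ z ∈ leechLattice, x - y = 2 • z) :
    x = -y ∨ (sqNorm x = 64 ∧ sqNorm y = 64 ∧ dotInt x y = 0) := by
  obtain ⟨z, hz, hxyz⟩ := hc
  by_cases hneg : x = -y
  · exact Or.inl hneg
  · right
    have hz0 : z ≠ 0 := by
      rintro rfl
      apply hxy
      simpa [sub_eq_zero] using hxyz
    have h1 := min_sqNorm hz hz0
    have h2 : sqNorm (x - y) = 4 * sqNorm z := by rw [hxyz, sqNorm_two_smul]
    have hw : x + y = 2 • (z + y) := by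
      have : x = 2 • z + y := by rw [← hxyz]; abel
      rw [this]; simp only [two_smul]; abel
    have hw0 : z + y ≠ 0 := by
      intro h
      apply hneg
      rw [h] at hw
      simp only [smul_zero] at hw
      exact eq_neg_of_add_eq_zero_left hw
    have h3 := min_sqNorm (leechLattice.add_mem hz hy) hw0
    have h4 : sqNorm (x + y) = 4 * sqNorm (z + y) := by rw [hw, sqNorm_two_smul]
    rw [sqNorm_sub] at h2
    rw [sqNorm_add] at h4
    refine ⟨?_, ?_, ?_⟩ <;> omega

end Cfsg.Agent.Lib.Helper28
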