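import Cfsg.Agent.Lib.Helper28.LeechStabV

/-!
Transitivity of `Co0` on some pairs of short vectors with given inner product.
-/

set_option autoImplicit false

namespace Cfsg.Agent.Lib.Helper28

open Cfsg
open scoped Pointwise

theorem eqvH_shp_perm {σ : Equiv.Perm GolayPt} (hσ : σ ∈ M24) (h1 : σ none = none)
    (h2 : σ (some 0) = some 0) {A B : Finset GolayPt} (hL : shp A B ∈ leechLattice) :
    EqvH (shp A B) (shp (σ • A) (σ • B)) := by
  have := eqvH_perm hσ h1 h2 hL
  rwa [shp_perm] at this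

/-- minimal vectors with inner product `-16` with `vMinus`. -/
theorem eqvH_rep222 {w : GolayPt → ℤ} (hw : w ∈ leechLattice) (hn : sqNorm w = 32)
    (hd : w none - w (some 0) = -4) : EqvH w (shp {none} ∅) := by
  obtain ⟨y, hy, hy1⟩ := oddifyH hw (by omega) (Or.inl (by omega))
  have hyd := hy.diff
  obtain ⟨z, hz, hz1⟩ := normalizeH hy.mem_right hy1 (by omega)
  have hzd := hz.diff
  have hzn : sqNorm z = 32 := by rw [hz.norm, hy.norm, hn]
  obtain ⟨A, B, hdis, rfl, hN⟩ := shape_of_normalized hz1 (by omega)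
  have hcases : A.card = 1 ∧ B.card = 0 := by omega
  obtain ⟨j, rfl⟩ := Finset.card_eq_one.1 hcases.1
  have hB : B = ∅ := Finset.card_eq_zero.1 hcases.2
  subst hB
  have hj : j = none := by
    by_contra hne
    have e1 : shp {j} ∅ none = 1 := by simp [shp, Ne.symm hne]
    by_cases h0 : j = some 0
    · subst h0
      have e2 : shp {some 0} ∅ (some 0) = -3 := by simp [shp]
      omega
    · have e2 : shp {j} ∅ (some 0) = 1 := by simp [shp, Ne.symm h0]
      omega
  subst hj
  exact hy.trans hz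

theorem negxi_fuse48 : -xiF (shp ∅ {none}) = shp {some 0, some 1, some 2} ∅ := by
  rw [xi_fuse48, neg_neg]

/-- vectors of norm 48 with inner product `16` with `vMinus`. -/
theorem eqvH_rep32 {u : GolayPt → ℤ} (hu : u ∈ leechLattice) (hn : sqNorm u = 48)
    (hd : u none - u (some 0) = 4) : EqvH u (shp ∅ {none}) := by
  obtain ⟨y, hy, hy1⟩ := oddifyH hu (by omega) (Or.inl (by omega))
  have hyd := hy.diff
  obtain ⟨z, hz, hz1⟩ := normalizeH hy.mem_right hy1 (by omega)
  have hzd := hz.diff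
  have hzn : sqNorm z = 48 := by rw [hz.norm, hy.norm, hn]
  obtain ⟨A, B, hdis, rfl, hN⟩ := shape_of_normalized hz1 (by omega)
  refine (hy.trans hz).trans ?_
  have hcases : (A.card = 0 ∧ B.card = 1) ∨ (A.card = 3 ∧ B.card = 0) := by omega
  rcases hcases with ⟨hA, hB⟩ | ⟨hA, hB⟩
  · have hA' : A = ∅ := Finset.card_eq_zero.1 hA
    subst hA'
    obtain ⟨j, rfl⟩ := Finset.card_eq_one.1 hB
    have hj : j = none := by
      by_contra hne
      have e1 : shp ∅ {j} none = 1 := by simp [shp, Ne.symm hne]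
      by_cases h0 : j = some 0
      · subst h0
        have e2 : shp ∅ {some 0} (some 0) = 5 := by simp [shp]
        omega
      · have e2 : shp ∅ {j} (some 0) = 1 := by simp [shp, Ne.symm h0]
        omega
    subst hj
    exact EqvH.refl hz.mem_right
  · have hB' : B = ∅ := Finset.card_eq_zero.1 hB
    subst hB'
    have h0A : some 0 ∈ A := by
      by_contra h
      have e2 : shp A ∅ (some 0) = 1 := by simp [shp, h]
      have e1 : shp A ∅ none = 1 ∨ shp A ∅ none = -3 := by
        by_cases h' : none ∈ A <;> simp [shp, h']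
      omega
    have hnA : none ∉ A := by
      intro h
      have e1 : shp A ∅ none = -3 := by simp [shp, h]
      have e2 : shp A ∅ (some 0) = -3 := by simp [shp, h0A]
      omega
    have hcard : (A.erase (some 0)).card = 2 := by rw [Finset.card_erase_of_mem h0A, hA]
    obtain ⟨a, b, hab, he⟩ := Finset.card_eq_two.1 hcard
    have hAeq : A = {some 0, a, b} := by rw [← he, Finset.insert_erase h0A]
    have ha : a ∈ A.erase (some 0) := by rw [he]; simp
    have hb : b ∈ A.erase (some 0) := by rw [he]; simp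
    have ha0 : a ≠ some 0 := (Finset.mem_erase.1 ha).1
    have hb0 : b ≠ some 0 := (Finset.mem_erase.1 hb).1
    have han : a ≠ none := fun h => hnA (h ▸ (Finset.mem_erase.1 ha).2)
    have hbn : b ≠ none := fun h => hnA (h ▸ (Finset.mem_erase.1 hb).2)
    obtain ⟨σ, hσ, hmap⟩ := exists_M24_map_list [none, some 0, a, b]
      [none, some 0, some 1, some 2] rfl (by simp)
      (by simp [Ne.symm ha0, Ne.symm hb0, Ne.symm han, Ne.symm hbn, hab]) (by decide)
    simp only [List.map_cons, List.map_nil, List.cons.injEq, and_true] at hmap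
    obtain ⟨h1, h2, h3, h4⟩ := hmap
    have hstep := eqvH_shp_perm hσ h1 h2 hz.mem_right
    have e1 : σ • A = {some 0, some 1, some 2} := by
      rw [hAeq, smul_finset_eq_image, Finset.image_insert, Finset.image_insert,
        Finset.image_singleton, h2, h3, h4]
    have e2 : σ • (∅ : Finset GolayPt) = ∅ := by rw [smul_finset_eq_image, Finset.image_empty]
    rw [e1, e2] at hstep
    have hfuse := eqvH_negxi shp48_mem
    rw [negxi_fuse48] at hfuse
    exact hstep.trans hfuse.symm

theorem sqNorm_vMinus : sqNorm ((vMinus : leechLattice) : GolayPt → ℤ) = 32 := by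
  rw [vMinus_coe]; decide +kernel

/-- pairs of minimal vectors with inner product `-16`. -/
theorem co0_trans222 (v w w' : leechLattice) (hv : sqNorm (v : GolayPt → ℤ) = 32)
    (hw : sqNorm (w : GolayPt → ℤ) = 32) (hw' : sqNorm (w' : GolayPt → ℤ) = 32)
    (hd : dotInt (v : GolayPt → ℤ) (w : GolayPt → ℤ) = -16)
    (hd' : dotInt (v : GolayPt → ℤ) (w' : GolayPt → ℤ) = -16) :
    ∃ g : Co0, g • v = v ∧ g • w = w' := by
  obtain ⟨g0, hg0⟩ := co0_trans32 v vMinus hv sqNorm_vMinus
  have key : ∀ x : leechLattice, sqNorm (x : GolayPt → ℤ) = 32 →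
      dotInt (v : GolayPt → ℤ) (x : GolayPt → ℤ) = -16 →
      EqvH ((g0 • x : leechLattice) : GolayPt → ℤ) (shp {none} ∅) := by
    intro x hx hdx
    refine eqvH_rep222 (Subtype.coe_prop _) (by rw [co0_norm, hx]) ?_
    have h1 := co0_dot g0 v x
    rw [hg0, dot_vMinus, hdx] at h1
    omega
  obtain ⟨h, hh1, hh2⟩ := eqvH_iff.1 ((key w hw hd).trans (key w' hw' hd').symm)
  refine ⟨g0⁻¹ * h * g0, ?_, ?_⟩
  · rw [mul_smul, mul_smul, hg0, hh1, ← hg0, inv_smul_smul]
  · rw [mul_smul, mul_smul, hh2, inv_smul_smul]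

/-- pairs (norm 32, norm 48) with inner product `16`. -/
theorem co0_trans32_16 (z z' u u' : leechLattice) (hz : sqNorm (z : GolayPt → ℤ) = 32)
    (hz' : sqNorm (z' : GolayPt → ℤ) = 32)
    (hu : sqNorm (u : GolayPt → ℤ) = 48) (hu' : sqNorm (u' : GolayPt → ℤ) = 48)
    (hd : dotInt (z : GolayPt → ℤ) (u : GolayPt → ℤ) = 16)
    (hd' : dotInt (z' : GolayPt → ℤ) (u' : GolayPt → ℤ) = 16) :
    ∃ g : Co0, g • z = z' ∧ g • u = u' := by
  obtain ⟨g0, hg0⟩ := co0_trans32 z vMinus hz sqNorm_vMinus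
  obtain ⟨g0', hg0'⟩ := co0_trans32 z' vMinus hz' sqNorm_vMinus
  have k1 : EqvH ((g0 • u : leechLattice) : GolayPt → ℤ) (shp ∅ {none}) := by
    refine eqvH_rep32 (Subtype.coe_prop _) (by rw [co0_norm, hu]) ?_
    have h1 := co0_dot g0 z u
    rw [hg0, dot_vMinus, hd] at h1
    omega
  have k2 : EqvH ((g0' • u' : leechLattice) : GolayPt → ℤ) (shp ∅ {none}) := by
    refine eqvH_rep32 (Subtype.coe_prop _) (by rw [co0_norm, hu']) ?_
    have h1 := co0_dot g0' z' u'
    rw [hg0', dot_vMinus, hd'] at h1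
    omega
  obtain ⟨h, hh1, hh2⟩ := eqvH_iff.1 (k1.trans k2.symm)
  refine ⟨g0'⁻¹ * h * g0, ?_, ?_⟩
  · rw [mul_smul, mul_smul, hg0, hh1, ← hg0', inv_smul_smul]
  · rw [mul_smul, mul_smul, hh2, inv_smul_smul]

end Cfsg.Agent.Lib.Helper28
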