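import Cfsg.Agent.Lib.Helper28.LeechCount2
import Cfsg.Agent.Lib.Helper28.LeechTriangles

/-!
Census of minimal vectors by inner product with a fixed minimal vector.
-/

set_option autoImplicit false

namespace Cfsg.Agent.Lib.Helper28

open Cfsg

theorem ncard_val (P : (GolayPt → ℤ) → Prop) :
    {w : GolayPt → ℤ | w ∈ leechLattice ∧ P w}.ncard = {w : leechLattice | P w}.ncard := by
  have : {w : GolayPt → ℤ | w ∈ leechLattice ∧ P w} = Subtype.val '' {w : leechLattice | P w} := by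
    ext w
    simp only [Set.mem_ofPred_eq, Set.mem_image, Subtype.exists, exists_and_right, exists_eq_right]
    constructor
    · rintro ⟨h1, h2⟩; exact ⟨h1, h2⟩
    · rintro ⟨h1, h2⟩; exact ⟨h1, h2⟩
  rw [this, Set.ncard_image_of_injective _ Subtype.val_injective]

theorem ncard_smul_congr (g : Co0) {Q Q' : leechLattice → Prop} (h : ∀ w, Q w ↔ Q' (g • w)) :
    {w | Q w}.ncard = {w | Q' w}.ncard := by
  have : {w | Q' w} = (fun w => g • w) '' {w | Q w} := by
    ext w
    constructor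
    · intro hw
      exact ⟨g⁻¹ • w, (h _).2 (by simpa using hw), by simp⟩
    · rintro ⟨u, hu, rfl⟩
      exact (h u).1 hu
  rw [this, Set.ncard_image_of_injective _ (MulAction.injective g)]

/-- the possible coordinates of a minimal vector. -/
noncomputable def A5 : Finset ℤ := Finset.Icc (-5) 5

theorem mem_A5_of_sqNorm_le {x : GolayPt → ℤ} (h : sqNorm x ≤ 35) (i : GolayPt) : x i ∈ A5 := by
  have := sq_le_sqNorm x i
  rw [A5, Finset.mem_Icc]; constructor <;> nlinarith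

theorem card_A5 : A5.card ^ 22 < 2 ^ 80 := by
  unfold A5; simp

/-- pairs with a given difference. -/
noncomputable def Pdiff (d : ℤ) : Finset (ℤ × ℤ) := (A5 ×ˢ A5).filter fun p => p.1 - p.2 = d

theorem census_vMinus (d : ℤ) :
    {w : GolayPt → ℤ | w ∈ leechLattice ∧ sqNorm w = 32 ∧
      dotInt ((vMinus : leechLattice) : GolayPt → ℤ) w = 4 * d}.ncard
      = ∑ p ∈ Pdiff d, leechCnt2 {p.1} {p.2} A5 hsq hsq hsq 32 (2 ^ 80) := by
  rw [← ncard_pairs (Pdiff d) (fun _ => 32) A5 hsq (2 ^ 80) card_A5 (by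
    intro p hp
    simp only [Pdiff, Finset.mem_filter, Finset.mem_product] at hp
    exact hp.1)]
  congr 1
  ext w
  simp only [Set.mem_ofPred_eq, dot_vMinus, Pdiff, Finset.mem_filter, Finset.mem_product]
  constructor
  · rintro ⟨h1, h2, h3⟩
    have hA := mem_A5_of_sqNorm_le (x := w) (by omega)
    refine ⟨h1, ⟨⟨hA _, hA _⟩, by omega⟩, hA, ?_⟩
    have := sum_hsq w
    rw [h2] at this
    exact_mod_cast this
  · rintro ⟨h1, ⟨_, h3⟩, _, h5⟩
    exact ⟨h1, by rw [← sum_hsq, h5]; rfl, by omega⟩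

theorem cen16 : ∑ p ∈ Pdiff (-4), leechCnt2 {p.1} {p.2} A5 hsq hsq hsq 32 (2 ^ 80) = 4600 := by
  decide +kernel

theorem cen8 : ∑ p ∈ Pdiff (-2), leechCnt2 {p.1} {p.2} A5 hsq hsq hsq 32 (2 ^ 80) = 47104 := by
  decide +kernel

theorem cen0 : ∑ p ∈ Pdiff 0, leechCnt2 {p.1} {p.2} A5 hsq hsq hsq 32 (2 ^ 80) = 93150 := by
  decide +kernel

/-- the census for an arbitrary minimal vector reduces to that for `vMinus`. -/
theorem census_transport (v : leechLattice) (hv : sqNorm (v : GolayPt → ℤ) = 32) (d : ℤ) :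
    {w : GolayPt → ℤ | w ∈ leechLattice ∧ sqNorm w = 32 ∧ dotInt (v : GolayPt → ℤ) w = d}.ncard =
    {w : GolayPt → ℤ | w ∈ leechLattice ∧ sqNorm w = 32 ∧
      dotInt ((vMinus : leechLattice) : GolayPt → ℤ) w = d}.ncard := by
  obtain ⟨g, hg⟩ := co0_trans32 v vMinus hv sqNorm_vMinus
  rw [ncard_val (fun w => sqNorm w = 32 ∧ dotInt (v : GolayPt → ℤ) w = d),
    ncard_val (fun w => sqNorm w = 32 ∧ dotInt ((vMinus : leechLattice) : GolayPt → ℤ) w = d)]
  apply ncard_smul_congr g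
  intro w
  rw [co0_norm, ← hg, co0_dot]

theorem census (v : leechLattice) (hv : sqNorm (v : GolayPt → ℤ) = 32) :
    {w : GolayPt → ℤ | w ∈ leechLattice ∧ sqNorm w = 32 ∧ dotInt (v : GolayPt → ℤ) w = -16}.ncard
      = 4600 ∧
    {w : GolayPt → ℤ | w ∈ leechLattice ∧ sqNorm w = 32 ∧ dotInt (v : GolayPt → ℤ) w = -8}.ncard
      = 47104 ∧
    {w : GolayPt → ℤ | w ∈ leechLattice ∧ sqNorm w = 32 ∧ dotInt (v : GolayPt → ℤ) w = 0}.ncard
      = 93150 := by
  refine ⟨?_, ?_, ?_⟩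
  · rw [census_transport v hv, ← cen16, ← census_vMinus]; rfl
  · rw [census_transport v hv, ← cen8, ← census_vMinus]; rfl
  · rw [census_transport v hv, ← cen0, ← census_vMinus]; rfl

end Cfsg.Agent.Lib.Helper28
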