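import Cfsg.Agent.Lib.Helper28.LeechCensus

/-!
Census of minimal vectors by inner product with the vector `(5, 1, ..., 1)` of norm 48.
-/

set_option autoImplicit false

namespace Cfsg.Agent.Lib.Helper28

open Cfsg

/-- the vector `(5, 1, ..., 1)`. -/
def u5 : leechLattice := ⟨shp ∅ {none}, shp48_mem⟩

theorem u5_coe : ((u5 : leechLattice) : GolayPt → ℤ) = shp ∅ {none} := rfl

theorem sqNorm_u5 : sqNorm ((u5 : leechLattice) : GolayPt → ℤ) = 48 := by
  rw [u5_coe]; decide +kernel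

theorem dot_u5 (x : GolayPt → ℤ) :
    dotInt ((u5 : leechLattice) : GolayPt → ℤ) x = 4 * x none + ∑ i, x i := by
  rw [u5_coe]
  unfold dotInt shp
  have h : ∀ i : GolayPt, (if i ∈ (∅ : Finset GolayPt) then (-3 : ℤ) else
      if i ∈ ({none} : Finset GolayPt) then 5 else 1) * x i
      = (if i = none then 4 * x none else 0) + x i := by
    intro i
    by_cases hi : i = none
    · subst hi; simp; ring
    · simp [hi]
  simp only [h, Finset.sum_add_distrib]
  simp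

/-- the weight recording the norm and the sum of the coordinates. -/
def h6 (v : ℤ) : ℕ := (6 * v ^ 2 + v).toNat

theorem h6_cast (v : ℤ) : (h6 v : ℤ) = 6 * v ^ 2 + v := by
  unfold h6
  have : 0 ≤ 6 * v ^ 2 + v := by nlinarith [sq_nonneg v, sq_nonneg (v + 1)]
  omega

theorem sum_h6 (x : GolayPt → ℤ) : ((∑ i, h6 (x i) : ℕ) : ℤ) = 6 * sqNorm x + ∑ i, x i := by
  push_cast
  simp only [h6_cast, Finset.sum_add_distrib, ← Finset.mul_sum]
  rfl

theorem sum_le_sqNorm (x : GolayPt → ℤ) : ∑ i, x i ≤ sqNorm x := by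
  unfold sqNorm
  refine Finset.sum_le_sum fun i _ => ?_
  nlinarith [sq_nonneg (x i), sq_nonneg (x i - 1)]

theorem neg_sqNorm_le_sum (x : GolayPt → ℤ) : -sqNorm x ≤ ∑ i, x i := by
  unfold sqNorm
  rw [← Finset.sum_neg_distrib]
  refine Finset.sum_le_sum fun i _ => ?_
  nlinarith [sq_nonneg (x i), sq_nonneg (x i + 1)]

/-- census with respect to `u5`, the first two coordinates being restricted to `P`. -/
theorem census_u5 (t : ℤ) (ht1 : -59 ≤ t) (ht2 : t ≤ 27) (P : Finset (ℤ × ℤ))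
    (hP : ∀ p ∈ P, p.1 ∈ A5 ∧ p.2 ∈ A5) :
    {x : GolayPt → ℤ | x ∈ leechLattice ∧ sqNorm x = 32 ∧
      dotInt ((u5 : leechLattice) : GolayPt → ℤ) x = t ∧ (x none, x (some 0)) ∈ P}.ncard
      = ∑ p ∈ P, leechCnt2 {p.1} {p.2} A5 h6 h6 h6 (192 + t - 4 * p.1).toNat (2 ^ 80) := by
  rw [← ncard_pairs P (fun p => (192 + t - 4 * p.1).toNat) A5 h6 (2 ^ 80) card_A5 hP]
  congr 1
  ext x
  simp only [Set.mem_ofPred_eq, dot_u5]
  constructor
  · rintro ⟨h1, h2, h3, h4⟩
    have hA := mem_A5_of_sqNorm_le (x := x) (by omega)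
    refine ⟨h1, h4, hA, ?_⟩
    have h5 := sum_h6 x
    have h6 := hA none
    rw [A5, Finset.mem_Icc] at h6
    omega
  · rintro ⟨h1, h4, hA, h5⟩
    have h6 := sum_h6 x
    have h7 := hA none
    rw [A5, Finset.mem_Icc] at h7
    have h8 := sum_le_sqNorm x
    have h9 := neg_sqNorm_le_sum x
    have h10 := sixteen_dvd_sqNorm h1
    have h11 : sqNorm x = 32 := by omega
    exact ⟨h1, h11, by omega, h4⟩

theorem cen3_24 : ∑ p ∈ A5 ×ˢ A5, leechCnt2 {p.1} {p.2} A5 h6 h6 h6 (192 + 24 - 4 * p.1).toNat (2 ^ 80)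
    = 552 := by decide +kernel

theorem cen3_16 : ∑ p ∈ A5 ×ˢ A5,
    leechCnt2 {p.1} {p.2} A5 h6 h6 h6 (192 + (-16) - 4 * p.1).toNat (2 ^ 80) = 11178 := by
  decide +kernel


theorem census_u5_all (t : ℤ) (ht1 : -59 ≤ t) (ht2 : t ≤ 27) :
    {x : leechLattice | sqNorm (x : GolayPt → ℤ) = 32 ∧
      dotInt ((u5 : leechLattice) : GolayPt → ℤ) (x : GolayPt → ℤ) = t}.ncard
      = ∑ p ∈ A5 ×ˢ A5, leechCnt2 {p.1} {p.2} A5 h6 h6 h6 (192 + t - 4 * p.1).toNat (2 ^ 80) := by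
  rw [← census_u5 t ht1 ht2 (A5 ×ˢ A5) (fun p hp => Finset.mem_product.1 hp),
    ← ncard_val (fun x => sqNorm x = 32 ∧ dotInt ((u5 : leechLattice) : GolayPt → ℤ) x = t)]
  congr 1
  ext x
  simp only [Set.mem_ofPred_eq]
  constructor
  · rintro ⟨h1, h2, h3⟩
    have hA := mem_A5_of_sqNorm_le (x := x) (by omega)
    exact ⟨h1, h2, h3, Finset.mem_product.2 ⟨hA _, hA _⟩⟩
  · rintro ⟨h1, h2, h3, _⟩
    exact ⟨h1, h2, h3⟩

/-- census with respect to an arbitrary vector of norm 48. -/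
theorem census48 (u : leechLattice) (hu : sqNorm (u : GolayPt → ℤ) = 48) (t : ℤ) :
    {x : leechLattice | sqNorm (x : GolayPt → ℤ) = 32 ∧
      dotInt (u : GolayPt → ℤ) (x : GolayPt → ℤ) = t}.ncard =
    {x : leechLattice | sqNorm (x : GolayPt → ℤ) = 32 ∧
      dotInt ((u5 : leechLattice) : GolayPt → ℤ) (x : GolayPt → ℤ) = t}.ncard := by
  obtain ⟨g, hg⟩ := co0_trans48 u u5 hu sqNorm_u5
  apply ncard_smul_congr g
  intro w
  rw [co0_norm, ← hg, co0_dot]

theorem census48_24 (u : leechLattice) (hu : sqNorm (u : GolayPt → ℤ) = 48) :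
    {x : leechLattice | sqNorm (x : GolayPt → ℤ) = 32 ∧
      dotInt (u : GolayPt → ℤ) (x : GolayPt → ℤ) = 24}.ncard = 552 := by
  rw [census48 u hu, census_u5_all 24 (by decide) (by decide)]
  exact cen3_24

theorem census48_16 (u : leechLattice) (hu : sqNorm (u : GolayPt → ℤ) = 48) :
    {x : leechLattice | sqNorm (x : GolayPt → ℤ) = 32 ∧
      dotInt (u : GolayPt → ℤ) (x : GolayPt → ℤ) = -16}.ncard = 11178 := by
  rw [census48 u hu, census_u5_all (-16) (by decide) (by decide)]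
  exact cen3_16

theorem dotInt_comm' (x y : GolayPt → ℤ) : dotInt x y = dotInt y x := by
  unfold dotInt
  exact Finset.sum_congr rfl fun i _ => mul_comm _ _

theorem dotInt_neg_left (x y : GolayPt → ℤ) : dotInt (-x) y = -dotInt x y := by
  unfold dotInt
  simp

end Cfsg.Agent.Lib.Helper28
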