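import Cfsg.Agent.Lib.Helper28.LeechMonomial
import Cfsg.Agent.Lib.Helper28.M24Pts

/-!
The centre of `Co0`, and an element whose square is `-1`.
-/

set_option autoImplicit false

namespace Cfsg.Agent.Lib.Helper28

open Cfsg
open scoped Pointwise

/-- the element `-1`. -/
def negCo0 : Co0 := signCo0 Finset.univ gc_univ

theorem negCo0_smul (v : leechLattice) : negCo0 • v = -v := by
  apply Subtype.ext
  funext k
  show ((signCo0 Finset.univ gc_univ • v : leechLattice) : GolayPt → ℤ) k = _
  rw [signCo0_smul]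
  simp

theorem co0_ext' {g g' : Co0} (h : ∀ v : leechLattice, g • v = g' • v) : g = g' :=
  co0_ext fun _ => h _

theorem negCo0_mem_center : negCo0 ∈ Subgroup.center Co0 := by
  rw [Subgroup.mem_center_iff]
  intro g
  apply co0_ext'
  intro v
  rw [mul_smul, mul_smul, negCo0_smul, negCo0_smul, co0_neg]

theorem negCo0_ne_one : negCo0 ≠ 1 := by
  intro h
  have h1 := congrArg (fun g : Co0 => g • E8 none) h
  simp only [negCo0_smul, one_smul] at h1
  exact E8_ne_neg none none h1.symm

theorem negCo0_mul_self : negCo0 * negCo0 = 1 := by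
  apply co0_ext'
  intro v
  rw [mul_smul, negCo0_smul, negCo0_smul, neg_neg, one_smul]

/-- words separating the points. -/
def sepList : List ℕ := B12 ++ B12.map (· ^^^ 16777215)

theorem sepList_isCode : ∀ b ∈ sepList, isCode b = true := by decide +kernel

theorem sepList_sep : ∀ i k : GolayPt, i ≠ k →
    ∃ b ∈ sepList, b.testBit (idx k) = true ∧ b.testBit (idx i) = false := by decide +kernel

theorem exists_sep {i k : GolayPt} (h : i ≠ k) : ∃ c ∈ GC, k ∈ c ∧ i ∉ c := by
  obtain ⟨b, hb, h1, h2⟩ := sepList_sep i k h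
  have hc := sepList_isCode b hb
  refine ⟨un b, ?_, mem_un.2 h1, fun h3 => ?_⟩
  · rw [mem_supports_iff, mk_un (isCode_lt hc)]; exact hc
  · rw [mem_un, h2] at h3; exact absurd h3 (by decide)

theorem signCo0_E8 {c : Finset GolayPt} (hc : c ∈ GC) {i : GolayPt} (hi : i ∉ c) :
    signCo0 c hc • E8 i = E8 i := by
  apply Subtype.ext
  funext k
  rw [signCo0_smul, E8_coe]
  by_cases hk : k ∈ c
  · have : k ≠ i := fun h => hi (h ▸ hk)
    rw [if_pos hk, Pi.single_eq_of_ne this, neg_zero]
  · rw [if_neg hk]

theorem permCo0_single {σ : Equiv.Perm GolayPt} (hσ : σ ∈ M24) (v : leechLattice) (i : GolayPt) (t : ℤ)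
    (hv : (v : GolayPt → ℤ) = Pi.single i t) :
    ((permCo0 σ hσ • v : leechLattice) : GolayPt → ℤ) = Pi.single (σ i) t := by
  funext k
  rw [permCo0_smul, hv]
  by_cases hk : k = σ i
  · subst hk; simp
  · have : σ.symm k ≠ i := by
      intro h; apply hk; rw [← h, Equiv.apply_symm_apply]
    rw [Pi.single_eq_of_ne hk, Pi.single_eq_of_ne this]

theorem sqNorm_single8' : ∀ k : GolayPt, sqNorm (Pi.single k 8 : GolayPt → ℤ) = 64 := by
  decide +kernel

theorem center_cases {z : Co0} (hz : z ∈ Subgroup.center Co0) : z = 1 ∨ z = negCo0 := by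
  rw [Subgroup.mem_center_iff] at hz
  have hsupp : ∀ i k, i ≠ k → ((z • E8 i : leechLattice) : GolayPt → ℤ) k = 0 := by
    intro i k hik
    obtain ⟨c, hc, hkc, hic⟩ := exists_sep hik
    have h1 : signCo0 c hc • (z • E8 i) = z • E8 i := by
      rw [← mul_smul, hz, mul_smul, signCo0_E8 hc hic]
    have h2 := congrFun (congrArg Subtype.val h1) k
    rw [signCo0_smul, if_pos hkc] at h2
    omega
  have hform : ∀ i, ((z • E8 i : leechLattice) : GolayPt → ℤ)
      = Pi.single i (((z • E8 i : leechLattice) : GolayPt → ℤ) i) := by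
    intro i
    funext k
    by_cases hk : k = i
    · subst hk; rw [Pi.single_eq_same]
    · rw [Pi.single_eq_of_ne hk, hsupp i k (Ne.symm hk)]
  have hval : ∀ i, ((z • E8 i : leechLattice) : GolayPt → ℤ) i = 8 ∨
      ((z • E8 i : leechLattice) : GolayPt → ℤ) i = -8 := by
    intro i
    have h1 := co0_norm z (E8 i)
    have h2 : sqNorm ((E8 i : leechLattice) : GolayPt → ℤ) = 64 := by
      rw [E8_coe]; exact sqNorm_single8' i
    rw [h2] at h1
    unfold sqNorm at h1
    rw [Finset.sum_eq_single i] at h1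
    · have h3 : (((z • E8 i : leechLattice) : GolayPt → ℤ) i - 8)
          * (((z • E8 i : leechLattice) : GolayPt → ℤ) i + 8) = 0 := by ring_nf; omega
      rcases mul_eq_zero.1 h3 with h | h
      · left; omega
      · right; omega
    · intro k _ hk; rw [hsupp i k (Ne.symm hk)]; simp
    · intro hk; exact absurd (Finset.mem_univ _) hk
  have hconst : ∀ i, ((z • E8 i : leechLattice) : GolayPt → ℤ) i
      = ((z • E8 none : leechLattice) : GolayPt → ℤ) none := by
    intro i
    obtain ⟨σ, hσ, hi⟩ := M24_trans1 none i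
    have h1 : permCo0 σ hσ • E8 none = E8 i := by
      apply Subtype.ext
      rw [permCo0_single hσ _ none 8 rfl, hi, E8_coe]
    have h2 : z • E8 i = permCo0 σ hσ • (z • E8 none) := by
      rw [← h1, ← mul_smul, ← mul_smul, hz]
    have h3 := permCo0_single hσ (z • E8 none) none _ (hform none)
    rw [← h2, hi] at h3
    have h4 := congrFun h3 i
    rwa [Pi.single_eq_same] at h4
  rcases hval none with h | h
  · left
    apply co0_ext
    intro i
    apply Subtype.ext
    rw [hform i, hconst i, h, one_smul, E8_coe]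
  · right
    apply co0_ext
    intro i
    apply Subtype.ext
    rw [hform i, hconst i, h, negCo0_smul, AddSubgroup.coe_neg, E8_coe, Pi.single_neg]

theorem card_center_Co0 : Nat.card (Subgroup.center Co0) = 2 := by
  rw [Nat.card_eq_two_iff]
  refine ⟨⟨1, Subgroup.one_mem _⟩, ⟨negCo0, negCo0_mem_center⟩, ?_, ?_⟩
  · intro h
    exact negCo0_ne_one (congrArg Subtype.val h).symm
  · ext ⟨z, hz⟩
    simp only [Set.mem_insert_iff, Set.mem_singleton_iff, Set.mem_univ, iff_true, Subtype.mk.injEq]
    exact center_cases hz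

theorem projInv_mem : projInv ∈ M24 := by
  rw [mem_M24_iff]
  decide +kernel

theorem qr_mem_GC : un 340831 ∈ GC := by
  rw [mem_supports_iff, mk_un (by decide)]
  decide +kernel

theorem projInv_swap : ∀ k : GolayPt, (k ∈ un 340831 ↔ projInv.symm k ∉ un 340831) ∧
    projInv.symm (projInv.symm k) = k := by decide +kernel

/-- an element with square `-1`. -/
def sqrtNeg : Co0 := signCo0 (un 340831) qr_mem_GC * permCo0 projInv projInv_mem

theorem sqrtNeg_sq : sqrtNeg * sqrtNeg = negCo0 := by
  apply co0_ext'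
  intro v
  apply Subtype.ext
  funext k
  rw [negCo0_smul, AddSubgroup.coe_neg, Pi.neg_apply]
  unfold sqrtNeg
  simp only [mul_smul]
  rw [signCo0_smul, permCo0_smul, signCo0_smul, permCo0_smul]
  obtain ⟨h1, h2⟩ := projInv_swap k
  rw [h2]
  by_cases hk : k ∈ un 340831
  · rw [if_pos hk, if_neg (h1.1 hk)]
  · have : projInv.symm k ∈ un 340831 := by
      by_contra h; exact hk (h1.2 h)
    rw [if_neg hk, if_pos this]

theorem no_complement (K : Subgroup Co0) : ¬ (Subgroup.zpowers negCo0).IsComplement' K := by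
  intro hK
  have hmul := Subgroup.IsComplement.mul_eq hK
  have hg : sqrtNeg ∈ ((Subgroup.zpowers negCo0 : Set Co0) * (K : Set Co0)) := by
    rw [hmul]; exact Set.mem_univ _
  obtain ⟨h, hh, k, hk, he⟩ := Set.mem_mul.1 hg
  have hcases : h = 1 ∨ h = negCo0 := by
    apply center_cases
    obtain ⟨j, rfl⟩ := Subgroup.mem_zpowers_iff.1 hh
    exact Subgroup.zpow_mem _ negCo0_mem_center j
  have hhh : h * h = 1 := by
    rcases hcases with rfl | rfl
    · simp
    · exact negCo0_mul_self
  have hcomm : k * h = h * k := by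
    have hc : h ∈ Subgroup.center Co0 := by
      rcases hcases with rfl | rfl
      · exact Subgroup.one_mem _
      · exact negCo0_mem_center
    exact (Subgroup.mem_center_iff.1 hc k)
  have hsq : negCo0 = k * k := by
    rw [← sqrtNeg_sq, ← he]
    calc h * k * (h * k) = h * (k * h) * k := by group
      _ = h * (h * k) * k := by rw [hcomm]
      _ = (h * h) * (k * k) := by group
      _ = k * k := by rw [hhh, one_mul]
  have hmem : negCo0 ∈ Subgroup.zpowers negCo0 ⊓ K :=
    ⟨Subgroup.mem_zpowers _, by rw [hsq]; exact K.mul_mem hk hk⟩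
  rw [hK.disjoint.eq_bot] at hmem
  exact negCo0_ne_one (Subgroup.mem_bot.1 hmem)

end Cfsg.Agent.Lib.Helper28
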