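import Mathlib

/-!
Conway's counting argument: classes of a lattice modulo twice the lattice and short vectors.
-/

set_option autoImplicit false

namespace Cfsg.Agent.Lib.Helper28

open Matrix

section orth

variable {ι : Type*} [Fintype ι] [DecidableEq ι]

theorem card_le_of_orth {I : Type*} [Fintype I] [DecidableEq I] (B : Matrix ι ι ℤ)
    (v : I → ι → ℤ) (d : ℤ) (hd : d ≠ 0)
    (h : ∀ i j, v i ⬝ᵥ B *ᵥ v j = if i = j then d else 0) : Fintype.card I ≤ Fintype.card ι := by
  have hli : LinearIndependent ℤ v := by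
    rw [Fintype.linearIndependent_iff]
    intro g hg j
    have h1 : (∑ i, g i • v i) ⬝ᵥ B *ᵥ v j = g j * d := by
      rw [sum_dotProduct]
      simp only [smul_dotProduct, h, smul_eq_mul, mul_ite, mul_zero]
      simp
    rw [hg, zero_dotProduct] at h1
    rcases mul_eq_zero.1 h1.symm with h2 | h2
    · exact h2
    · exact absurd h2 hd
  have := hli.fintype_card_le_finrank
  rwa [Module.finrank_fintype_fun_eq_card] at this

theorem card_le_two_mul (B : Matrix ι ι ℤ) (d : ℤ) (hd : d ≠ 0) (F : Finset (ι → ℤ))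
    (h1 : ∀ y ∈ F, y ⬝ᵥ B *ᵥ y = d)
    (h2 : ∀ y ∈ F, ∀ z ∈ F, y ≠ z → y = -z ∨ y ⬝ᵥ B *ᵥ z = 0) :
    F.card ≤ 2 * Fintype.card ι := by
  classical
  let f : (ι → ℤ) → Finset (ι → ℤ) := fun y => {y, -y}
  have hA : F.card ≤ 2 * (F.image f).card := by
    refine Finset.card_le_mul_card_image F 2 fun a ha => ?_
    obtain ⟨y, _, rfl⟩ := Finset.mem_image.1 ha
    refine le_trans (Finset.card_le_card (t := {y, -y}) ?_) Finset.card_le_two
    intro x hx
    have hx2 : f x = f y := (Finset.mem_filter.1 hx).2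
    have : x ∈ f x := by simp [f]
    rw [hx2] at this
    exact this
  have hB : (F.image f).card ≤ Fintype.card ι := by
    have hrep : ∀ t : {t // t ∈ F.image f}, ∃ y ∈ F, f y = t.1 := fun t => Finset.mem_image.1 t.2
    choose rep hrepF hrepf using hrep
    have := card_le_of_orth B rep d hd (fun i j => by
      by_cases hij : i = j
      · subst hij; simp [h1 _ (hrepF i)]
      · rw [if_neg hij]
        have hne : rep i ≠ rep j := by
          intro he
          apply hij
          apply Subtype.ext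
          rw [← hrepf i, ← hrepf j, he]
        rcases h2 _ (hrepF i) _ (hrepF j) hne with h3 | h3
        · exfalso
          apply hij
          apply Subtype.ext
          rw [← hrepf i, ← hrepf j, h3]
          simp only [f, neg_neg]
          exact Finset.pair_comm _ _
        · exact h3)
    rwa [Fintype.card_coe] at this
  omega

end orth

section classes

variable {α : Type*} [AddCommGroup α]

/-- doubling. -/
def dblHom (α : Type*) [AddCommGroup α] : α →+ α := zsmulAddGroupHom 2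

theorem dblHom_apply (x : α) : dblHom α x = (2 : ℤ) • x := rfl

/-- the hypotheses of the counting argument. -/
structure ShortData (L : AddSubgroup α) (N : α → ℤ) (u : ℤ) : Prop where
  upos : 0 < u
  par : ∀ x y, N (x + y) + N (x - y) = 2 * N x + 2 * N y
  min : ∀ x ∈ L, x ≠ 0 → 4 * u ≤ N x
  c4 : {x | x ∈ L ∧ N x = 4 * u}.ncard = 196560
  c6 : {x | x ∈ L ∧ N x = 6 * u}.ncard = 16773120
  c8 : {x | x ∈ L ∧ N x = 8 * u}.ncard = 398034000
  idx : (L.map (dblHom α)).relIndex L = 2 ^ 24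
  orth : ∀ F : Finset α, (∀ y ∈ F, y ∈ L ∧ N y = 8 * u) →
    (∀ y ∈ F, ∀ z ∈ F, y ≠ z → y = -z ∨ N (y - z) = 16 * u) → F.card ≤ 48

variable {L : AddSubgroup α} {N : α → ℤ} {u : ℤ}

namespace ShortData

variable (D : ShortData L N u)
include D

theorem N_zero : N 0 = 0 := by
  have := D.par 0 0
  simp only [add_zero, sub_zero] at this
  linarith

theorem N_two (z : α) : N ((2 : ℤ) • z) = 4 * N z := by
  have := D.par z z
  rw [sub_self, D.N_zero, ← two_smul ℤ z] at this
  linarith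

theorem N_neg (x : α) : N (-x) = N x := by
  have := D.par 0 x
  rw [zero_add, zero_sub, D.N_zero] at this
  linarith

theorem short {x y : α} (hx : x ∈ L) (hy : y ∈ L) (hxy : x ≠ y) (hxn : N x ≤ 8 * u)
    (hyn : N y ≤ 8 * u) (hc : ∃ z ∈ L, x - y = (2 : ℤ) • z) :
    x = -y ∨ (N x = 8 * u ∧ N y = 8 * u ∧ N (x - y) = 16 * u) := by
  obtain ⟨z, hz, hxyz⟩ := hc
  by_cases hneg : x = -y
  · exact Or.inl hneg
  · right
    have hz0 : z ≠ 0 := by
      rintro rfl
      apply hxy
      simpa [sub_eq_zero] using hxyz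
    have h1 := D.min z hz hz0
    have h2 : N (x - y) = 4 * N z := by rw [hxyz, D.N_two]
    have hw : x + y = (2 : ℤ) • (z + y) := by
      have : x = (2 : ℤ) • z + y := by rw [← hxyz]; abel
      rw [this]; simp only [two_smul]; abel
    have hw0 : z + y ≠ 0 := by
      intro h
      apply hneg
      rw [h] at hw
      simp only [smul_zero] at hw
      exact eq_neg_of_add_eq_zero_left hw
    have h3 := D.min _ (L.add_mem hz hy) hw0
    have h4 : N (x + y) = 4 * N (z + y) := by rw [hw, D.N_two]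
    have h5 := D.par x y
    refine ⟨?_, ?_, ?_⟩ <;> linarith

end ShortData

/-- the classes modulo twice the lattice. -/
abbrev ClassQ (L : AddSubgroup α) : Type _ := L ⧸ ((L.map (dblHom α)).addSubgroupOf L)

/-- the class of a vector. -/
noncomputable def cl (L : AddSubgroup α) (x : α) : ClassQ L := by
  classical exact if h : x ∈ L then QuotientAddGroup.mk ⟨x, h⟩ else 0

theorem cl_eq_iff {x y : α} (hx : x ∈ L) (hy : y ∈ L) :
    cl L x = cl L y ↔ ∃ z ∈ L, x - y = (2 : ℤ) • z := by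
  unfold cl
  rw [dif_pos hx, dif_pos hy, QuotientAddGroup.eq, AddSubgroup.mem_addSubgroupOf]
  simp only [AddSubgroup.coe_add, AddSubgroup.coe_neg, AddSubgroup.mem_map, dblHom_apply]
  constructor
  · rintro ⟨z, hz, he⟩
    refine ⟨-z, L.neg_mem hz, ?_⟩
    rw [smul_neg, he]; abel
  · rintro ⟨z, hz, he⟩
    refine ⟨-z, L.neg_mem hz, ?_⟩
    rw [smul_neg, ← he]; abel

namespace ShortData

variable (D : ShortData L N u)
include D

theorem main : (∀ x ∈ L, N x = 8 * u →
      {y | y ∈ L ∧ N y = 8 * u ∧ ∃ z ∈ L, x - y = (2 : ℤ) • z}.ncard = 48) ∧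
    ∀ x ∈ L, ∃ y ∈ L, (y = 0 ∨ N y = 4 * u ∨ N y = 6 * u ∨ N y = 8 * u) ∧
      ∃ z ∈ L, x - y = (2 : ℤ) • z := by
  classical
  have hu := D.upos
  have hcardQ : Nat.card (ClassQ L) = 2 ^ 24 := D.idx
  have : Finite (ClassQ L) := Nat.finite_of_card_ne_zero (by rw [hcardQ]; positivity)
  have : Fintype (ClassQ L) := Fintype.ofFinite _
  have hf4 : {x | x ∈ L ∧ N x = 4 * u}.Finite := Set.finite_of_ncard_ne_zero (by rw [D.c4]; decide)
  have hf6 : {x | x ∈ L ∧ N x = 6 * u}.Finite := Set.finite_of_ncard_ne_zero (by rw [D.c6]; decide)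
  have hf8 : {x | x ∈ L ∧ N x = 8 * u}.Finite := Set.finite_of_ncard_ne_zero (by rw [D.c8]; decide)
  set S4 := hf4.toFinset with hS4
  set S6 := hf6.toFinset with hS6
  set S8 := hf8.toFinset with hS8
  have m4 : ∀ x, x ∈ S4 ↔ x ∈ L ∧ N x = 4 * u := fun x => by simp [hS4]
  have m6 : ∀ x, x ∈ S6 ↔ x ∈ L ∧ N x = 6 * u := fun x => by simp [hS6]
  have m8 : ∀ x, x ∈ S8 ↔ x ∈ L ∧ N x = 8 * u := fun x => by simp [hS8]
  have c4 : S4.card = 196560 := by rw [← D.c4, Set.ncard_eq_toFinset_card _ hf4]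
  have c6 : S6.card = 16773120 := by rw [← D.c6, Set.ncard_eq_toFinset_card _ hf6]
  have c8 : S8.card = 398034000 := by rw [← D.c8, Set.ncard_eq_toFinset_card _ hf8]
  -- fibres
  have fib2 : ∀ (S : Finset α) (k : ℤ), k < 8 → (∀ x, x ∈ S ↔ x ∈ L ∧ N x = k * u) →
      S.card ≤ 2 * (S.image (cl L)).card := by
    intro S k hk hS
    refine Finset.card_le_mul_card_image S 2 fun a ha => ?_
    obtain ⟨y, hy, rfl⟩ := Finset.mem_image.1 ha
    refine le_trans (Finset.card_le_card (t := {y, -y}) ?_) Finset.card_le_two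
    intro x hx
    obtain ⟨hxS, hxy⟩ := Finset.mem_filter.1 hx
    have hx' := (hS x).1 hxS
    have hy' := (hS y).1 hy
    by_cases he : x = y
    · simp [he]
    · rcases D.short hx'.1 hy'.1 he (by rw [hx'.2]; nlinarith) (by rw [hy'.2]; nlinarith)
        ((cl_eq_iff hx'.1 hy'.1).1 hxy) with h | h
      · simp [h]
      · exfalso
        have := h.1
        rw [hx'.2] at this
        nlinarith
  have fib48 : ∀ a ∈ S8.image (cl L), (S8.filter fun x => cl L x = a).card ≤ 48 := by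
    intro a _
    refine D.orth _ (fun y hy => (m8 y).1 (Finset.mem_filter.1 hy).1) ?_
    intro y hy z hz hyz
    obtain ⟨hyS, hya⟩ := Finset.mem_filter.1 hy
    obtain ⟨hzS, hza⟩ := Finset.mem_filter.1 hz
    have hy' := (m8 y).1 hyS
    have hz' := (m8 z).1 hzS
    rcases D.short hy'.1 hz'.1 hyz (le_of_eq hy'.2) (le_of_eq hz'.2)
      ((cl_eq_iff hy'.1 hz'.1).1 (hya.trans hza.symm)) with h | h
    · exact Or.inl h
    · exact Or.inr h.2.2
  have b4 := fib2 S4 4 (by norm_num) m4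
  have b6 := fib2 S6 6 (by norm_num) m6
  have b8 := Finset.card_le_mul_card_image S8 48 fib48
  -- disjointness
  have disj : ∀ (x y : α), x ∈ L → y ∈ L → N x ≤ 8 * u → N y ≤ 8 * u → N x ≠ N y →
      cl L x ≠ cl L y := by
    intro x y hx hy hxn hyn hne he
    have hxy : x ≠ y := fun h => hne (by rw [h])
    rcases D.short hx hy hxy hxn hyn ((cl_eq_iff hx hy).1 he) with h | h
    · apply hne; rw [h, D.N_neg]
    · apply hne; rw [h.1, h.2.1]
  have disjI : ∀ (S T : Finset α) (k l : ℤ), k ≤ 8 → l ≤ 8 → k ≠ l →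
      (∀ x ∈ S, x ∈ L ∧ N x = k * u) → (∀ x ∈ T, x ∈ L ∧ N x = l * u) →
      Disjoint (S.image (cl L)) (T.image (cl L)) := by
    intro S T k l hk hl hkl hS hT
    rw [Finset.disjoint_left]
    intro a ha hb
    obtain ⟨x, hx, rfl⟩ := Finset.mem_image.1 ha
    obtain ⟨y, hy, hxy⟩ := Finset.mem_image.1 hb
    have hx' := hS x hx
    have hy' := hT y hy
    refine disj y x hy'.1 hx'.1 (by rw [hy'.2]; nlinarith) (by rw [hx'.2]; nlinarith) ?_ hxy
    rw [hx'.2, hy'.2]
    intro h
    exact hkl (mul_right_cancel₀ (ne_of_gt hu) h).symm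
  have m0 : ∀ x ∈ ({0} : Finset α), x ∈ L ∧ N x = 0 * u := by
    intro x hx
    rw [Finset.mem_singleton.1 hx, D.N_zero, zero_mul]
    exact ⟨L.zero_mem, rfl⟩
  have d04 := disjI {0} S4 0 4 (by norm_num) (by norm_num) (by norm_num) m0 (fun x hx => (m4 x).1 hx)
  have d06 := disjI {0} S6 0 6 (by norm_num) (by norm_num) (by norm_num) m0 (fun x hx => (m6 x).1 hx)
  have d08 := disjI {0} S8 0 8 (by norm_num) (by norm_num) (by norm_num) m0 (fun x hx => (m8 x).1 hx)
  have d46 := disjI S4 S6 4 6 (by norm_num) (by norm_num) (by norm_num) (fun x hx => (m4 x).1 hx)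
    (fun x hx => (m6 x).1 hx)
  have d48 := disjI S4 S8 4 8 (by norm_num) (by norm_num) (by norm_num) (fun x hx => (m4 x).1 hx)
    (fun x hx => (m8 x).1 hx)
  have d68 := disjI S6 S8 6 8 (by norm_num) (by norm_num) (by norm_num) (fun x hx => (m6 x).1 hx)
    (fun x hx => (m8 x).1 hx)
  set Q0 := ({0} : Finset α).image (cl L) with hQ0
  set Q4 := S4.image (cl L) with hQ4
  set Q6 := S6.image (cl L) with hQ6
  set Q8 := S8.image (cl L) with hQ8
  have cQ0 : Q0.card = 1 := by simp [hQ0]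
  have hU : (Q0 ∪ Q4 ∪ Q6 ∪ Q8).card = Q0.card + Q4.card + Q6.card + Q8.card := by
    rw [Finset.card_union_of_disjoint, Finset.card_union_of_disjoint,
      Finset.card_union_of_disjoint d04]
    · rw [Finset.disjoint_union_left]; exact ⟨d06, d46⟩
    · rw [Finset.disjoint_union_left, Finset.disjoint_union_left]; exact ⟨⟨d08, d48⟩, d68⟩
  have hle : (Q0 ∪ Q4 ∪ Q6 ∪ Q8).card ≤ 2 ^ 24 := by
    rw [← hcardQ, Nat.card_eq_fintype_card]; exact Finset.card_le_univ _
  have hQ8c : Q8.card = 8292375 := by omega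
  have hUc : (Q0 ∪ Q4 ∪ Q6 ∪ Q8).card = Fintype.card (ClassQ L) := by
    rw [← Nat.card_eq_fintype_card, hcardQ]; omega
  have hUniv : Q0 ∪ Q4 ∪ Q6 ∪ Q8 = Finset.univ := Finset.eq_univ_of_card _ hUc
  constructor
  · intro x hx hxn
    have hsum : ∑ a ∈ Q8, (S8.filter fun x => cl L x = a).card = ∑ _a ∈ Q8, 48 := by
      rw [← Finset.card_eq_sum_card_image, c8, Finset.sum_const, hQ8c]; rfl
    have heq := (Finset.sum_eq_sum_iff_of_le fib48).1 hsum (cl L x)
      (Finset.mem_image_of_mem _ ((m8 x).2 ⟨hx, hxn⟩))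
    rw [← heq, ← Set.ncard_coe_finset]
    congr 1
    ext y
    simp only [Set.mem_ofPred_eq, Finset.coe_filter, m8]
    constructor
    · rintro ⟨hy, hyn, hz⟩
      exact ⟨⟨hy, hyn⟩, ((cl_eq_iff hx hy).2 hz).symm⟩
    · rintro ⟨⟨hy, hyn⟩, hz⟩
      exact ⟨hy, hyn, (cl_eq_iff hx hy).1 hz.symm⟩
  · intro x hx
    have hmem : cl L x ∈ Q0 ∪ Q4 ∪ Q6 ∪ Q8 := by rw [hUniv]; exact Finset.mem_univ _
    simp only [Finset.mem_union, hQ0, hQ4, hQ6, hQ8, Finset.mem_image, Finset.mem_singleton] at hmem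
    rcases hmem with ((⟨y, hy, he⟩ | ⟨y, hy, he⟩) | ⟨y, hy, he⟩) | ⟨y, hy, he⟩
    · subst hy
      exact ⟨0, L.zero_mem, Or.inl rfl, (cl_eq_iff hx L.zero_mem).1 he.symm⟩
    · have hy' := (m4 y).1 hy
      exact ⟨y, hy'.1, Or.inr (Or.inl hy'.2), (cl_eq_iff hx hy'.1).1 he.symm⟩
    · have hy' := (m6 y).1 hy
      exact ⟨y, hy'.1, Or.inr (Or.inr (Or.inl hy'.2)), (cl_eq_iff hx hy'.1).1 he.symm⟩
    · have hy' := (m8 y).1 hy
      exact ⟨y, hy'.1, Or.inr (Or.inr (Or.inr hy'.2)), (cl_eq_iff hx hy'.1).1 he.symm⟩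

end ShortData

end classes

section dbl

variable (ι : Type*) [Fintype ι]

theorem ker_dblHom_pi : (dblHom (ι → ℤ)).ker = ⊥ := by
  rw [AddSubgroup.eq_bot_iff_forall]
  intro x hx
  rw [AddMonoidHom.mem_ker, dblHom_apply] at hx
  funext i
  have := congrFun hx i
  simp only [Pi.smul_apply, smul_eq_mul, Pi.zero_apply] at this ⊢
  omega

theorem index_range_dblHom_pi : (dblHom (ι → ℤ)).range.index = 2 ^ Fintype.card ι := by
  classical
  have hsurj : Function.Surjective ((Int.castAddHom (ZMod 2)).compLeft ι) := by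
    intro y
    choose f hf using fun i => ZMod.intCast_surjective (y i)
    exact ⟨f, funext hf⟩
  have hker : (dblHom (ι → ℤ)).range = ((Int.castAddHom (ZMod 2)).compLeft ι).ker := by
    ext x
    rw [AddMonoidHom.mem_ker, AddMonoidHom.mem_range, funext_iff]
    simp only [AddMonoidHom.compLeft_apply, Function.comp_apply, Int.coe_castAddHom, Pi.zero_apply,
      ZMod.intCast_zmod_eq_zero_iff_dvd, dblHom_apply]
    constructor
    · rintro ⟨y, rfl⟩ i
      simp
    · intro h
      refine ⟨fun i => x i / 2, ?_⟩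
      funext i
      have := h i
      simp only [Pi.smul_apply, smul_eq_mul]
      push_cast at this
      omega
  rw [hker, AddSubgroup.index_ker, AddMonoidHom.range_eq_top.2 hsurj,
    Nat.card_congr AddSubgroup.topEquiv.toEquiv, Nat.card_eq_fintype_card, Fintype.card_fun,
    ZMod.card]

theorem relIndex_dbl (L : AddSubgroup (ι → ℤ)) (hL : L.index ≠ 0) :
    (L.map (dblHom (ι → ℤ))).relIndex L = 2 ^ Fintype.card ι := by
  have hle : L.map (dblHom (ι → ℤ)) ≤ L := by
    rintro _ ⟨x, hx, rfl⟩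
    rw [dblHom_apply]
    exact L.zsmul_mem hx 2
  have h1 := AddSubgroup.relIndex_mul_index hle
  rw [AddSubgroup.index_map, ker_dblHom_pi, sup_bot_eq, index_range_dblHom_pi, mul_comm L.index] at h1
  exact Nat.eq_of_mul_eq_mul_right (Nat.pos_of_ne_zero hL) h1

end dbl

end Cfsg.Agent.Lib.Helper28
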