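import Cfsg.Agent.Lib.Helper28.LeechNorms
import Cfsg.Agent.Lib.Helper28.LeechIndex
import Cfsg.Agent.Lib.Helper28.ShortClasses
import Cfsg.Prelude.Def_SporadicCombinatorics

/-!
Classes of the lattice modulo twice the lattice.
-/

set_option autoImplicit false

namespace Cfsg.Agent.Lib.Helper28

open Cfsg Matrix

theorem dotInt_eq (x y : GolayPt → ℤ) : x ⬝ᵥ (1 : Matrix GolayPt GolayPt ℤ) *ᵥ y = dotInt x y := by
  rw [Matrix.one_mulVec]; rfl

theorem dotInt_self (x : GolayPt → ℤ) : dotInt x x = sqNorm x := by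
  unfold dotInt sqNorm; simp [sq]

theorem leechShort : ShortData leechLattice sqNorm 8 where
  upos := by norm_num
  par x y := by rw [sqNorm_add, sqNorm_sub]; ring
  min x hx h0 := by have := min_sqNorm hx h0; linarith
  c4 := by norm_num; exact ncard_norm32
  c6 := by norm_num; exact ncard_norm48
  c8 := by norm_num; exact ncard_norm64
  idx := by rw [relIndex_dbl GolayPt leechLattice (by rw [index_leech]; positivity), card_golayPt]
  orth F h1 h2 := by
    have := card_le_two_mul (1 : Matrix GolayPt GolayPt ℤ) 64 (by norm_num) F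
      (fun y hy => by rw [dotInt_eq, dotInt_self, (h1 y hy).2]; norm_num)
      (fun y hy z hz hyz => by
        rcases h2 y hy z hz hyz with h | h
        · exact Or.inl h
        · right
          rw [dotInt_eq]
          rw [sqNorm_sub, (h1 y hy).2, (h1 z hz).2] at h
          omega)
    rw [card_golayPt] at this; exact this

theorem two_zsmul_eq (z : GolayPt → ℤ) : (2 : ℤ) • z = 2 • z := by
  rw [two_smul, two_smul]

theorem ncard_cross {x : GolayPt → ℤ} (hx : x ∈ leechLattice) (hxn : sqNorm x = 64) :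
    (cross x).ncard = 48 := by
  have h := leechShort.main.1 x hx (by rw [hxn]; norm_num)
  rw [← h]
  congr 1
  ext y
  simp only [cross, Set.mem_ofPred_eq, hxn, two_zsmul_eq]
  norm_num

theorem exists_short_rep {x : GolayPt → ℤ} (hx : x ∈ leechLattice) :
    ∃ y ∈ leechLattice, sqNorm y ≤ 64 ∧ ∃ z ∈ leechLattice, x - y = 2 • z := by
  obtain ⟨y, hy, h1, z, hz, h2⟩ := leechShort.main.2 x hx
  refine ⟨y, hy, ?_, z, hz, by rw [h2, two_zsmul_eq]⟩
  rcases h1 with rfl | h | h | h
  · rw [sqNorm_eq_zero.2 rfl]; norm_num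
  all_goals rw [h]; norm_num

end Cfsg.Agent.Lib.Helper28
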