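import Cfsg.Agent.Lib.Helper28.LeechGen

/-!
Elements of `Co0`: coordinate permutations, sign changes, and the extra element `xi`.
-/

set_option autoImplicit false

namespace Cfsg.Agent.Lib.Helper28

open Cfsg Matrix

/-- an element of `Co0` from two mutually inverse maps. -/
def mkCo0 (f g : (GolayPt → ℤ) → (GolayPt → ℤ))
    (hf : ∀ x ∈ leechLattice, f x ∈ leechLattice) (hg : ∀ x ∈ leechLattice, g x ∈ leechLattice)
    (hgf : ∀ x ∈ leechLattice, g (f x) = x) (hfg : ∀ x ∈ leechLattice, f (g x) = x)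
    (hadd : ∀ x ∈ leechLattice, ∀ y ∈ leechLattice, f (x + y) = f x + f y)
    (hn : ∀ x ∈ leechLattice, sqNorm (f x) = sqNorm x) : Co0 :=
  ⟨{ toFun := fun v => ⟨f v, hf v v.2⟩
     invFun := fun v => ⟨g v, hg v v.2⟩
     left_inv := fun v => Subtype.ext (hgf v v.2)
     right_inv := fun v => Subtype.ext (hfg v v.2) },
   ⟨fun v w => Subtype.ext (hadd v v.2 w w.2), fun v => hn v v.2⟩⟩

theorem mkCo0_smul (f g : (GolayPt → ℤ) → (GolayPt → ℤ)) (hf hg hgf hfg hadd hn)
    (v : leechLattice) :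
    ((mkCo0 f g hf hg hgf hfg hadd hn • v : leechLattice) : GolayPt → ℤ) = f v := rfl

theorem co0_add (g : Co0) (v w : leechLattice) : g • (v + w) = g • v + g • w := g.2.1 v w

theorem co0_norm (g : Co0) (v : leechLattice) :
    sqNorm ((g • v : leechLattice) : GolayPt → ℤ) = sqNorm (v : GolayPt → ℤ) := g.2.2 v

/-- the coordinate permutation `x ↦ x ∘ σ⁻¹`. -/
def permCo0 (σ : Equiv.Perm GolayPt) (hσ : σ ∈ M24) : Co0 :=
  mkCo0 (fun x i => x (σ.symm i)) (fun x i => x (σ i))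
    (fun _ hx => leech_perm (σ := σ⁻¹) (M24.inv_mem hσ) hx) (fun _ hx => leech_perm hσ hx)
    (fun x _ => by funext i; simp) (fun x _ => by funext i; simp)
    (fun _ _ _ _ => rfl)
    (fun x _ => by unfold sqNorm; exact Equiv.sum_comp σ.symm (fun i => x i ^ 2))

theorem permCo0_smul (σ : Equiv.Perm GolayPt) (hσ : σ ∈ M24) (v : leechLattice) (i : GolayPt) :
    ((permCo0 σ hσ • v : leechLattice) : GolayPt → ℤ) i = (v : GolayPt → ℤ) (σ.symm i) := rfl

/-- the sign change on a code word. -/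
def signCo0 (c : Finset GolayPt) (hc : c ∈ GC) : Co0 :=
  mkCo0 (fun x i => if i ∈ c then -x i else x i) (fun x i => if i ∈ c then -x i else x i)
    (fun _ hx => leech_sign hc hx) (fun _ hx => leech_sign hc hx)
    (fun x _ => by funext i; by_cases h : i ∈ c <;> simp [h])
    (fun x _ => by funext i; by_cases h : i ∈ c <;> simp [h])
    (fun x _ y _ => by funext i; by_cases h : i ∈ c <;> simp [h]; ring)
    (fun x _ => by
      unfold sqNorm
      refine Finset.sum_congr rfl fun i _ => ?_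
      by_cases h : i ∈ c <;> simp [h])

theorem signCo0_smul (c : Finset GolayPt) (hc : c ∈ GC) (v : leechLattice) (i : GolayPt) :
    ((signCo0 c hc • v : leechLattice) : GolayPt → ℤ) i
      = if i ∈ c then -(v : GolayPt → ℤ) i else (v : GolayPt → ℤ) i := rfl

/-- the number of the tetrad of the standard sextet containing a point. -/
def tn (p : GolayPt) : ℕ :=
  [0, 0, 0, 1, 5, 1, 4, 4, 2, 3, 3, 2, 2, 5, 1, 3, 5, 1, 2, 4, 3, 4, 5, 0].getD (idx p) 0

/-- twice the matrix of `xi`. -/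
def xiM : Matrix GolayPt GolayPt ℤ := fun i j =>
  (if tn i = 0 then -1 else 1) * ((if i = j then 2 else 0) - (if tn i = tn j then 1 else 0))

theorem xiM_sq : xiM * xiM = 4 • (1 : Matrix GolayPt GolayPt ℤ) := by decide +kernel

theorem xiM_transpose : xiMᵀ = xiM := by decide +kernel

/-- test that `xiM *ᵥ x` is twice a vector of the lattice. -/
def xiGood (x : GolayPt → ℤ) : Bool :=
  decide (∀ i, (xiM *ᵥ x) i % 2 = 0) && inL (fun i => (xiM *ᵥ x) i / 2)

theorem xiGood_spec {x : GolayPt → ℤ} (h : xiGood x = true) :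
    ∃ z ∈ leechLattice, xiM *ᵥ x = (2 : ℤ) • z := by
  simp only [xiGood, Bool.and_eq_true, decide_eq_true_eq] at h
  refine ⟨_, mem_of_inL h.2, ?_⟩
  funext i
  have := h.1 i
  simp only [Pi.smul_apply, smul_eq_mul]
  omega

theorem xiGood_v0 : xiGood v0 = true := by decide +kernel

theorem xiGood_B12 : ∀ b ∈ B12, xiGood (fun i => 2 * chi (un b) i) = true := by decide +kernel

theorem xiGood_diff : ∀ i : GolayPt, xiGood (Pi.single i 4 - Pi.single none 4) = true := by
  decide +kernel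

theorem xiGood_eight : xiGood (Pi.single none 8) = true := by decide +kernel

theorem xiM_maps {x : GolayPt → ℤ} (hx : x ∈ leechLattice) :
    ∃ z ∈ leechLattice, xiM *ᵥ x = (2 : ℤ) • z := by
  have h : leechLattice ≤ (AddSubgroup.map (zsmulAddGroupHom 2) leechLattice).comap
      (xiM.mulVecLin.toAddMonoidHom) := by
    refine le_trans leech_le_closure ((AddSubgroup.closure_le _).2 ?_)
    have key : ∀ y : GolayPt → ℤ, xiGood y = true → y ∈ ((AddSubgroup.map (zsmulAddGroupHom 2)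
        leechLattice).comap (xiM.mulVecLin.toAddMonoidHom) : Set (GolayPt → ℤ)) := by
      intro y hy
      obtain ⟨z, hz, he⟩ := xiGood_spec hy
      exact ⟨z, hz, he.symm⟩
    rintro y (rfl | ⟨b, hb, rfl⟩ | ⟨i, rfl⟩ | rfl)
    · exact key _ xiGood_v0
    · exact key _ (xiGood_B12 b hb)
    · exact key _ (xiGood_diff i)
    · exact key _ xiGood_eight
  obtain ⟨z, hz, he⟩ := h hx
  exact ⟨z, hz, he.symm⟩

/-- the map `xi` on vectors. -/
def xiF (x : GolayPt → ℤ) : GolayPt → ℤ := fun i => (xiM *ᵥ x) i / 2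

theorem two_cancel {a b : GolayPt → ℤ} (h : (2 : ℤ) • a = (2 : ℤ) • b) : a = b := by
  funext i
  have := congrFun h i
  simp only [Pi.smul_apply, smul_eq_mul] at this
  omega

theorem two_xiF {x : GolayPt → ℤ} (hx : x ∈ leechLattice) : (2 : ℤ) • xiF x = xiM *ᵥ x := by
  obtain ⟨z, _, he⟩ := xiM_maps hx
  funext i
  have := congrFun he i
  simp only [Pi.smul_apply, smul_eq_mul, xiF] at this ⊢
  omega

theorem xiF_mem {x : GolayPt → ℤ} (hx : x ∈ leechLattice) : xiF x ∈ leechLattice := by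
  obtain ⟨z, hz, he⟩ := xiM_maps hx
  have : xiF x = z := two_cancel (by rw [two_xiF hx, he])
  rw [this]; exact hz

theorem xiF_xiF {x : GolayPt → ℤ} (hx : x ∈ leechLattice) : xiF (xiF x) = x := by
  apply two_cancel
  apply two_cancel
  rw [two_xiF (xiF_mem hx), ← Matrix.mulVec_smul, two_xiF hx, Matrix.mulVec_mulVec, xiM_sq]
  funext i
  simp
  ring

theorem xiF_add {x y : GolayPt → ℤ} (hx : x ∈ leechLattice) (hy : y ∈ leechLattice) :
    xiF (x + y) = xiF x + xiF y := by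
  apply two_cancel
  rw [two_xiF (leechLattice.add_mem hx hy), smul_add, two_xiF hx, two_xiF hy, Matrix.mulVec_add]

theorem sqNorm_eq_dot (x : GolayPt → ℤ) : sqNorm x = x ⬝ᵥ x := by
  unfold sqNorm dotProduct; simp [sq]

theorem sqNorm_xiM (x : GolayPt → ℤ) : sqNorm (xiM *ᵥ x) = 4 * sqNorm x := by
  rw [sqNorm_eq_dot, sqNorm_eq_dot, Matrix.dotProduct_mulVec, ← Matrix.mulVec_transpose,
    xiM_transpose, Matrix.mulVec_mulVec, xiM_sq, Matrix.smul_mulVec, Matrix.one_mulVec,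
    smul_dotProduct]
  simp

theorem sqNorm_xiF {x : GolayPt → ℤ} (hx : x ∈ leechLattice) : sqNorm (xiF x) = sqNorm x := by
  have h1 := sqNorm_xiM x
  rw [← two_xiF hx] at h1
  have h2 : sqNorm ((2 : ℤ) • xiF x) = 4 * sqNorm (xiF x) := by
    have : (2 : ℤ) • xiF x = 2 • xiF x := by rw [two_smul, two_smul]
    rw [this, sqNorm_two_smul]
  omega

/-- the extra element of `Co0`. -/
def xiCo0 : Co0 :=
  mkCo0 xiF xiF (fun _ hx => xiF_mem hx) (fun _ hx => xiF_mem hx) (fun _ hx => xiF_xiF hx)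
    (fun _ hx => xiF_xiF hx) (fun _ hx _ hy => xiF_add hx hy) (fun _ hx => sqNorm_xiF hx)

theorem xiCo0_smul (v : leechLattice) :
    ((xiCo0 • v : leechLattice) : GolayPt → ℤ) = xiF v := rfl

theorem xiM_mulVec (x : GolayPt → ℤ) (i : GolayPt) : (xiM *ᵥ x) i =
    (if tn i = 0 then -1 else 1) * (2 * x i - ∑ j ∈ Finset.univ.filter (fun j => tn i = tn j), x j) := by
  show ∑ j, xiM i j * x j = _
  unfold xiM
  rw [Finset.sum_filter]
  have h1 : ∀ j, (if tn i = 0 then (-1 : ℤ) else 1) * ((if i = j then 2 else 0)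
      - (if tn i = tn j then 1 else 0)) * x j
      = (if tn i = 0 then (-1 : ℤ) else 1) * ((if i = j then 2 * x j else 0)
      - (if tn i = tn j then x j else 0)) := by
    intro j
    by_cases h : tn i = tn j <;> by_cases h' : i = j <;> simp [h, h'] <;> ring_nf
  simp only [h1]
  rw [← Finset.mul_sum, Finset.sum_sub_distrib]
  simp

/-- equivalence of vectors under `Co0`. -/
def Eqv (x y : GolayPt → ℤ) : Prop :=
  ∃ (g : Co0) (hx : x ∈ leechLattice), ((g • (⟨x, hx⟩ : leechLattice) : leechLattice) : GolayPt → ℤ) = y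

theorem Eqv.mem_left {x y : GolayPt → ℤ} (h : Eqv x y) : x ∈ leechLattice := by
  obtain ⟨_, hx, _⟩ := h
  exact hx

theorem Eqv.mem_right {x y : GolayPt → ℤ} (h : Eqv x y) : y ∈ leechLattice := by
  obtain ⟨g, hx, rfl⟩ := h
  exact Subtype.coe_prop _

theorem Eqv.refl {x : GolayPt → ℤ} (hx : x ∈ leechLattice) : Eqv x x := ⟨1, hx, by simp⟩

theorem Eqv.trans {x y z : GolayPt → ℤ} (h1 : Eqv x y) (h2 : Eqv y z) : Eqv x z := by
  obtain ⟨g, hx, rfl⟩ := h1
  obtain ⟨g', hy, rfl⟩ := h2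
  exact ⟨g' * g, hx, by rw [mul_smul]⟩

theorem Eqv.symm {x y : GolayPt → ℤ} (h : Eqv x y) : Eqv y x := by
  have hy := h.mem_right
  obtain ⟨g, hx, rfl⟩ := h
  exact ⟨g⁻¹, hy, by simp⟩

theorem Eqv.norm {x y : GolayPt → ℤ} (h : Eqv x y) : sqNorm y = sqNorm x := by
  obtain ⟨g, hx, rfl⟩ := h
  exact co0_norm g _

theorem eqv_perm {σ : Equiv.Perm GolayPt} (hσ : σ ∈ M24) {x : GolayPt → ℤ} (hx : x ∈ leechLattice) :
    Eqv x (fun i => x (σ.symm i)) := ⟨permCo0 σ hσ, hx, rfl⟩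

theorem eqv_sign {c : Finset GolayPt} (hc : c ∈ GC) {x : GolayPt → ℤ} (hx : x ∈ leechLattice) :
    Eqv x (fun i => if i ∈ c then -x i else x i) := ⟨signCo0 c hc, hx, rfl⟩

theorem eqv_xi {x : GolayPt → ℤ} (hx : x ∈ leechLattice) : Eqv x (xiF x) := ⟨xiCo0, hx, rfl⟩

theorem eqv_iff {v w : leechLattice} : Eqv (v : GolayPt → ℤ) (w : GolayPt → ℤ) ↔ ∃ g : Co0, g • v = w := by
  constructor
  · rintro ⟨g, _, h⟩
    exact ⟨g, Subtype.ext h⟩
  · rintro ⟨g, rfl⟩
    exact ⟨g, v.2, rfl⟩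

end Cfsg.Agent.Lib.Helper28
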