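import Cfsg.Agent.Lib.Helper28.LeechBasic
import Cfsg.Agent.Lib.Helper28.CountTool

/-!
Counting vectors of the lattice with prescribed total weight (for instance norm).
-/

set_option autoImplicit false

namespace Cfsg.Agent.Lib.Helper28

open Cfsg Polynomial

/-- the bit of weight 4 of an integer. -/
def tbit (v : ℤ) : ℕ := (v / 4 % 2).toNat

theorem tbit_cast (v : ℤ) : (tbit v : ℤ) = v / 4 % 2 := by unfold tbit; omega

theorem tbit_le (v : ℤ) : tbit v ≤ 1 := by unfold tbit; omega

theorem sum_tbit_mod (x : GolayPt → ℤ) :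
    ((∑ i, tbit (x i) : ℕ) : ℤ) % 2 = (∑ i, x i / 4) % 2 := by
  push_cast
  simp only [tbit_cast]
  rw [← Finset.sum_int_mod]

theorem chi_cases (c : Finset GolayPt) (i : GolayPt) : chi c i = 0 ∨ chi c i = 1 := by
  unfold chi; split <;> simp

theorem mem_leech_iff' {x : GolayPt → ℤ} : x ∈ leechLattice ↔
    ∃ m : ℕ, m < 2 ∧ ∃ c ∈ GC, (∀ i, x i % 4 = m + 2 * chi c i) ∧ (∑ i, tbit (x i)) % 2 = m := by
  rw [mem_leech_iff]
  constructor
  · rintro ⟨m, hm, c, hc, b, hb, hs⟩
    refine ⟨m.toNat, by omega, c, hc, fun i => ?_, ?_⟩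
    · have h4 := chi_cases c i
      have := hb i
      omega
    · have h1 : ∀ i, x i / 4 = b i := fun i => by
        have h4 := chi_cases c i
        have := hb i
        omega
      have h2 := sum_tbit_mod x
      simp only [h1] at h2
      unfold Int.ModEq at hs
      omega
  · rintro ⟨m, hm, c, hc, hr, hs⟩
    refine ⟨m, by omega, c, hc, fun i => x i / 4, fun i => ?_, ?_⟩
    · show x i = ↑m + 2 * chi c i + 4 * (x i / 4)
      have := hr i; omega
    · show (∑ i, x i / 4) ≡ m [ZMOD 2]
      have h2 := sum_tbit_mod x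
      unfold Int.ModEq; omega

/-- the supports of the code words, as a finset. -/
def GCfin : Finset (Finset GolayPt) := (Finset.range 4096).image fun a => un (enc B12 a)

theorem mem_GCfin {c : Finset GolayPt} : c ∈ GCfin ↔ c ∈ GC := by
  rw [mem_supports_iff]
  simp only [GCfin, Finset.mem_image, Finset.mem_range]
  constructor
  · rintro ⟨a, ha, rfl⟩
    rw [mk_un (enc_facts a ha).2.1]; exact isCode_enc ha
  · intro h
    exact ⟨mk c % 4096, Nat.mod_lt _ (by decide), by rw [isCode_iff.1 h, un_mk]⟩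

theorem card_info0 : (infoOfWeight 0).card = 1 := by decide +kernel
theorem card_info16 : (infoOfWeight 16).card = 759 := by decide +kernel
theorem card_info24 : (infoOfWeight 24).card = 1 := by decide +kernel

theorem sum_GCfin (F : ℕ → ℕ) :
    ∑ c ∈ GCfin, F c.card = F 0 + 759 * F 8 + 2576 * F 12 + 759 * F 16 + F 24 := by
  unfold GCfin
  rw [Finset.sum_image]
  · simp only [card_un]
    rw [← Finset.sum_fiberwise_of_maps_to (t := ({0, 8, 12, 16, 24} : Finset ℕ))
      (g := fun a => popc (enc B12 a))]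
    · have h : ∀ j, ∑ a ∈ Finset.range 4096 with popc (enc B12 a) = j, F (popc (enc B12 a))
          = (infoOfWeight j).card * F j := by
        intro j
        rw [Finset.sum_congr rfl (g := fun _ => F j)]
        · rw [Finset.sum_const]; rfl
        · intro a ha
          rw [(Finset.mem_filter.1 ha).2]
      simp only [h]
      rw [Finset.sum_insert (by decide), Finset.sum_insert (by decide), Finset.sum_insert (by decide),
        Finset.sum_insert (by decide), Finset.sum_singleton, card_info0, card_info8, card_info12,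
        card_info16, card_info24]
      ring
    · intro a ha
      have := (enc_facts a (Finset.mem_range.1 ha)).2.2
      simp only [Finset.mem_insert, Finset.mem_singleton]
      omega
  · intro a ha b hb h
    simp only [Finset.coe_range, Set.mem_Iio] at ha hb
    have h' : mk (un (enc B12 a)) = mk (un (enc B12 b)) := congrArg mk h
    rw [mk_un (enc_facts a ha).2.1, mk_un (enc_facts b hb).2.1] at h'
    rw [← (enc_facts a ha).1, ← (enc_facts b hb).1, h']

section general

variable (A : GolayPt → Finset ℤ) (h : GolayPt → ℤ → ℕ) (n : ℕ)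

/-- the values allowed at `i` for the vectors of type `(m, c)`. -/
def Vset (m : ℕ) (c : Finset GolayPt) (i : GolayPt) : Finset ℤ :=
  (A i).filter fun v => v % 4 = m + 2 * chi c i

/-- the combined weight. -/
def gw (i : GolayPt) (v : ℤ) : ℕ := 25 * h i v + tbit v

/-- the parities allowed. -/
def Jset (m : ℕ) : Finset ℕ := (Finset.range 25).filter fun j => j % 2 = m

/-- the vectors of type `(m, c)` to be counted. -/
def Fset (m : ℕ) (c : Finset GolayPt) : Finset (GolayPt → ℤ) :=
  (Fintype.piFinset (Vset A m c)).filter fun x =>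
    ∑ i, gw h i (x i) ∈ (Jset m).image fun j => 25 * n + j

theorem sum_tbit_le (x : GolayPt → ℤ) : ∑ i, tbit (x i) ≤ 24 := by
  have h1 : ∑ i, tbit (x i) ≤ ∑ _i : GolayPt, 1 := Finset.sum_le_sum fun i _ => tbit_le _
  simpa using h1

theorem mem_Fset {m : ℕ} {c : Finset GolayPt} {x : GolayPt → ℤ} : x ∈ Fset A h n m c ↔
    (∀ i, x i ∈ A i) ∧ (∀ i, x i % 4 = m + 2 * chi c i) ∧ ∑ i, h i (x i) = n ∧
      (∑ i, tbit (x i)) % 2 = m := by
  have h1 : ∑ i, gw h i (x i) = 25 * ∑ i, h i (x i) + ∑ i, tbit (x i) := by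
    unfold gw; rw [Finset.sum_add_distrib, Finset.mul_sum]
  have h2 := sum_tbit_le x
  unfold Fset
  rw [Finset.mem_filter, Fintype.mem_piFinset, h1]
  simp only [Vset, Finset.mem_filter, Finset.mem_image, Jset, Finset.mem_range]
  constructor
  · rintro ⟨h3, j, ⟨hj, hjm⟩, he⟩
    refine ⟨fun i => (h3 i).1, fun i => (h3 i).2, ?_, ?_⟩ <;> omega
  · rintro ⟨h3, h4, h5, h6⟩
    exact ⟨fun i => ⟨h3 i, h4 i⟩, ∑ i, tbit (x i), ⟨by omega, h6⟩, by omega⟩

theorem card_Fset (m : ℕ) (c : Finset GolayPt) : (Fset A h n m c).card =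
    ∑ j ∈ Jset m, (∏ i, ∑ v ∈ Vset A m c i, (X : ℕ[X]) ^ gw h i v).coeff (25 * n + j) := by
  unfold Fset
  rw [card_filter_mem_eq_sum, Finset.sum_image (by intro a _ b _ hab; simpa using hab)]
  refine Finset.sum_congr rfl fun j _ => ?_
  exact card_filter_piFinset_eq_coeff _ _ _

theorem ncard_leech_eq :
    {x : GolayPt → ℤ | x ∈ leechLattice ∧ (∀ i, x i ∈ A i) ∧ ∑ i, h i (x i) = n}.ncard
      = ∑ m ∈ Finset.range 2, ∑ c ∈ GCfin, (Fset A h n m c).card := by
  have hset : {x : GolayPt → ℤ | x ∈ leechLattice ∧ (∀ i, x i ∈ A i) ∧ ∑ i, h i (x i) = n}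
      = ↑((Finset.range 2 ×ˢ GCfin).biUnion fun p => Fset A h n p.1 p.2) := by
    ext x
    simp only [Set.mem_ofPred_eq, Finset.coe_biUnion, Set.mem_iUnion, Finset.mem_coe,
      Finset.mem_product, Finset.mem_range, mem_GCfin, mem_Fset, mem_leech_iff', Prod.exists,
      exists_prop]
    constructor
    · rintro ⟨⟨m, hm, c, hc, h1, h2⟩, h3, h4⟩
      exact ⟨m, c, ⟨hm, hc⟩, h3, h1, h4, h2⟩
    · rintro ⟨m, c, ⟨hm, hc⟩, h3, h1, h4, h2⟩
      exact ⟨⟨m, hm, c, hc, h1, h2⟩, h3, h4⟩
  rw [hset, Set.ncard_coe_finset, Finset.card_biUnion, Finset.sum_product]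
  rintro ⟨m, c⟩ _ ⟨m', c'⟩ _ hne
  rw [Function.onFun, Finset.disjoint_left]
  intro x hx hx'
  apply hne
  dsimp only at hx hx'
  have h1 := ((mem_Fset A h n).1 hx).2.1
  have h2 := ((mem_Fset A h n).1 hx').2.1
  have hm : m = m' := by
    have a1 := h1 none
    have a2 := h2 none
    have a3 := chi_cases c none
    have a4 := chi_cases c' none
    have b1 := ((mem_Fset A h n).1 hx).2.2.2
    have b2 := ((mem_Fset A h n).1 hx').2.2.2
    omega
  subst hm
  have hc : c = c' := by
    ext i
    have a1 := h1 i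
    have a2 := h2 i
    have e : chi c i = chi c' i := by omega
    unfold chi at e
    by_cases hi : i ∈ c <;> by_cases hi' : i ∈ c' <;> simp_all
  rw [hc]

end general

section uniform

variable (A : Finset ℤ) (h : ℤ → ℕ) (n : ℕ)

/-- the generating polynomial of the allowed values in a residue class. -/
noncomputable def Pol (r : ℤ) : ℕ[X] := ∑ v ∈ A.filter (fun v => v % 4 = r), X ^ (25 * h v + tbit v)

/-- its value. -/
def Ev (B : ℕ) (r : ℤ) : ℕ := ∑ v ∈ A.filter (fun v => v % 4 = r), B ^ (25 * h v + tbit v)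

theorem eval_Pol (B : ℕ) (r : ℤ) : (Pol A h r).eval B = Ev A h B r := by
  unfold Pol Ev
  rw [Polynomial.eval_finsetSum]
  simp

theorem Ev_one_le (r : ℤ) : Ev A h 1 r ≤ A.card := by
  unfold Ev
  simp only [one_pow, Finset.sum_const, smul_eq_mul, mul_one]
  exact Finset.card_filter_le _ _

theorem prod_uniform (m : ℕ) (c : Finset GolayPt) :
    ∏ i, ∑ v ∈ Vset (fun _ => A) m c i, (X : ℕ[X]) ^ gw (fun _ => h) i v
      = Pol A h (m + 2) ^ c.card * Pol A h m ^ (24 - c.card) := by
  have h1 : ∀ i, ∑ v ∈ Vset (fun _ => A) m c i, (X : ℕ[X]) ^ gw (fun _ => h) i v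
      = if i ∈ c then Pol A h (m + 2) else Pol A h m := by
    intro i
    unfold Vset gw Pol chi
    split <;> simp
  simp only [h1]
  rw [Finset.prod_ite, Finset.prod_const, Finset.prod_const]
  congr 2
  · congr 1; ext i; simp
  · have : (Finset.univ.filter fun i => ¬ i ∈ c) = cᶜ := by ext i; simp
    rw [this, Finset.card_compl, card_golayPt]

/-- the number of vectors of type `(m, c)` with `c` of weight `w`. -/
def cntW (B m w : ℕ) : ℕ :=
  ∑ j ∈ Jset m, Ev A h B (m + 2) ^ w * Ev A h B m ^ (24 - w) / B ^ (25 * n + j) % B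

theorem card_Fset_uniform (B : ℕ) (hB : A.card ^ 24 < B) (m : ℕ) (c : Finset GolayPt) :
    (Fset (fun _ => A) (fun _ => h) n m c).card = cntW A h n B m c.card := by
  rw [card_Fset, prod_uniform]
  unfold cntW
  refine Finset.sum_congr rfl fun j _ => ?_
  rw [coeff_eq_digit _ B]
  · simp only [Polynomial.eval_mul, Polynomial.eval_pow, eval_Pol]
  · simp only [Polynomial.eval_mul, Polynomial.eval_pow, eval_Pol]
    refine lt_of_le_of_lt ?_ hB
    have hc : c.card ≤ 24 := by
      have := Finset.card_le_univ c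
      rwa [card_golayPt] at this
    calc Ev A h 1 (m + 2) ^ c.card * Ev A h 1 m ^ (24 - c.card)
        ≤ A.card ^ c.card * A.card ^ (24 - c.card) :=
          Nat.mul_le_mul (Nat.pow_le_pow_left (Ev_one_le A h _) _)
            (Nat.pow_le_pow_left (Ev_one_le A h _) _)
      _ = A.card ^ 24 := by rw [← pow_add]; congr 1; omega

/-- the count, in computable form. -/
def leechCnt (B : ℕ) : ℕ :=
  ∑ m ∈ Finset.range 2, (cntW A h n B m 0 + 759 * cntW A h n B m 8 + 2576 * cntW A h n B m 12
    + 759 * cntW A h n B m 16 + cntW A h n B m 24)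

theorem ncard_leech_uniform (B : ℕ) (hB : A.card ^ 24 < B) :
    {x : GolayPt → ℤ | x ∈ leechLattice ∧ (∀ i, x i ∈ A) ∧ ∑ i, h (x i) = n}.ncard
      = leechCnt A h n B := by
  rw [ncard_leech_eq (fun _ => A) (fun _ => h) n]
  unfold leechCnt
  refine Finset.sum_congr rfl fun m _ => ?_
  simp only [card_Fset_uniform A h n B hB]
  exact sum_GCfin (cntW A h n B m)

end uniform

end Cfsg.Agent.Lib.Helper28
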