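import Cfsg.Agent.Lib.Helper28.LeechCount

/-!
Counting vectors of the lattice with two special coordinates.
-/

set_option autoImplicit false

namespace Cfsg.Agent.Lib.Helper28

open Cfsg Polynomial

theorem digit_mod (E B N k : ℕ) (hk : k < N) : E % B ^ N / B ^ k % B = E / B ^ k % B := by
  obtain ⟨d, rfl⟩ : ∃ d, N = k + (d + 1) := ⟨N - k - 1, by omega⟩
  rw [pow_add, Nat.mod_mul_right_div_self, pow_succ, Nat.mod_mul_left_mod]

/-- truncated power. -/
def tpow (M a : ℕ) : ℕ → ℕ
  | 0 => 1 % M
  | k + 1 => tpow M a k * a % M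

theorem tpow_eq (M a k : ℕ) : tpow M a k = a ^ k % M := by
  induction k with
  | zero => simp [tpow]
  | succ k ih => rw [tpow, ih, pow_succ, Nat.mod_mul_mod]

/-- truncated product. -/
def val2 (M e P2 P0 k1 k0 : ℕ) : ℕ := e % M * tpow M P2 k1 % M * tpow M P0 k0 % M

theorem val2_eq (M e P2 P0 k1 k0 : ℕ) : val2 M e P2 P0 k1 k0 = e * P2 ^ k1 * P0 ^ k0 % M := by
  unfold val2
  rw [tpow_eq, tpow_eq]
  simp [Nat.mul_mod]

/-- sum over a range of length a power of two, by halving. -/
def sumRange : ℕ → ℕ → (ℕ → ℕ) → ℕ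
  | 0, s, f => f s
  | k + 1, s, f => sumRange k s f + sumRange k (s + 2 ^ k) f

theorem sumRange_eq (k s : ℕ) (f : ℕ → ℕ) : sumRange k s f = ∑ a ∈ Finset.Ico s (s + 2 ^ k), f a := by
  induction k generalizing s with
  | zero => simp [sumRange]
  | succ k ih =>
    rw [sumRange, ih, ih, Finset.sum_Ico_consecutive _ (Nat.le_add_right _ _) (Nat.le_add_right _ _)]
    congr 2
    rw [pow_succ]; omega

/-- the slot of a code word: the two special bits and the weight. -/
def slot2 (a : ℕ) : ℕ :=
  enc B12 a / 8388608 % 2 + 2 * (enc B12 a % 2) + 4 * (popc (enc B12 a) / 4)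

/-- the histogram, as a number in base `8192`. -/
def hist2 : ℕ := sumRange 12 0 fun a => 8192 ^ slot2 a

theorem hist2_eq : hist2 = 8192 ^ 0 + 330 * 8192 ^ 8 + 176 * 8192 ^ 9 + 176 * 8192 ^ 10
    + 77 * 8192 ^ 11 + 616 * 8192 ^ 12 + 672 * 8192 ^ 13 + 672 * 8192 ^ 14 + 616 * 8192 ^ 15
    + 77 * 8192 ^ 16 + 176 * 8192 ^ 17 + 176 * 8192 ^ 18 + 330 * 8192 ^ 19 + 8192 ^ 27 := by
  decide +kernel


/-- the number of code words in a slot. -/
def nslot2 (s : ℕ) : ℕ := ((Finset.range 4096).filter fun a => slot2 a = s).card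

theorem nslot2_eq (s : ℕ) : nslot2 s = hist2 / 8192 ^ s % 8192 := by
  have h1 : hist2 = (∑ a ∈ Finset.range 4096, (X : ℕ[X]) ^ slot2 a).eval 8192 := by
    have h2 : Finset.Ico 0 (0 + 2 ^ 12) = Finset.range 4096 := by
      rw [Finset.range_eq_Ico]; norm_num
    rw [hist2, sumRange_eq, Polynomial.eval_finsetSum, h2]
    simp only [Polynomial.eval_pow, Polynomial.eval_X]
  rw [h1, ← coeff_eq_digit]
  · rw [Polynomial.finsetSum_coeff]
    simp only [Polynomial.coeff_X_pow]
    rw [nslot2, Finset.card_filter]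
    refine Finset.sum_congr rfl fun a _ => ?_
    by_cases h : slot2 a = s
    · simp [h]
    · simp [h, Ne.symm h]
  · rw [Polynomial.eval_finsetSum]
    simp

theorem slot2_lt : ∀ a ∈ Finset.range 4096, slot2 a ∈ Finset.range 28 := by
  intro a ha
  have h := (enc_facts a (Finset.mem_range.1 ha)).2.2
  rw [Finset.mem_range]
  unfold slot2
  omega

theorem sum_GCfin2 (F : Bool → Bool → ℕ → ℕ) :
    ∑ c ∈ GCfin, F (decide (none ∈ c)) (decide (some 0 ∈ c)) c.card =
      F false false 0 + 330 * F false false 8 + 176 * F true false 8 + 176 * F false true 8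
        + 77 * F true true 8 + 616 * F false false 12 + 672 * F true false 12
        + 672 * F false true 12 + 616 * F true true 12 + 77 * F false false 16
        + 176 * F true false 16 + 176 * F false true 16 + 330 * F true true 16
        + F true true 24 := by
  unfold GCfin
  rw [Finset.sum_image]
  · have h0 : ∀ a ∈ Finset.range 4096, F (decide (none ∈ un (enc B12 a)))
        (decide (some 0 ∈ un (enc B12 a))) (un (enc B12 a)).card =
        (fun s => F (decide (s % 2 = 1)) (decide (s / 2 % 2 = 1)) (4 * (s / 4))) (slot2 a) := by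
      intro a ha
      have h := (enc_facts a (Finset.mem_range.1 ha)).2.2
      rw [card_un]
      have e1 : decide ((none : GolayPt) ∈ un (enc B12 a)) = decide (slot2 a % 2 = 1) := by
        apply decide_eq_decide.2
        rw [mem_un]
        have : idx (none : GolayPt) = 23 := rfl
        rw [this, Nat.testBit_eq_decide_div_mod_eq, decide_eq_true_eq]
        unfold slot2
        norm_num
        omega
      have e2 : decide ((some 0 : GolayPt) ∈ un (enc B12 a)) = decide (slot2 a / 2 % 2 = 1) := by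
        apply decide_eq_decide.2
        rw [mem_un]
        have : idx (some 0 : GolayPt) = 0 := rfl
        rw [this, Nat.testBit_eq_decide_div_mod_eq, decide_eq_true_eq]
        unfold slot2
        norm_num
        omega
      have e3 : popc (enc B12 a) = 4 * (slot2 a / 4) := by
        unfold slot2
        omega
      rw [e1, e2]
      dsimp only
      rw [← e3]
    rw [Finset.sum_congr rfl h0]
    rw [← Finset.sum_fiberwise_of_maps_to (t := Finset.range 28) (g := slot2) slot2_lt]
    have h : ∀ k, ∑ a ∈ Finset.range 4096 with slot2 a = k,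
        (fun s => F (decide (s % 2 = 1)) (decide (s / 2 % 2 = 1)) (4 * (s / 4))) (slot2 a)
        = nslot2 k * F (decide (k % 2 = 1)) (decide (k / 2 % 2 = 1)) (4 * (k / 4)) := by
      intro k
      rw [Finset.sum_congr rfl
        (g := fun _ => F (decide (k % 2 = 1)) (decide (k / 2 % 2 = 1)) (4 * (k / 4)))]
      · rw [Finset.sum_const]; rfl
      · intro a ha
        rw [(Finset.mem_filter.1 ha).2]
    simp only [h, nslot2_eq, hist2_eq]
    simp only [Finset.sum_range_succ, Finset.sum_range_zero]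
    norm_num
  · intro a ha b hb h
    simp only [Finset.coe_range, Set.mem_Iio] at ha hb
    have h' : mk (un (enc B12 a)) = mk (un (enc B12 b)) := congrArg mk h
    rw [mk_un (enc_facts a ha).2.1, mk_un (enc_facts b hb).2.1] at h'
    rw [← (enc_facts a ha).1, ← (enc_facts b hb).1, h']


/-- a truth value as an integer. -/
def bz (b : Bool) : ℤ := if b then 1 else 0

/-- a truth value as a natural number. -/
def bn (b : Bool) : ℕ := if b then 1 else 0

theorem chi_eq_bz (c : Finset GolayPt) (i : GolayPt) : chi c i = bz (decide (i ∈ c)) := by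
  unfold chi bz
  by_cases h : i ∈ c <;> simp [h]

theorem card_sdiff_two (c : Finset GolayPt) : (c \ {none, some 0}).card =
    c.card - bn (decide (none ∈ c)) - bn (decide (some 0 ∈ c)) := by
  rw [Finset.card_sdiff]
  have : (({none, some 0} : Finset GolayPt) ∩ c).card
      = bn (decide (none ∈ c)) + bn (decide (some 0 ∈ c)) := by
    unfold bn
    by_cases h1 : (none : GolayPt) ∈ c <;> by_cases h2 : (some 0 : GolayPt) ∈ c
    · have : ({none, some 0} : Finset GolayPt) ∩ c = {none, some 0} := by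
        ext i; simp only [Finset.mem_inter, Finset.mem_insert, Finset.mem_singleton]
        constructor
        · exact fun h => h.1
        · rintro (rfl | rfl)
          · exact ⟨Or.inl rfl, h1⟩
          · exact ⟨Or.inr rfl, h2⟩
      rw [this]; simp [h1, h2]
    · have : ({none, some 0} : Finset GolayPt) ∩ c = {none} := by
        ext i; simp only [Finset.mem_inter, Finset.mem_insert, Finset.mem_singleton]
        constructor
        · rintro ⟨rfl | rfl, h⟩
          · rfl
          · exact absurd h h2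
        · rintro rfl
          exact ⟨Or.inl rfl, h1⟩
      rw [this]; simp [h1, h2]
    · have : ({none, some 0} : Finset GolayPt) ∩ c = {some 0} := by
        ext i; simp only [Finset.mem_inter, Finset.mem_insert, Finset.mem_singleton]
        constructor
        · rintro ⟨rfl | rfl, h⟩
          · exact absurd h h1
          · rfl
        · rintro rfl
          exact ⟨Or.inr rfl, h2⟩
      rw [this]; simp [h1, h2]
    · have : ({none, some 0} : Finset GolayPt) ∩ c = ∅ := by
        ext i; simp only [Finset.mem_inter, Finset.mem_insert, Finset.mem_singleton,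
          Finset.notMem_empty, iff_false]
        rintro ⟨rfl | rfl, h⟩
        · exact h1 h
        · exact h2 h
      rw [this]; simp [h1, h2]
  rw [this]; omega

theorem card_compl_two : ((Finset.univ : Finset GolayPt) \ {none, some 0}).card = 22 := by decide

section two

variable (A : GolayPt → Finset ℤ) (h : GolayPt → ℤ → ℕ) (A0 : Finset ℤ) (h0 : ℤ → ℕ) (n : ℕ)

theorem prod_two (hA : ∀ i, i ≠ none → i ≠ some 0 → A i = A0 ∧ h i = h0) (m : ℕ)
    (c : Finset GolayPt) :
    ∏ i, ∑ v ∈ Vset A m c i, (X : ℕ[X]) ^ gw h i v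
      = Pol (A none) (h none) (m + 2 * chi c none)
        * Pol (A (some 0)) (h (some 0)) (m + 2 * chi c (some 0))
        * Pol A0 h0 (m + 2) ^ (c \ {none, some 0}).card
        * Pol A0 h0 m ^ (22 - (c \ {none, some 0}).card) := by
  have h1 : ∀ i, ∑ v ∈ Vset A m c i, (X : ℕ[X]) ^ gw h i v = Pol (A i) (h i) (m + 2 * chi c i) :=
    fun i => rfl
  simp only [h1]
  rw [← Finset.prod_sdiff (Finset.subset_univ ({none, some 0} : Finset GolayPt)),
    Finset.prod_pair (by decide)]
  have h2 : ∀ i ∈ (Finset.univ : Finset GolayPt) \ {none, some 0},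
      Pol (A i) (h i) (m + 2 * chi c i) = if i ∈ c then Pol A0 h0 (m + 2) else Pol A0 h0 m := by
    intro i hi
    simp only [Finset.mem_sdiff, Finset.mem_univ, Finset.mem_insert, Finset.mem_singleton,
      true_and, not_or] at hi
    obtain ⟨e1, e2⟩ := hA i hi.1 hi.2
    rw [e1, e2]
    unfold chi
    split <;> simp
  rw [Finset.prod_congr rfl h2, Finset.prod_ite, Finset.prod_const, Finset.prod_const]
  have h3 : ((Finset.univ : Finset GolayPt) \ {none, some 0}).filter (fun i => i ∈ c)
      = c \ {none, some 0} := by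
    ext i; simp only [Finset.mem_filter, Finset.mem_sdiff, Finset.mem_univ, true_and]; tauto
  have h4 := Finset.card_filter_add_card_filter_not
    (s := (Finset.univ : Finset GolayPt) \ {none, some 0}) (fun i => i ∈ c)
  rw [h3, card_compl_two] at h4
  have h5 : (((Finset.univ : Finset GolayPt) \ {none, some 0}).filter (fun i => ¬ i ∈ c)).card
      = 22 - (c \ {none, some 0}).card := by omega
  rw [h3, h5]
  ring

/-- the number of vectors of type `(m, c)`, from the two special bits and the weight of `c`. -/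
def cnt2 (A1 A2 A0 : Finset ℤ) (h1 h2 h0 : ℤ → ℕ) (n B m : ℕ) (b1 b2 : Bool) (w : ℕ) : ℕ :=
  if Ev A1 h1 B (m + 2 * bz b1) * Ev A2 h2 B (m + 2 * bz b2) = 0 then 0 else
    ∑ j ∈ Jset m, val2 (B ^ (25 * n + 25))
      (Ev A1 h1 B (m + 2 * bz b1) * Ev A2 h2 B (m + 2 * bz b2))
      (Ev A0 h0 B (m + 2)) (Ev A0 h0 B m) (w - bn b1 - bn b2) (22 - (w - bn b1 - bn b2))
        / B ^ (25 * n + j) % B

theorem card_Fset_two (hA : ∀ i, i ≠ none → i ≠ some 0 → A i = A0 ∧ h i = h0) (B : ℕ)
    (hB : (A none).card * (A (some 0)).card * A0.card ^ 22 < B) (m : ℕ) (c : Finset GolayPt) :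
    (Fset A h n m c).card = cnt2 (A none) (A (some 0)) A0 (h none) (h (some 0)) h0 n B m
      (decide (none ∈ c)) (decide (some 0 ∈ c)) c.card := by
  rw [card_Fset, prod_two A h A0 h0 hA]
  have hk : (c \ {none, some 0}).card ≤ 22 := by
    rw [← card_compl_two]
    exact Finset.card_le_card (Finset.sdiff_subset_sdiff (Finset.subset_univ _) (le_refl _))
  have hd : ∀ j, (Pol (A none) (h none) (m + 2 * chi c none)
        * Pol (A (some 0)) (h (some 0)) (m + 2 * chi c (some 0))
        * Pol A0 h0 (m + 2) ^ (c \ {none, some 0}).card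
        * Pol A0 h0 m ^ (22 - (c \ {none, some 0}).card)).coeff j =
      Ev (A none) (h none) B (m + 2 * chi c none) * Ev (A (some 0)) (h (some 0)) B (m + 2 * chi c (some 0))
        * Ev A0 h0 B (m + 2) ^ (c \ {none, some 0}).card
        * Ev A0 h0 B m ^ (22 - (c \ {none, some 0}).card) / B ^ j % B := by
    intro j
    rw [coeff_eq_digit _ B]
    · simp only [Polynomial.eval_mul, Polynomial.eval_pow, eval_Pol]
    · simp only [Polynomial.eval_mul, Polynomial.eval_pow, eval_Pol]
      refine lt_of_le_of_lt ?_ hB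
      calc Ev (A none) (h none) 1 (m + 2 * chi c none) * Ev (A (some 0)) (h (some 0)) 1 (m + 2 * chi c (some 0))
            * Ev A0 h0 1 (m + 2) ^ (c \ {none, some 0}).card
            * Ev A0 h0 1 m ^ (22 - (c \ {none, some 0}).card)
          ≤ (A none).card * (A (some 0)).card * A0.card ^ (c \ {none, some 0}).card
            * A0.card ^ (22 - (c \ {none, some 0}).card) :=
            Nat.mul_le_mul (Nat.mul_le_mul (Nat.mul_le_mul (Ev_one_le _ _ _) (Ev_one_le _ _ _))
              (Nat.pow_le_pow_left (Ev_one_le _ _ _) _)) (Nat.pow_le_pow_left (Ev_one_le _ _ _) _)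
        _ = (A none).card * (A (some 0)).card * A0.card ^ 22 := by
            rw [mul_assoc, ← pow_add]; congr 2; omega
  simp only [hd]
  unfold cnt2
  rw [← chi_eq_bz, ← chi_eq_bz, ← card_sdiff_two]
  split_ifs with he
  · rw [he]; simp
  · refine Finset.sum_congr rfl fun j hj => ?_
    rw [val2_eq, digit_mod]
    have : j < 25 := by
      simp only [Jset, Finset.mem_filter, Finset.mem_range] at hj
      exact hj.1
    omega

/-- the count, in computable form. -/
def leechCnt2 (A1 A2 A0 : Finset ℤ) (h1 h2 h0 : ℤ → ℕ) (n B : ℕ) : ℕ :=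
  ∑ m ∈ Finset.range 2, (cnt2 A1 A2 A0 h1 h2 h0 n B m false false 0
    + 330 * cnt2 A1 A2 A0 h1 h2 h0 n B m false false 8
    + 176 * cnt2 A1 A2 A0 h1 h2 h0 n B m true false 8
    + 176 * cnt2 A1 A2 A0 h1 h2 h0 n B m false true 8
    + 77 * cnt2 A1 A2 A0 h1 h2 h0 n B m true true 8
    + 616 * cnt2 A1 A2 A0 h1 h2 h0 n B m false false 12
    + 672 * cnt2 A1 A2 A0 h1 h2 h0 n B m true false 12
    + 672 * cnt2 A1 A2 A0 h1 h2 h0 n B m false true 12
    + 616 * cnt2 A1 A2 A0 h1 h2 h0 n B m true true 12
    + 77 * cnt2 A1 A2 A0 h1 h2 h0 n B m false false 16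
    + 176 * cnt2 A1 A2 A0 h1 h2 h0 n B m true false 16
    + 176 * cnt2 A1 A2 A0 h1 h2 h0 n B m false true 16
    + 330 * cnt2 A1 A2 A0 h1 h2 h0 n B m true true 16
    + cnt2 A1 A2 A0 h1 h2 h0 n B m true true 24)

theorem ncard_leech_two (hA : ∀ i, i ≠ none → i ≠ some 0 → A i = A0 ∧ h i = h0) (B : ℕ)
    (hB : (A none).card * (A (some 0)).card * A0.card ^ 22 < B) :
    {x : GolayPt → ℤ | x ∈ leechLattice ∧ (∀ i, x i ∈ A i) ∧ ∑ i, h i (x i) = n}.ncard
      = leechCnt2 (A none) (A (some 0)) A0 (h none) (h (some 0)) h0 n B := by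
  rw [ncard_leech_eq A h n]
  unfold leechCnt2
  refine Finset.sum_congr rfl fun m _ => ?_
  simp only [card_Fset_two A h A0 h0 n hA B hB]
  exact sum_GCfin2 (cnt2 (A none) (A (some 0)) A0 (h none) (h (some 0)) h0 n B m)

end two

theorem ncard_fiber_sum {α κ : Type*} [DecidableEq κ] (T : Set α) (hT : T.Finite) (f : α → κ)
    (P : Finset κ) (hf : ∀ x ∈ T, f x ∈ P) :
    T.ncard = ∑ p ∈ P, {x | x ∈ T ∧ f x = p}.ncard := by
  classical
  rw [Set.ncard_eq_toFinset_card T hT,
    Finset.card_eq_sum_card_fiberwise (f := f) (t := P) (fun x hx => hf x (hT.mem_toFinset.1 hx))]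
  refine Finset.sum_congr rfl fun p _ => ?_
  rw [← Set.ncard_coe_finset]
  congr 1
  ext x
  simp

/-- the allowed values when the two special coordinates are prescribed. -/
def Afix (a b : ℤ) (A0 : Finset ℤ) : GolayPt → Finset ℤ :=
  fun i => if i = none then {a} else if i = some 0 then {b} else A0

theorem ncard_pairs (P : Finset (ℤ × ℤ)) (nn : ℤ × ℤ → ℕ) (A0 : Finset ℤ) (h0 : ℤ → ℕ) (B : ℕ)
    (hB : A0.card ^ 22 < B) (hP : ∀ p ∈ P, p.1 ∈ A0 ∧ p.2 ∈ A0) :
    {x : GolayPt → ℤ | x ∈ leechLattice ∧ (x none, x (some 0)) ∈ P ∧ (∀ i, x i ∈ A0) ∧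
      ∑ i, h0 (x i) = nn (x none, x (some 0))}.ncard
      = ∑ p ∈ P, leechCnt2 {p.1} {p.2} A0 h0 h0 h0 (nn p) B := by
  have hfin : {x : GolayPt → ℤ | x ∈ leechLattice ∧ (x none, x (some 0)) ∈ P ∧ (∀ i, x i ∈ A0) ∧
      ∑ i, h0 (x i) = nn (x none, x (some 0))}.Finite := by
    apply Set.Finite.subset (Fintype.piFinset fun _ : GolayPt => A0).finite_toSet
    intro x hx
    simp only [Finset.mem_coe, Fintype.mem_piFinset]
    exact hx.2.2.1
  rw [ncard_fiber_sum _ hfin (fun x => (x none, x (some 0))) P (fun x hx => hx.2.1)]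
  refine Finset.sum_congr rfl fun p hp => ?_
  have h1 := ncard_leech_two (Afix p.1 p.2 A0) (fun _ => h0) A0 h0 (nn p)
    (fun i hi1 hi2 => ⟨by simp [Afix, hi1, hi2], rfl⟩) B (by simpa [Afix] using hB)
  have e1 : Afix p.1 p.2 A0 none = {p.1} := by simp [Afix]
  have e2 : Afix p.1 p.2 A0 (some 0) = {p.2} := by simp [Afix]
  rw [e1, e2] at h1
  rw [← h1]
  congr 1
  ext x
  simp only [Set.mem_ofPred_eq]
  constructor
  · rintro ⟨⟨h2, _, h4, h5⟩, h6⟩
    rw [h6] at h5
    refine ⟨h2, fun i => ?_, h5⟩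
    have e3 : x none = p.1 := congrArg Prod.fst h6
    have e4 : x (some 0) = p.2 := congrArg Prod.snd h6
    unfold Afix
    split_ifs with c1 c2
    · rw [c1, e3]; simp
    · rw [c2, e4]; simp
    · exact h4 i
  · rintro ⟨h2, h3, h4⟩
    have e3 : x none = p.1 := by
      have := h3 none
      simpa [Afix] using this
    have e4 : x (some 0) = p.2 := by
      have := h3 (some 0)
      simpa [Afix] using this
    have e5 : (x none, x (some 0)) = p := by rw [e3, e4]
    refine ⟨⟨h2, by rw [e5]; exact hp, fun i => ?_, by rw [e5]; exact h4⟩, e5⟩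
    by_cases c1 : i = none
    · rw [c1, e3]; exact (hP p hp).1
    · by_cases c2 : i = some 0
      · rw [c2, e4]; exact (hP p hp).2
      · have := h3 i
        simpa [Afix, c1, c2] using this

end Cfsg.Agent.Lib.Helper28
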