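import Cfsg.Agent.Lib.Helper28.LeechMono

/-!
A finite generating set of the lattice, and a membership test for explicit vectors.
-/

set_option autoImplicit false

namespace Cfsg.Agent.Lib.Helper28

open Cfsg

/-- the vector `(-3, 1, ..., 1)`. -/
def v0 : GolayPt → ℤ := fun i => if i = none then -3 else 1

/-- generators of the lattice. -/
def genSet : Set (GolayPt → ℤ) :=
  {x | x = v0 ∨ (∃ b ∈ B12, x = fun i => 2 * chi (un b) i) ∨
    (∃ i : GolayPt, x = Pi.single i 4 - Pi.single none 4) ∨ x = Pi.single none 8}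

theorem fourfold_mem_closure {x : GolayPt → ℤ} (h4 : ∀ i, (4 : ℤ) ∣ x i) (h8 : (8 : ℤ) ∣ ∑ i, x i) :
    x ∈ AddSubgroup.closure genSet := by
  have e : x = ∑ i, (x i / 4) • ((Pi.single i 4 : GolayPt → ℤ) - Pi.single none 4)
      + ((∑ i, x i) / 8) • (Pi.single none 8 : GolayPt → ℤ) := by
    have h1 : ∀ i, (x i / 4) • ((Pi.single i 4 : GolayPt → ℤ) - Pi.single none 4)
        = Pi.single i (x i) - Pi.single none (x i) := by
      intro i
      have h := h4 i
      have e4 : x i / 4 * 4 = x i := by omega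
      rw [smul_sub, ← Pi.single_smul, ← Pi.single_smul, smul_eq_mul, e4]
    simp only [h1]
    rw [Finset.sum_sub_distrib, Finset.univ_sum_single, ← Pi.single_smul, smul_eq_mul]
    have e8 : (∑ i, x i) / 8 * 8 = ∑ i, x i := by omega
    rw [e8]
    have h2 : ∑ i, (Pi.single none (x i) : GolayPt → ℤ) = Pi.single none (∑ i, x i) := by
      funext k
      rw [Finset.sum_apply]
      by_cases hk : k = none
      · subst hk; simp
      · simp [hk]
    rw [h2]; abel
  rw [e]
  refine AddSubgroup.add_mem _ (AddSubgroup.sum_mem _ fun i _ => AddSubgroup.zsmul_mem _ ?_ _)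
    (AddSubgroup.zsmul_mem _ ?_ _)
  · exact AddSubgroup.subset_closure (Or.inr (Or.inr (Or.inl ⟨i, rfl⟩)))
  · exact AddSubgroup.subset_closure (Or.inr (Or.inr (Or.inr rfl)))

theorem two_chi_symmDiff (c d : Finset GolayPt) :
    (fun i => 2 * chi (symmDiff c d) i) = (fun i => 2 * chi c i) + (fun i => 2 * chi d i)
      - fun i => 4 * chi (c ∩ d) i := by
  funext i
  simp only [Pi.add_apply, Pi.sub_apply, chi, Finset.mem_symmDiff, Finset.mem_inter]
  by_cases h1 : i ∈ c <;> by_cases h2 : i ∈ d <;> simp [h1, h2]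

theorem two_chi_enc_mem (bs : List ℕ) (hbs : ∀ b ∈ bs, b ∈ B12) (a : ℕ) :
    isCode (enc bs a) = true ∧ (fun i => 2 * chi (un (enc bs a)) i) ∈ AddSubgroup.closure genSet := by
  induction bs generalizing a with
  | nil =>
    refine ⟨isCode_zero, ?_⟩
    have : (fun i => 2 * chi (un (enc [] a)) i) = 0 := by
      funext i; simp [enc, un_zero, chi]
    rw [this]; exact AddSubgroup.zero_mem _
  | cons b bs ih =>
    obtain ⟨h1, h2⟩ := ih (fun m hm => hbs m (List.mem_cons_of_mem _ hm)) (a / 2)
    have hb : isCode (if a % 2 = 1 then b else 0) = true ∧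
        (fun i => 2 * chi (un (if a % 2 = 1 then b else 0)) i) ∈ AddSubgroup.closure genSet := by
      split_ifs
      · exact ⟨isCode_B12 b (hbs b List.mem_cons_self),
          AddSubgroup.subset_closure (Or.inr (Or.inl ⟨b, hbs b List.mem_cons_self, rfl⟩))⟩
      · refine ⟨isCode_zero, ?_⟩
        have : (fun i => 2 * chi (un 0) i) = 0 := by
          funext i; simp [un_zero, chi]
        rw [this]; exact AddSubgroup.zero_mem _
    simp only [enc]
    refine ⟨isCode_xor hb.1 h1, ?_⟩
    rw [un_xor, two_chi_symmDiff]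
    refine AddSubgroup.sub_mem _ (AddSubgroup.add_mem _ hb.2 h2) (fourfold_mem_closure (fun i => ?_) ?_)
    · exact Dvd.intro _ rfl
    · rw [← Finset.mul_sum, sum_chi, ← un_land, card_un]
      obtain ⟨k, hk⟩ := even_popc_land hb.1 h1
      rw [hk]; push_cast
      exact ⟨k, by ring⟩

theorem two_chi_mem_closure {c : Finset GolayPt} (hc : c ∈ GC) :
    (fun i => 2 * chi c i) ∈ AddSubgroup.closure genSet := by
  rw [mem_supports_iff, isCode_iff] at hc
  have := (two_chi_enc_mem B12 (fun _ h => h) (mk c % 4096)).2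
  rwa [hc, un_mk] at this

theorem leech_le_closure : leechLattice ≤ AddSubgroup.closure genSet := by
  intro x hx
  obtain ⟨m, hm, c, hc, b, hb, hs⟩ := mem_leech_iff.1 hx
  have e : x = m • v0 + (fun i => 2 * chi c i) + fun i => 4 * b i + (Pi.single none (4 * m) : GolayPt → ℤ) i := by
    funext i
    simp only [Pi.add_apply, Pi.smul_apply, smul_eq_mul, v0]
    rw [hb i]
    by_cases hi : i = none
    · subst hi; simp; ring
    · simp [hi]
  rw [e]
  have hv0 : v0 ∈ AddSubgroup.closure genSet := AddSubgroup.subset_closure (Or.inl rfl)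
  refine AddSubgroup.add_mem _ (AddSubgroup.add_mem _ (AddSubgroup.zsmul_mem _ hv0 _)
    (two_chi_mem_closure hc)) (fourfold_mem_closure (fun i => ?_) ?_)
  · by_cases hi : i = none
    · subst hi; simp only [Pi.single_eq_same]; exact ⟨b none + m, by ring⟩
    · simp only [Pi.single_eq_of_ne hi, add_zero]; exact Dvd.intro _ rfl
  · rw [Finset.sum_add_distrib, ← Finset.mul_sum, Finset.sum_pi_single']
    simp only [Finset.mem_univ, if_true]
    unfold Int.ModEq at hs
    omega

/-- membership test. -/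
def inL (z : GolayPt → ℤ) : Bool :=
  decide (∀ i, z i % 2 = z none % 2) && decide ((∑ i, z i) % 8 = 4 * (z none % 2)) &&
    isCode (mk (cls z (z none % 2 + 2)))

theorem mem_of_inL {z : GolayPt → ℤ} (h : inL z = true) : z ∈ leechLattice := by
  simp only [inL, Bool.and_eq_true, decide_eq_true_eq] at h
  obtain ⟨⟨h1, h2⟩, h3⟩ := h
  rw [← mem_supports_iff] at h3
  set m := z none % 2 with hm
  have hm2 : m = 0 ∨ m = 1 := by omega
  have hb : ∀ i, ∃ b : ℤ, z i = m + 2 * chi (cls z (m + 2)) i + 4 * b := by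
    intro i
    have h1 := h1 i
    by_cases hi : i ∈ cls z (m + 2)
    · have h2 := mem_cls.1 hi
      refine ⟨(z i - (m + 2)) / 4, ?_⟩
      simp only [chi, hi, if_true]
      unfold Int.ModEq at *; omega
    · have h2 : ¬ (z i ≡ m + 2 [ZMOD 4]) := fun h => hi (mem_cls.2 h)
      refine ⟨(z i - m) / 4, ?_⟩
      simp only [chi, hi, if_false]
      unfold Int.ModEq at *; omega
  choose b hb using hb
  refine mem_leech_iff.2 ⟨m, hm2, _, h3, b, hb, ?_⟩
  have hsum : ∑ i, z i = 24 * m + 2 * ((cls z (m + 2)).card : ℤ) + 4 * ∑ i, b i := by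
    rw [Finset.sum_congr rfl (fun i _ => hb i)]
    rw [Finset.sum_add_distrib, Finset.sum_add_distrib, ← Finset.mul_sum, ← Finset.mul_sum,
      sum_chi]
    simp
  have hcard := gc_card_cases h3
  rw [hsum] at h2
  unfold Int.ModEq
  rcases hcard with h | h | h | h | h <;> rw [h] at h2 <;> push_cast at h2 <;> omega

theorem v0_mem : v0 ∈ leechLattice := mem_of_inL (by decide +kernel)

end Cfsg.Agent.Lib.Helper28
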