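import Cfsg.Agent.Lib.Helper28.LeechTrans
import Cfsg.Agent.Lib.Helper28.LeechOrder

/-!
`Co0` is generated by the monomial elements and `xi`: the transitivity argument for vectors of norm 64,
carried out inside the subgroup generated by these elements.
-/

set_option autoImplicit false

namespace Cfsg.Agent.Lib.Helper28.GenBy

open Cfsg Matrix Cfsg.Agent.Lib.Helper28
open scoped Pointwise

/-- the subgroup generated by the coordinate permutations, the sign changes and `xi`. -/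
def genSub : Subgroup Co0 := Subgroup.closure
  ({g | ∃ σ, ∃ hσ : σ ∈ M24, g = permCo0 σ hσ} ∪ {g | ∃ c, ∃ hc : c ∈ GC, g = signCo0 c hc} ∪ {xiCo0})

theorem perm_mem (σ : Equiv.Perm GolayPt) (hσ : σ ∈ M24) : permCo0 σ hσ ∈ genSub :=
  Subgroup.subset_closure (Or.inl (Or.inl ⟨σ, hσ, rfl⟩))

theorem sign_mem (c : Finset GolayPt) (hc : c ∈ GC) : signCo0 c hc ∈ genSub :=
  Subgroup.subset_closure (Or.inl (Or.inr ⟨c, hc, rfl⟩))

theorem xi_mem : xiCo0 ∈ genSub := Subgroup.subset_closure (Or.inr rfl)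

/-- equivalence of vectors under `genSub`. -/
def Eqv (x y : GolayPt → ℤ) : Prop :=
  ∃ (g : Co0) (hx : x ∈ leechLattice), g ∈ genSub ∧
    ((g • (⟨x, hx⟩ : leechLattice) : leechLattice) : GolayPt → ℤ) = y

theorem Eqv.mem_left {x y : GolayPt → ℤ} (h : Eqv x y) : x ∈ leechLattice := by
  obtain ⟨_, hx, _⟩ := h
  exact hx

theorem Eqv.mem_right {x y : GolayPt → ℤ} (h : Eqv x y) : y ∈ leechLattice := by
  obtain ⟨g, hx, _, rfl⟩ := h
  exact Subtype.coe_prop _

theorem Eqv.refl {x : GolayPt → ℤ} (hx : x ∈ leechLattice) : Eqv x x :=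
  ⟨1, hx, genSub.one_mem, by simp⟩

theorem Eqv.trans {x y z : GolayPt → ℤ} (h1 : Eqv x y) (h2 : Eqv y z) : Eqv x z := by
  obtain ⟨g, hx, hg, rfl⟩ := h1
  obtain ⟨g', hy, hg', rfl⟩ := h2
  exact ⟨g' * g, hx, genSub.mul_mem hg' hg, by rw [mul_smul]⟩

theorem Eqv.symm {x y : GolayPt → ℤ} (h : Eqv x y) : Eqv y x := by
  have hy := h.mem_right
  obtain ⟨g, hx, hg, rfl⟩ := h
  exact ⟨g⁻¹, hy, genSub.inv_mem hg, by simp⟩

theorem Eqv.norm {x y : GolayPt → ℤ} (h : Eqv x y) : sqNorm y = sqNorm x := by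
  obtain ⟨g, hx, _, rfl⟩ := h
  exact co0_norm g _

theorem eqv_perm {σ : Equiv.Perm GolayPt} (hσ : σ ∈ M24) {x : GolayPt → ℤ} (hx : x ∈ leechLattice) :
    Eqv x (fun i => x (σ.symm i)) := ⟨permCo0 σ hσ, hx, perm_mem σ hσ, rfl⟩

theorem eqv_sign {c : Finset GolayPt} (hc : c ∈ GC) {x : GolayPt → ℤ} (hx : x ∈ leechLattice) :
    Eqv x (fun i => if i ∈ c then -x i else x i) := ⟨signCo0 c hc, hx, sign_mem c hc, rfl⟩

theorem eqv_xi {x : GolayPt → ℤ} (hx : x ∈ leechLattice) : Eqv x (xiF x) := ⟨xiCo0, hx, xi_mem, rfl⟩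

theorem eqv_iff {v w : leechLattice} :
    Eqv (v : GolayPt → ℤ) (w : GolayPt → ℤ) ↔ ∃ g ∈ genSub, g • v = w := by
  constructor
  · rintro ⟨g, _, hg, h⟩
    exact ⟨g, hg, Subtype.ext h⟩
  · rintro ⟨g, hg, rfl⟩
    exact ⟨g, v.2, hg, rfl⟩

/-- the basic move: bring four points to the first tetrad and apply `xi`. -/
theorem exists_move {x : GolayPt → ℤ} (hx : x ∈ leechLattice) {a b c d : GolayPt}
    (hnd : [a, b, c, d].Nodup) :
    ∃ y, Eqv x y ∧ 2 * y none = x b + x c + x d - x a := by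
  obtain ⟨σ, hσ, hmap⟩ := exists_M24_map_list [a, b, c, d] [none, some 0, some 1, some 2] rfl
    (by simp) hnd (by decide)
  simp only [List.map_cons, List.map_nil, List.cons.injEq, and_true] at hmap
  obtain ⟨ha, hb, hc, hd⟩ := hmap
  have h1 := eqv_perm hσ hx
  have h2 := eqv_xi h1.mem_right
  refine ⟨_, h1.trans h2, ?_⟩
  have h3 := congrFun (two_xiF h1.mem_right) none
  rw [xiM_mulVec, filter_tn_none] at h3
  simp only [Pi.smul_apply, smul_eq_mul] at h3
  rw [h3]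
  rw [Finset.sum_insert (by decide), Finset.sum_insert (by decide), Finset.sum_insert (by decide),
    Finset.sum_singleton]
  rw [← ha, ← hb, ← hc, ← hd]
  simp only [Equiv.symm_apply_apply]
  have : tn (σ a) = 0 := by rw [ha]; decide
  rw [if_pos this]
  ring

theorem oddify_E2 {x : GolayPt → ℤ} (hx : x ∈ leechLattice) (hn : sqNorm x ≤ 64)
    (he : x none % 2 = 0) (h2 : ∃ i, x i % 4 = 2) : ∃ y, Eqv x y ∧ y none % 2 = 1 := by
  obtain ⟨i0, hi0⟩ := h2
  have hc := cls_mem_GC hx 2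
  have hi0' : i0 ∈ cls x 2 := mem_cls.2 (by unfold Int.ModEq; omega)
  have hcard := gc_card_cases hc
  have hpos : 0 < (cls x 2).card := Finset.card_pos.2 ⟨i0, hi0'⟩
  have h1 : ∑ i ∈ cls x 2, (4 : ℤ) ≤ ∑ i ∈ cls x 2, x i ^ 2 := by
    refine Finset.sum_le_sum fun i hi => ?_
    have h2 := mem_cls.1 hi
    unfold Int.ModEq at h2
    have h3 : x i ≤ -2 ∨ 2 ≤ x i := by omega
    rcases h3 with h3 | h3 <;> nlinarith
  have h2 : ∑ i ∈ cls x 2, x i ^ 2 ≤ sqNorm x :=
    Finset.sum_le_sum_of_subset_of_nonneg (Finset.subset_univ _) fun i _ _ => sq_nonneg _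
  rw [Finset.sum_const, nsmul_eq_mul] at h1
  have hlt : (cls x 2).card < 24 := by
    by_contra hcon
    have : (24 : ℤ) ≤ ((cls x 2).card : ℤ) := by exact_mod_cast not_lt.1 hcon
    omega
  obtain ⟨a, ha, b, hb, c, hc', hab, hac, hbc⟩ := Finset.two_lt_card.1 (by omega : 2 < (cls x 2).card)
  obtain ⟨d, hd⟩ : ∃ d, d ∉ cls x 2 := by
    by_contra hcon
    have hall : cls x 2 = Finset.univ := by
      ext i; simp only [Finset.mem_univ, iff_true]
      by_contra hi; exact hcon ⟨i, hi⟩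
    rw [hall, Finset.card_univ, card_golayPt] at hlt
    omega
  have hnd : [a, b, c, d].Nodup := by
    have h1 : a ≠ d := fun h => hd (h ▸ ha)
    have h2 : b ≠ d := fun h => hd (h ▸ hb)
    have h3 : c ≠ d := fun h => hd (h ▸ hc')
    simp [hab, hac, hbc, h1, h2, h3]
  obtain ⟨y, hy, he2⟩ := exists_move hx hnd
  refine ⟨y, hy, ?_⟩
  have ea := mem_cls.1 ha
  have eb := mem_cls.1 hb
  have ec := mem_cls.1 hc'
  have ed : ¬ (x d ≡ 2 [ZMOD 4]) := fun h => hd (mem_cls.2 h)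
  have pd := parity_of_mem hx d none
  unfold Int.ModEq at *
  omega

theorem oddify_E4 {x : GolayPt → ℤ} (hx : x ∈ leechLattice) (hn : sqNorm x ≤ 64)
    (h4 : ∀ i, x i % 4 = 0) (h8 : ∃ i, x i % 8 = 4) : ∃ y, Eqv x y ∧ y none % 2 = 1 := by
  obtain ⟨a, ha⟩ := h8
  set O := Finset.univ.filter fun i => x i % 8 = 4 with hO
  have h1 : ∑ i ∈ O, (16 : ℤ) ≤ ∑ i ∈ O, x i ^ 2 := by
    refine Finset.sum_le_sum fun i hi => ?_
    have h2 := (Finset.mem_filter.1 hi).2
    have h3 : x i ≤ -4 ∨ 4 ≤ x i := by omega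
    rcases h3 with h3 | h3 <;> nlinarith
  have h2 : ∑ i ∈ O, x i ^ 2 ≤ sqNorm x :=
    Finset.sum_le_sum_of_subset_of_nonneg (Finset.subset_univ _) fun i _ _ => sq_nonneg _
  rw [Finset.sum_const, nsmul_eq_mul] at h1
  have hle : O.card ≤ 4 := by
    have : (O.card : ℤ) ≤ 4 := by omega
    exact_mod_cast this
  have hcc : 2 < Oᶜ.card := by
    rw [Finset.card_compl, card_golayPt]; omega
  obtain ⟨b, hb, c, hc, d, hd, hbc, hbd, hcd⟩ := Finset.two_lt_card.1 hcc
  have haO : a ∈ O := Finset.mem_filter.2 ⟨Finset.mem_univ _, ha⟩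
  have hnd : [a, b, c, d].Nodup := by
    have h1 : a ≠ b := fun h => (Finset.mem_compl.1 hb) (h ▸ haO)
    have h2 : a ≠ c := fun h => (Finset.mem_compl.1 hc) (h ▸ haO)
    have h3 : a ≠ d := fun h => (Finset.mem_compl.1 hd) (h ▸ haO)
    simp [hbc, hbd, hcd, h1, h2, h3]
  obtain ⟨y, hy, he2⟩ := exists_move hx hnd
  have nb : ¬ x b % 8 = 4 := fun h => (Finset.mem_compl.1 hb) (Finset.mem_filter.2 ⟨Finset.mem_univ _, h⟩)
  have nc : ¬ x c % 8 = 4 := fun h => (Finset.mem_compl.1 hc) (Finset.mem_filter.2 ⟨Finset.mem_univ _, h⟩)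
  have nd : ¬ x d % 8 = 4 := fun h => (Finset.mem_compl.1 hd) (Finset.mem_filter.2 ⟨Finset.mem_univ _, h⟩)
  have fb := h4 b
  have fc := h4 c
  have fd := h4 d
  obtain ⟨z, hz, hz1⟩ := oddify_E2 hy.mem_right (by rw [hy.norm]; exact hn) (by omega)
    ⟨none, by omega⟩
  exact ⟨z, hy.trans hz, hz1⟩

theorem oddify {x : GolayPt → ℤ} (hx : x ∈ leechLattice) (hn : sqNorm x ≤ 64) (h0 : x ≠ 0) :
    ∃ y, Eqv x y ∧ y none % 2 = 1 := by
  by_cases ho : x none % 2 = 1
  · exact ⟨x, Eqv.refl hx, ho⟩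
  have he : x none % 2 = 0 := by omega
  by_cases h2 : ∃ i, x i % 4 = 2
  · exact oddify_E2 hx hn he h2
  have h4 : ∀ i, x i % 4 = 0 := by
    intro i
    have h3 : ¬ x i % 4 = 2 := fun h => h2 ⟨i, h⟩
    have := parity_of_mem hx i none
    omega
  by_cases h8 : ∃ i, x i % 8 = 4
  · exact oddify_E4 hx hn h4 h8
  have h8' : ∀ i, x i % 8 = 0 := by
    intro i
    have h3 : ¬ x i % 8 = 4 := fun h => h8 ⟨i, h⟩
    have := h4 i
    omega
  obtain ⟨a, ha⟩ : ∃ a, x a ≠ 0 := by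
    by_contra hcon
    apply h0
    funext i
    by_contra hi
    exact hcon ⟨i, hi⟩
  have hz : ∀ i, i ≠ a → x i = 0 := by
    intro i hi
    have h1 : ∑ j ∈ ({i, a} : Finset GolayPt), x j ^ 2 ≤ sqNorm x :=
      Finset.sum_le_sum_of_subset_of_nonneg (Finset.subset_univ _) fun i _ _ => sq_nonneg _
    rw [Finset.sum_pair hi] at h1
    have e1 := h8' i
    have e2 := h8' a
    by_contra hne
    have h3 : x i ≤ -8 ∨ 8 ≤ x i := by omega
    have h4 : x a ≤ -8 ∨ 8 ≤ x a := by omega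
    rcases h3 with h3 | h3 <;> rcases h4 with h4 | h4 <;> nlinarith
  have ha8 : x a = 8 ∨ x a = -8 := by
    have h1 := sq_le_sqNorm x a
    have e2 := h8' a
    have h5 : -8 ≤ x a ∧ x a ≤ 8 := by constructor <;> nlinarith
    omega
  have hcc : 2 < ({a} : Finset GolayPt)ᶜ.card := by
    rw [Finset.card_compl, card_golayPt, Finset.card_singleton]; omega
  obtain ⟨b, hb, c, hc, d, hd, hbc, hbd, hcd⟩ := Finset.two_lt_card.1 hcc
  simp only [Finset.mem_compl, Finset.mem_singleton] at hb hc hd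
  have hnd : [a, b, c, d].Nodup := by
    simp [hbc, hbd, hcd, Ne.symm hb, Ne.symm hc, Ne.symm hd]
  obtain ⟨y, hy, he2⟩ := exists_move hx hnd
  rw [hz b hb, hz c hc, hz d hd] at he2
  have hyn : sqNorm y ≤ 64 := by rw [hy.norm]; exact hn
  by_cases hy2 : ∃ i, y i % 4 = 2
  · obtain ⟨z, hz, hz1⟩ := oddify_E2 hy.mem_right hyn (by omega) hy2
    exact ⟨z, hy.trans hz, hz1⟩
  · have hy4 : ∀ i, y i % 4 = 0 := by
      intro i
      have h3 : ¬ y i % 4 = 2 := fun h => hy2 ⟨i, h⟩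
      have := parity_of_mem hy.mem_right i none
      omega
    obtain ⟨z, hz, hz1⟩ := oddify_E4 hy.mem_right hyn hy4 ⟨none, by omega⟩
    exact ⟨z, hy.trans hz, hz1⟩

/-- normalising the signs of an odd vector. -/
theorem normalize_odd {y : GolayPt → ℤ} (hy : y ∈ leechLattice) (ho : y none % 2 = 1) :
    ∃ z, Eqv y z ∧ ∀ i, z i % 4 = 1 := by
  refine ⟨_, eqv_sign (cls_mem_GC hy 3) hy, fun i => ?_⟩
  have h1 := parity_of_mem hy i none
  by_cases hi : i ∈ cls y 3
  · have h2 := mem_cls.1 hi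
    simp only [hi, if_true]
    unfold Int.ModEq at h2
    omega
  · have h2 : ¬ (y i ≡ 3 [ZMOD 4]) := fun h => hi (mem_cls.2 h)
    simp only [hi, if_false]
    unfold Int.ModEq at h2
    omega

theorem shp_eqv {A B A' B' : Finset GolayPt} (hA : A.card = A'.card) (hB : B.card = B'.card)
    (hd : Disjoint A B) (hd' : Disjoint A' B') (h5 : A.card + B.card ≤ 5)
    (hL : shp A B ∈ leechLattice) : Eqv (shp A B) (shp A' B') := by
  obtain ⟨σ, hσ, hmap⟩ := exists_M24_map_list (A.toList ++ B.toList) (A'.toList ++ B'.toList)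
    (by simp [hA, hB]) (by simpa using h5)
    (List.Nodup.append (Finset.nodup_toList _) (Finset.nodup_toList _) (by
      intro a ha hb
      exact (Finset.disjoint_left.1 hd) (Finset.mem_toList.1 ha) (Finset.mem_toList.1 hb)))
    (List.Nodup.append (Finset.nodup_toList _) (Finset.nodup_toList _) (by
      intro a ha hb
      exact (Finset.disjoint_left.1 hd') (Finset.mem_toList.1 ha) (Finset.mem_toList.1 hb)))
  rw [List.map_append] at hmap
  obtain ⟨h1, h2⟩ := List.append_inj hmap (by simp [hA])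
  have := eqv_perm hσ hL
  rwa [shp_perm, smul_eq_of_map_toList h1, smul_eq_of_map_toList h2] at this

theorem eqv_neg {x : GolayPt → ℤ} (hx : x ∈ leechLattice) : Eqv x (-x) := by
  have := eqv_sign gc_univ hx
  have e : (fun i => if i ∈ (Finset.univ : Finset GolayPt) then -x i else x i) = -x := by
    funext i; simp
  rwa [e] at this

theorem eqv_rep64 {x : GolayPt → ℤ} (hx : x ∈ leechLattice) (hn : sqNorm x = 64) :
    Eqv x (shp {some 3, some 5} {none}) := by
  have h0 : x ≠ 0 := by rintro rfl; rw [sqNorm_eq_zero.2 rfl] at hn; omega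
  obtain ⟨y, hy, hy1⟩ := oddify hx (by omega) h0
  obtain ⟨z, hz, hz1⟩ := normalize_odd hy.mem_right hy1
  have hzn : sqNorm z = 64 := by rw [hz.norm, hy.norm, hn]
  obtain ⟨A, B, hd, rfl, hN⟩ := shape_of_normalized hz1 (by omega)
  refine (hy.trans hz).trans ?_
  have hcases : (A.card = 2 ∧ B.card = 1) ∨ (A.card = 5 ∧ B.card = 0) := by omega
  rcases hcases with ⟨hA, hB⟩ | ⟨hA, hB⟩
  · exact shp_eqv (by rw [hA]; decide) (by simp [hB]) hd (by decide) (by omega) hz.mem_right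
  · have h1 : Eqv (shp A B) (shp {some 0, some 1, some 2, some 14, some 17} ∅) :=
      shp_eqv (by rw [hA]; decide) (by simp [hB]) hd (by simp) (by omega) hz.mem_right
    have h2 := eqv_xi shp64_mem
    rw [xi_fuse64] at h2
    have h3 := (h2.trans (eqv_neg h2.mem_right))
    rw [neg_neg] at h3
    exact h1.trans h3.symm

theorem trans64 (v w : leechLattice) (hv : sqNorm (v : GolayPt → ℤ) = 64)
    (hw : sqNorm (w : GolayPt → ℤ) = 64) : ∃ g ∈ genSub, g • v = w :=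
  eqv_iff.1 ((eqv_rep64 v.2 hv).trans (eqv_rep64 w.2 hw).symm)

theorem monoEl_mem (σ : M24) (c : {c : Finset GolayPt // c ∈ GC}) : monoEl σ c ∈ genSub :=
  genSub.mul_mem (sign_mem _ _) (perm_mem _ _)

theorem genSub_eq_top : genSub = ⊤ := by
  rw [eq_top_iff]
  intro g _
  have hN : sqNorm ((E8 none : leechLattice) : GolayPt → ℤ) = 64 := sqNorm_single8 none
  obtain ⟨h, hh, he⟩ := trans64 (E8 none) (g • E8 none) hN (by rw [co0_norm, hN])
  have hfix : (h⁻¹ * g) • E8 none = E8 none := by rw [mul_smul, ← he, inv_smul_smul]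
  obtain ⟨σ, c, hm⟩ := exists_monoEl _ (preserves_of_fix hfix)
  have : g = h * monoEl σ c := by rw [← hm]; group
  rw [this]
  exact genSub.mul_mem hh (monoEl_mem σ c)

end Cfsg.Agent.Lib.Helper28.GenBy
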