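import Cfsg.Agent.Lib.Helper28.LeechCensus3
import Cfsg.Agent.Lib.Helper28.LeechCenter
import Cfsg.Agent.Lib.Helper28.LeechClasses

/-!
The lattice modulo twice the lattice as a module for its automorphism group.
-/

set_option autoImplicit false

namespace Cfsg.Agent.Lib.Helper28

open Cfsg

/-- the vector `(4, 0, ..., 4, ...)`. -/
def aP (j : GolayPt) : leechLattice := ⟨_, sum4_mem j⟩

/-- the vector `(4, 0, ..., -4, ...)`. -/
def aM (j : GolayPt) : leechLattice := ⟨_, sub4_mem j⟩

theorem aP_coe (j : GolayPt) : ((aP j : leechLattice) : GolayPt → ℤ)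
    = (Pi.single none 4 : GolayPt → ℤ) + Pi.single j 4 := rfl

theorem aM_coe (j : GolayPt) : ((aM j : leechLattice) : GolayPt → ℤ)
    = (Pi.single none 4 : GolayPt → ℤ) - Pi.single j 4 := rfl

theorem aP_add_aM (j : GolayPt) : aP j + aM j = E8 none := by
  apply Subtype.ext
  rw [AddSubgroup.coe_add, aP_coe, aM_coe, E8_coe]
  have : (Pi.single none 8 : GolayPt → ℤ) = Pi.single none 4 + Pi.single none 4 := by
    rw [← Pi.single_add]; rfl
  rw [this]; abel

theorem aP_sub_aM (j : GolayPt) : aP j - aM j = E8 j := by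
  apply Subtype.ext
  rw [AddSubgroup.coe_sub, aP_coe, aM_coe, E8_coe]
  have : (Pi.single j 8 : GolayPt → ℤ) = Pi.single j 4 + Pi.single j 4 := by
    rw [← Pi.single_add]; rfl
  rw [this]; abel

theorem norm_aPM : ∀ j : GolayPt, j ≠ none →
    sqNorm ((Pi.single none 4 : GolayPt → ℤ) + Pi.single j 4) = 32 ∧
    sqNorm ((Pi.single none 4 : GolayPt → ℤ) - Pi.single j 4) = 32 := by decide +kernel

/-- an automorphism mapping every minimal vector to itself or its negative is `1` or `-1`. -/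
theorem eq_one_or_neg_of_pm {g : Co0}
    (h : ∀ v : leechLattice, sqNorm (v : GolayPt → ℤ) = 32 → g • v = v ∨ g • v = -v) :
    g = 1 ∨ g = negCo0 := by
  have key : ∀ j, j ≠ none → (g • E8 none = E8 none ∧ g • E8 j = E8 j) ∨
      (g • E8 none = -E8 none ∧ g • E8 j = -E8 j) ∨ (g • E8 none = E8 j) ∨
      (g • E8 none = -E8 j) := by
    intro j hj
    have e1 : g • E8 none = g • aP j + g • aM j := by rw [← co0_add, aP_add_aM]
    have e2 : g • E8 j = g • aP j - g • aM j := by rw [← co0_sub, aP_sub_aM]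
    rcases h (aP j) (norm_aPM j hj).1 with a | a <;> rcases h (aM j) (norm_aPM j hj).2 with b | b
    · left; rw [e1, e2, a, b]; exact ⟨aP_add_aM j, aP_sub_aM j⟩
    · right; right; left; rw [e1, a, b, ← aP_sub_aM j]; abel
    · right; right; right; rw [e1, a, b, ← aP_sub_aM j]; abel
    · right; left; rw [e1, e2, a, b, ← aP_add_aM j, ← aP_sub_aM j]; constructor <;> abel
  have hzero : ∀ j, j ≠ none → ∀ k, k ≠ none → k ≠ j →
      ((g • E8 none : leechLattice) : GolayPt → ℤ) k = 0 := by
    intro j hj k hk hkj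
    rcases key j hj with a | a | a | a
    · rw [a.1, E8_coe, Pi.single_eq_of_ne hk]
    · rw [a.1, AddSubgroup.coe_neg, Pi.neg_apply, E8_coe, Pi.single_eq_of_ne hk]; rfl
    · rw [a, E8_coe, Pi.single_eq_of_ne hkj]
    · rw [a, AddSubgroup.coe_neg, Pi.neg_apply, E8_coe, Pi.single_eq_of_ne hkj]; rfl
  have key2 : ∀ j, j ≠ none → (g • E8 none = E8 none ∧ g • E8 j = E8 j) ∨
      (g • E8 none = -E8 none ∧ g • E8 j = -E8 j) := by
    intro j hj
    obtain ⟨j', hj', hjj'⟩ : ∃ j' : GolayPt, j' ≠ none ∧ j ≠ j' := by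
      by_cases h0 : j = some 0
      · exact ⟨some 1, by decide, by rw [h0]; decide⟩
      · exact ⟨some 0, by decide, h0⟩
    have hz := hzero j' hj' j hj hjj'
    rcases key j hj with a | a | a | a
    · exact Or.inl a
    · exact Or.inr a
    · rw [a, E8_coe, Pi.single_eq_same] at hz; omega
    · rw [a, AddSubgroup.coe_neg, Pi.neg_apply, E8_coe, Pi.single_eq_same] at hz; omega
  rcases key2 (some 0) (by decide) with a | a
  · left
    apply co0_ext
    intro i
    rw [one_smul]
    by_cases hi : i = none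
    · rw [hi]; exact a.1
    · rcases key2 i hi with b | b
      · exact b.2
      · exact absurd (a.1.symm.trans b.1) (E8_ne_neg _ _)
  · right
    apply co0_ext
    intro i
    rw [negCo0_smul]
    by_cases hi : i = none
    · rw [hi]; exact a.1
    · rcases key2 i hi with b | b
      · exact absurd (b.1.symm.trans a.1) (E8_ne_neg _ _)
      · exact b.2

theorem mem_center_of_trivial_mod2 {g : Co0} (h : ∀ v : leechLattice, ∃ w : leechLattice,
    ((g • v : leechLattice) : GolayPt → ℤ) - (v : GolayPt → ℤ) = 2 • (w : GolayPt → ℤ)) :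
    g ∈ Subgroup.center Co0 := by
  have h1 : g = 1 ∨ g = negCo0 := by
    apply eq_one_or_neg_of_pm
    intro v hv
    by_cases hne : g • v = v
    · exact Or.inl hne
    · right
      obtain ⟨w, hw⟩ := h v
      rcases short_congruent (Subtype.coe_prop (g • v)) v.2 (fun h => hne (Subtype.ext h))
        (by rw [co0_norm, hv]; norm_num) (by rw [hv]; norm_num) ⟨w, w.2, hw⟩ with a | a
      · exact Subtype.ext a
      · rw [hv] at a; omega
  rcases h1 with rfl | rfl
  · exact Subgroup.one_mem _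
  · exact negCo0_mem_center


theorem shp48'_mem : shp ∅ {some 0} ∈ leechLattice := mem_of_inL (by decide +kernel)

theorem shp48_sub : shp ∅ {none} - shp ∅ {some 0}
    = (Pi.single none 4 : GolayPt → ℤ) - Pi.single (some 0) 4 := by decide +kernel

/-- two vectors of norm 64 whose difference is minimal. -/
def f64a : GolayPt → ℤ := fun i => if i ∈ ({none, some 0, some 1, some 2} : Finset GolayPt) then 4 else 0

def f64b : GolayPt → ℤ := fun i => if i ∈ ({none, some 0, some 1, some 3} : Finset GolayPt) then 4 else 0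

theorem f64_facts : inL f64a = true ∧ inL f64b = true ∧ sqNorm f64a = 64 ∧ sqNorm f64b = 64 ∧
    sqNorm (f64a - f64b) = 32 := by decide +kernel

theorem B12_facts : ∀ b ∈ B12, inL (fun i => 2 * chi (un b) i) = true ∧
    sqNorm (fun i => 2 * chi (un b) i) = 32 := by decide +kernel

theorem sqNorm_v0 : sqNorm v0 = 32 := by decide +kernel

/-- a subgroup containing all minimal vectors contains the lattice. -/
theorem le_of_minimal_mem (M : AddSubgroup (GolayPt → ℤ))
    (h : ∀ v ∈ leechLattice, sqNorm v = 32 → v ∈ M) : leechLattice ≤ M := by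
  refine le_trans leech_le_closure ((AddSubgroup.closure_le M).2 ?_)
  rintro x (rfl | ⟨b, hb, rfl⟩ | ⟨i, rfl⟩ | rfl)
  · exact h _ v0_mem sqNorm_v0
  · exact h _ (mem_of_inL (B12_facts b hb).1) (B12_facts b hb).2
  · by_cases hi : i = none
    · rw [hi, sub_self]; exact M.zero_mem
    · have := M.neg_mem (h _ (aM i).2 (norm_aPM i hi).2)
      rw [aM_coe, neg_sub] at this
      exact this
  · have h1 := h _ (aP (some 0)).2 (norm_aPM (some 0) (by decide)).1
    have h2 := h _ (aM (some 0)).2 (norm_aPM (some 0) (by decide)).2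
    have h3 := congrArg Subtype.val (aP_add_aM (some 0))
    rw [AddSubgroup.coe_add, E8_coe] at h3
    rw [SetLike.mem_coe, ← h3]
    exact M.add_mem h1 h2

theorem irreducible_mod2 (M : AddSubgroup (GolayPt → ℤ))
    (h2 : ∀ v ∈ leechLattice, (2 : ℤ) • v ∈ M) (hle : M ≤ leechLattice)
    (hinv : ∀ g : Co0, ∀ v : leechLattice, (v : GolayPt → ℤ) ∈ M →
      ((g • v : leechLattice) : GolayPt → ℤ) ∈ M) :
    (∀ x ∈ M, ∃ w ∈ leechLattice, x = (2 : ℤ) • w) ∨ M = leechLattice := by
  by_cases hall : ∀ x ∈ M, ∃ w ∈ leechLattice, x = (2 : ℤ) • w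
  · exact Or.inl hall
  right
  push Not at hall
  obtain ⟨x, hx, hxn⟩ := hall
  obtain ⟨y, hy, hcase, z, hz, hxy⟩ := leechShort.main.2 x (hle hx)
  have hyM : y ∈ M := by
    have : y = x - (2 : ℤ) • z := by rw [← hxy]; abel
    rw [this]
    exact M.sub_mem hx (h2 z hz)
  have hy0 : y ≠ 0 := by
    rintro rfl
    rw [sub_zero] at hxy
    exact hxn z hz hxy
  have stepA : ∃ s ∈ leechLattice, s ∈ M ∧ sqNorm s = 32 := by
    rcases hcase with h | h | h | h
    · exact absurd h hy0
    · exact ⟨y, hy, hyM, by rw [h]; norm_num⟩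
    · have all48 : ∀ u : leechLattice, sqNorm (u : GolayPt → ℤ) = 48 → (u : GolayPt → ℤ) ∈ M := by
        intro u hu
        obtain ⟨g, hg⟩ := co0_trans48 ⟨y, hy⟩ u (by rw [h]; norm_num) hu
        rw [← hg]
        exact hinv g ⟨y, hy⟩ hyM
      refine ⟨_, vMinus.2, ?_, sqNorm_vMinus⟩
      rw [vMinus_coe, ← shp48_sub]
      exact M.sub_mem (all48 u5 sqNorm_u5) (all48 ⟨_, shp48'_mem⟩ (by decide +kernel))
    · have all64 : ∀ u : leechLattice, sqNorm (u : GolayPt → ℤ) = 64 → (u : GolayPt → ℤ) ∈ M := by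
        intro u hu
        obtain ⟨g, hg⟩ := co0_trans64 ⟨y, hy⟩ u (by rw [h]; norm_num) hu
        rw [← hg]
        exact hinv g ⟨y, hy⟩ hyM
      obtain ⟨a, b, c, d, e⟩ := f64_facts
      exact ⟨f64a - f64b, leechLattice.sub_mem (mem_of_inL a) (mem_of_inL b),
        M.sub_mem (all64 ⟨_, mem_of_inL a⟩ c) (all64 ⟨_, mem_of_inL b⟩ d), e⟩
  obtain ⟨s, hs, hsM, hsn⟩ := stepA
  apply le_antisymm hle
  apply le_of_minimal_mem
  intro v hv hvn
  obtain ⟨g, hg⟩ := co0_trans32 ⟨s, hs⟩ ⟨v, hv⟩ hsn hvn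
  have := hinv g ⟨s, hs⟩ hsM
  rw [hg] at this
  exact this

end Cfsg.Agent.Lib.Helper28
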