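import Cfsg.Agent.Lib.Helper28.LeechBasic
import Cfsg.Agent.Lib.Helper28.GolayPerm

/-!
Coordinate permutations from `M24` and sign changes on code words preserve the lattice.
-/

set_option autoImplicit false

namespace Cfsg.Agent.Lib.Helper28

open Cfsg
open scoped Pointwise

theorem gc_smul {g : Equiv.Perm GolayPt} (hg : g ∈ M24) {s : Finset GolayPt} (hs : s ∈ GC) :
    g • s ∈ GC := by
  rw [mem_supports_iff] at *
  exact (mem_M24_iff_forall g).1 hg s hs

theorem two_chi_mem {c : Finset GolayPt} (hc : c ∈ GC) : (fun i => 2 * chi c i) ∈ leechLattice :=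
  mem_leech_iff.2 ⟨0, Or.inl rfl, c, hc, 0, fun i => by simp, by simp⟩

theorem four_dvd_sum_on {x : GolayPt → ℤ} (hx : x ∈ leechLattice) {c : Finset GolayPt}
    (hc : c ∈ GC) : (4 : ℤ) ∣ ∑ i ∈ c, x i := by
  have h := eight_dvd_dotInt hx (two_chi_mem hc)
  have e : dotInt x (fun i => 2 * chi c i) = 2 * ∑ i ∈ c, x i := by
    unfold dotInt chi
    rw [Finset.mul_sum, ← Finset.sum_filter_add_sum_filter_not Finset.univ (· ∈ c)]
    have h1 : ∑ i ∈ Finset.univ.filter (· ∈ c), x i * (2 * if i ∈ c then 1 else 0)
        = ∑ i ∈ c, 2 * x i := by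
      have : Finset.univ.filter (· ∈ c) = c := by ext i; simp
      rw [this]
      refine Finset.sum_congr rfl fun i hi => ?_
      simp [hi]; ring
    have h2 : ∑ i ∈ Finset.univ.filter (fun i => ¬ i ∈ c), x i * (2 * if i ∈ c then 1 else 0) = 0 := by
      refine Finset.sum_eq_zero fun i hi => ?_
      simp at hi
      simp [hi]
    rw [h1, h2, add_zero]
  rw [e] at h
  omega

theorem leech_perm {σ : Equiv.Perm GolayPt} (hσ : σ ∈ M24) {x : GolayPt → ℤ}
    (hx : x ∈ leechLattice) : (fun i => x (σ i)) ∈ leechLattice := by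
  rw [mem_leechLattice_iff] at *
  obtain ⟨m, hm, hs, hc⟩ := mem_leechSet_iff.1 hx
  refine mem_leechSet_iff.2 ⟨m, fun i => hm _, ?_, fun k => ?_⟩
  · rw [Equiv.sum_comp σ x]; exact hs
  · have : cls (fun i => x (σ i)) k = σ⁻¹ • cls x k := by
      ext i
      rw [mem_cls]
      have h := mem_smul_finset_iff σ⁻¹ (cls x k) (σ i)
      have e : σ⁻¹ (σ i) = i := by simp
      rw [e] at h
      rw [h, mem_cls]
    rw [this]; exact gc_smul (M24.inv_mem hσ) (hc k)

theorem sum_sign (c : Finset GolayPt) (x : GolayPt → ℤ) :
    ∑ i, (if i ∈ c then -x i else x i) = ∑ i, x i - 2 * ∑ i ∈ c, x i := by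
  have h1 : ∀ i, (if i ∈ c then -x i else x i) = x i - 2 * (if i ∈ c then x i else 0) := by
    intro i; split <;> ring
  rw [Finset.sum_congr rfl (fun i _ => h1 i), Finset.sum_sub_distrib, ← Finset.mul_sum]
  simp

theorem leech_sign {c : Finset GolayPt} (hc : c ∈ GC) {x : GolayPt → ℤ}
    (hx : x ∈ leechLattice) : (fun i => if i ∈ c then -x i else x i) ∈ leechLattice := by
  have h4 := four_dvd_sum_on hx hc
  rw [mem_leechLattice_iff] at *
  obtain ⟨m, hm, hs, hcl⟩ := mem_leechSet_iff.1 hx
  refine mem_leechSet_iff.2 ⟨m, fun i => ?_, ?_, fun k => ?_⟩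
  · have := hm i
    show (if i ∈ c then -x i else x i) ≡ m [ZMOD 2]
    unfold Int.ModEq at *
    split <;> omega
  · rw [sum_sign]
    unfold Int.ModEq at *; omega
  · by_cases hm2 : m % 2 = 0
    · have : cls (fun i => if i ∈ c then -x i else x i) k = cls x k := by
        ext i
        rw [mem_cls, mem_cls]
        have := hm i
        unfold Int.ModEq at *
        split <;> omega
      rw [this]; exact hcl k
    · by_cases hk : k % 2 = 0
      · have : cls (fun i => if i ∈ c then -x i else x i) k = ∅ := by
          ext i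
          rw [mem_cls]
          simp only [Finset.notMem_empty, iff_false]
          have := hm i
          unfold Int.ModEq at *
          split <;> omega
        rw [this]; exact gc_empty
      · have : cls (fun i => if i ∈ c then -x i else x i) k = symmDiff (cls x k) c := by
          ext i
          rw [mem_cls, Finset.mem_symmDiff, mem_cls]
          have := hm i
          unfold Int.ModEq at *
          by_cases hi : i ∈ c
          · simp only [hi, if_true, not_true, and_false, true_and, false_or]; omega
          · simp only [hi, if_false, not_false_iff, and_true, false_and, or_false]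
        rw [this]; exact gc_symmDiff (hcl k) hc

end Cfsg.Agent.Lib.Helper28
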