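import Cfsg.Agent.Lib.Helper28.LeechCo0
import Cfsg.Prelude.Def_SporadicCombinatorics

/-!
The monomial subgroup of `Co0`: the stabiliser of the standard cross.
-/

set_option autoImplicit false

namespace Cfsg.Agent.Lib.Helper28

open Cfsg
open scoped Pointwise

theorem single8_mem (i : GolayPt) : (Pi.single i 8 : GolayPt → ℤ) ∈ leechLattice :=
  mem_of_inL (by revert i; decide +kernel)

/-- the vector `8 e_i`. -/
def E8 (i : GolayPt) : leechLattice := ⟨Pi.single i 8, single8_mem i⟩

theorem E8_coe (i : GolayPt) : ((E8 i : leechLattice) : GolayPt → ℤ) = Pi.single i 8 := rfl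

/-- an element of `Co0` as an additive map. -/
def co0Hom (g : Co0) : leechLattice →+ leechLattice := AddMonoidHom.mk' (fun v => g • v) (co0_add g)

theorem co0Hom_apply (g : Co0) (v : leechLattice) : co0Hom g v = g • v := rfl

theorem co0_neg (g : Co0) (v : leechLattice) : g • (-v) = -(g • v) := (co0Hom g).map_neg v

theorem co0_zsmul (g : Co0) (n : ℤ) (v : leechLattice) : g • (n • v) = n • (g • v) :=
  (co0Hom g).map_zsmul n v

theorem co0_sub (g : Co0) (v w : leechLattice) : g • (v - w) = g • v - g • w :=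
  (co0Hom g).map_sub v w

theorem eight_smul_eq (v : leechLattice) :
    (8 : ℤ) • v = ∑ i, ((v : GolayPt → ℤ) i) • E8 i := by
  apply Subtype.ext
  funext k
  rw [AddSubgroup.coe_zsmul, AddSubgroup.val_finsetSum, Finset.sum_apply]
  simp only [AddSubgroup.coe_zsmul, Pi.smul_apply, E8_coe, smul_eq_mul, Pi.single_apply, mul_ite,
    mul_zero]
  rw [Finset.sum_ite_eq]
  simp [mul_comm]

theorem eight_co0 (g : Co0) (v : leechLattice) (k : GolayPt) :
    8 * ((g • v : leechLattice) : GolayPt → ℤ) k
      = ∑ i, (v : GolayPt → ℤ) i * ((g • E8 i : leechLattice) : GolayPt → ℤ) k := by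
  have h := congrArg (co0Hom g) (eight_smul_eq v)
  rw [map_zsmul, map_sum] at h
  simp only [map_zsmul, co0Hom_apply] at h
  have h2 := congrFun (congrArg Subtype.val h) k
  rw [AddSubgroup.coe_zsmul, AddSubgroup.val_finsetSum, Finset.sum_apply] at h2
  simpa using h2

/-- two elements of `Co0` agreeing on the `8 e_i` are equal. -/
theorem co0_ext {g g' : Co0} (h : ∀ i, g • E8 i = g' • E8 i) : g = g' := by
  apply Subtype.ext
  apply Equiv.ext
  intro v
  apply Subtype.ext
  funext k
  have h1 := eight_co0 g v k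
  have h2 := eight_co0 g' v k
  simp only [h] at h1
  have h3 : 8 * ((g • v : leechLattice) : GolayPt → ℤ) k = 8 * ((g' • v : leechLattice) : GolayPt → ℤ) k := by
    rw [h1, h2]
  have h4 : ((g • v : leechLattice) : GolayPt → ℤ) k = ((g' • v : leechLattice) : GolayPt → ℤ) k := by
    omega
  exact h4

/-- `g` maps the standard cross to itself. -/
def Preserves (g : Co0) : Prop :=
  ∀ v : leechLattice, (v : GolayPt → ℤ) ∈ stdCross → ((g • v : leechLattice) : GolayPt → ℤ) ∈ stdCross

theorem E8_injective {i j : GolayPt} (h : E8 i = E8 j) : i = j := by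
  have h1 := congrFun (congrArg Subtype.val h) i
  rw [E8_coe, E8_coe, Pi.single_eq_same] at h1
  by_contra hne
  rw [Pi.single_eq_of_ne hne] at h1
  omega

theorem E8_ne_neg (i j : GolayPt) : E8 i ≠ -E8 j := by
  intro h
  have h1 := congrFun (congrArg Subtype.val h) i
  rw [AddSubgroup.coe_neg, Pi.neg_apply, E8_coe, E8_coe, Pi.single_eq_same] at h1
  by_cases hne : i = j
  · subst hne; rw [Pi.single_eq_same] at h1; omega
  · rw [Pi.single_eq_of_ne hne] at h1; omega

theorem mono_of_preserves (g : Co0) (h : Preserves g) : ∃ σ ∈ M24, ∃ c ∈ GC,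
    ∀ v : leechLattice, ((g • v : leechLattice) : GolayPt → ℤ) = signedPerm σ c v := by
  have h1 : ∀ i, ∃ (j : GolayPt) (s : ℤ), (s = 8 ∨ s = -8) ∧
      ((g • E8 i : leechLattice) : GolayPt → ℤ) = Pi.single j s :=
    fun i => h (E8 i) ⟨i, 8, Or.inl rfl, rfl⟩
  choose σ0 s hs hE using h1
  have hinj : Function.Injective σ0 := by
    intro i i' hii
    have e1 := hE i
    have e2 := hE i'
    rw [hii] at e1
    by_cases hss : s i = s i'
    · rw [hss, ← e2] at e1
      exact E8_injective (smul_left_cancel g (Subtype.ext e1))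
    · exfalso
      have hneg : s i = -s i' := by
        rcases hs i with a | a <;> rcases hs i' with b | b <;> omega
      have e3 : g • E8 i = g • (-E8 i') := by
        rw [co0_neg]
        apply Subtype.ext
        rw [AddSubgroup.coe_neg, e1, e2, hneg, Pi.single_neg]
      exact E8_ne_neg i i' (smul_left_cancel g e3)
  let σ : Equiv.Perm GolayPt := Equiv.ofBijective σ0 ((Finite.injective_iff_bijective).1 hinj)
  have hσ : ∀ i, σ i = σ0 i := fun i => rfl
  have hform : ∀ (v : leechLattice) (k : GolayPt), 8 * ((g • v : leechLattice) : GolayPt → ℤ) k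
      = (v : GolayPt → ℤ) (σ.symm k) * s (σ.symm k) := by
    intro v k
    rw [eight_co0]
    rw [Finset.sum_eq_single (σ.symm k)]
    · rw [hE, ← hσ, Equiv.apply_symm_apply, Pi.single_eq_same]
    · intro i _ hi
      rw [hE, Pi.single_eq_of_ne, mul_zero]
      intro hk
      apply hi
      rw [hk, ← hσ, Equiv.symm_apply_apply]
    · intro hk; exact absurd (Finset.mem_univ _) hk
  let c : Finset GolayPt := Finset.univ.filter fun k => s (σ.symm k) = -8
  have hact : ∀ v : leechLattice, ((g • v : leechLattice) : GolayPt → ℤ) = signedPerm σ c v := by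
    intro v
    funext k
    have h1 := hform v k
    unfold signedPerm
    by_cases hk : k ∈ c
    · have h2 : s (σ.symm k) = -8 := (Finset.mem_filter.1 hk).2
      rw [if_pos hk]
      rw [h2] at h1
      omega
    · have h2 : s (σ.symm k) = 8 := by
        rcases hs (σ.symm k) with a | a
        · exact a
        · exact absurd (show k ∈ c from Finset.mem_filter.2 ⟨Finset.mem_univ _, a⟩) hk
      rw [if_neg hk]
      rw [h2] at h1
      omega
  refine ⟨σ, ?_, c, ?_, hact⟩
  · rw [mem_M24_iff_forall]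
    intro d hd
    rw [← mem_supports_iff] at hd ⊢
    have hw := hact ⟨_, two_chi_mem hd⟩
    have hmem : signedPerm σ c (fun i => 2 * chi d i) ∈ leechLattice := by
      rw [← hw]; exact Subtype.coe_prop _
    obtain ⟨_, _, _, hc⟩ := mem_leechSet_iff.1 (mem_leechLattice_iff.1 hmem)
    have e : cls (signedPerm σ c (fun i => 2 * chi d i)) 2 = σ • d := by
      ext k
      have hk : k ∈ σ • d ↔ σ.symm k ∈ d := by
        have := mem_smul_finset_iff σ d (σ.symm k)
        rwa [Equiv.apply_symm_apply] at this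
      rw [mem_cls, hk]
      unfold signedPerm chi Int.ModEq
      by_cases h1 : k ∈ c <;> by_cases h2 : σ.symm k ∈ d <;> simp [h1, h2]
    rw [← e]; exact hc 2
  · have hw := hact ⟨_, v0_mem⟩
    have hmem : signedPerm σ c v0 ∈ leechLattice := by
      rw [← hw]; exact Subtype.coe_prop _
    obtain ⟨_, _, _, hc⟩ := mem_leechSet_iff.1 (mem_leechLattice_iff.1 hmem)
    have e : cls (signedPerm σ c v0) 3 = c := by
      ext k
      rw [mem_cls]
      unfold signedPerm v0 Int.ModEq
      by_cases h1 : k ∈ c <;> by_cases h2 : σ.symm k = none <;> simp [h1, h2]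
    rw [← e]; exact hc 3

/-- the monomial elements. -/
def monoEl (σ : M24) (c : {c : Finset GolayPt // c ∈ GC}) : Co0 :=
  signCo0 c.1 c.2 * permCo0 σ.1 σ.2

theorem monoEl_smul (σ : M24) (c : {c : Finset GolayPt // c ∈ GC}) (v : leechLattice) :
    ((monoEl σ c • v : leechLattice) : GolayPt → ℤ) = signedPerm σ.1 c.1 v := by
  unfold monoEl
  rw [mul_smul]
  funext k
  rw [signCo0_smul, permCo0_smul]
  rfl

theorem signedPerm_single (σ : Equiv.Perm GolayPt) (c : Finset GolayPt) (i : GolayPt) (t : ℤ) :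
    signedPerm σ c (Pi.single i t) = Pi.single (σ i) (if σ i ∈ c then -t else t) := by
  funext k
  unfold signedPerm
  by_cases hk : k = σ i
  · subst hk; simp
  · have : σ.symm k ≠ i := by
      intro h; apply hk; rw [← h, Equiv.apply_symm_apply]
    rw [Pi.single_eq_of_ne hk, Pi.single_eq_of_ne this]
    simp

theorem monoEl_preserves (σ : M24) (c : {c : Finset GolayPt // c ∈ GC}) : Preserves (monoEl σ c) := by
  rintro v ⟨i, t, ht, hv⟩
  rw [monoEl_smul, hv, signedPerm_single]
  refine ⟨σ.1 i, _, ?_, rfl⟩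
  split_ifs <;> rcases ht with rfl | rfl <;> simp

theorem monoEl_injective : Function.Injective (fun p : M24 × {c : Finset GolayPt // c ∈ GC} =>
    monoEl p.1 p.2) := by
  rintro ⟨σ, c⟩ ⟨σ', c'⟩ h
  have h1 : ∀ i, (Pi.single (σ.1 i) (if σ.1 i ∈ c.1 then -8 else 8) : GolayPt → ℤ)
      = Pi.single (σ'.1 i) (if σ'.1 i ∈ c'.1 then -8 else 8) := by
    intro i
    have h2 := congrArg (fun g : Co0 => ((g • E8 i : leechLattice) : GolayPt → ℤ)) h
    simp only [monoEl_smul, E8_coe, signedPerm_single] at h2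
    exact h2
  have hσ : ∀ i, σ.1 i = σ'.1 i := by
    intro i
    by_contra hne
    have h2 := congrFun (h1 i) (σ.1 i)
    rw [Pi.single_eq_same, Pi.single_eq_of_ne hne] at h2
    split_ifs at h2; omega
  have hσ' : σ = σ' := Subtype.ext (Equiv.ext hσ)
  subst hσ'
  have hc : c = c' := by
    apply Subtype.ext
    ext k
    have h2 := congrFun (h1 (σ.1.symm k)) k
    rw [Equiv.apply_symm_apply, Pi.single_eq_same, Pi.single_eq_same] at h2
    by_cases a : k ∈ c.1 <;> by_cases b : k ∈ c'.1 <;> simp [a, b] at h2 ⊢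
  rw [hc]

theorem exists_monoEl (g : Co0) (h : Preserves g) : ∃ σ c, g = monoEl σ c := by
  obtain ⟨σ, hσ, c, hc, hact⟩ := mono_of_preserves g h
  refine ⟨⟨σ, hσ⟩, ⟨c, hc⟩, co0_ext fun i => Subtype.ext ?_⟩
  rw [hact, monoEl_smul]

end Cfsg.Agent.Lib.Helper28
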