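import Cfsg.Agent.Lib.Helper28.LeechTriangles

/-!
Pairs of minimal vectors with inner product `-8`.
-/

set_option autoImplicit false

namespace Cfsg.Agent.Lib.Helper28

open Cfsg
open scoped Pointwise

/-- sign change on a set. -/
def sgn (c : Finset GolayPt) (x : GolayPt → ℤ) : GolayPt → ℤ := fun i => if i ∈ c then -x i else x i

theorem sgn_sgn (c d : Finset GolayPt) (x : GolayPt → ℤ) : sgn c (sgn d x) = sgn (symmDiff c d) x := by
  funext i
  unfold sgn
  by_cases h1 : i ∈ c <;> by_cases h2 : i ∈ d <;> simp [Finset.mem_symmDiff, h1, h2]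

theorem sgn_perm (σ : Equiv.Perm GolayPt) (c : Finset GolayPt) (x : GolayPt → ℤ) :
    (fun i => sgn c x (σ.symm i)) = sgn (σ • c) (fun i => x (σ.symm i)) := by
  funext i
  have h : i ∈ σ • c ↔ σ.symm i ∈ c := by
    have := mem_smul_finset_iff σ c (σ.symm i)
    rwa [Equiv.apply_symm_apply] at this
  unfold sgn
  simp only [h]

theorem sgn_empty (x : GolayPt → ℤ) : sgn ∅ x = x := by
  funext i; simp [sgn]

/-- a code word containing the first point and not the second. -/
def c0 : Finset GolayPt := un 13938692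

theorem c0_mem : c0 ∈ GC := by
  unfold c0
  rw [mem_supports_iff, mk_un (by decide)]
  decide +kernel

theorem none_mem_c0 : none ∈ c0 := by decide +kernel

theorem zero_not_mem_c0 : some 0 ∉ c0 := by decide +kernel

/-- the representative. -/
def rep223 : GolayPt → ℤ := sgn c0 (shp {some 1} ∅)

theorem sq_eq_one_iff_of_side' {a : ℤ} (h : a ^ 2 = 1) : a = 1 ∨ a = -1 := by
  have h1 : (a - 1) * (a + 1) = 0 := by ring_nf; omega
  rcases mul_eq_zero.1 h1 with h | h
  · left; omega
  · right; omega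

theorem sq_one_of_nine {y : GolayPt → ℤ} (hodd : ∀ i, y i % 2 = 1) (hn : sqNorm y = 32) {j : GolayPt}
    (hj : y j ^ 2 = 9) {i : GolayPt} (hi : i ≠ j) : y i ^ 2 = 1 := by
  have hpos : ∀ l, 0 ≤ y l ^ 2 - 1 := by
    intro l
    have h1 := hodd l
    have h3 : y l ≤ -1 ∨ 1 ≤ y l := by omega
    rcases h3 with h3 | h3 <;> nlinarith
  have hsum : ∑ l, (y l ^ 2 - 1) = 8 := by
    rw [Finset.sum_sub_distrib]
    have : ∑ l, y l ^ 2 = 32 := hn
    rw [this]; simp
  have h4 : ∑ l ∈ ({i, j} : Finset GolayPt), (y l ^ 2 - 1) ≤ ∑ l, (y l ^ 2 - 1) :=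
    Finset.sum_le_sum_of_subset_of_nonneg (Finset.subset_univ _) fun l _ _ => hpos l
  rw [Finset.sum_pair hi, hsum, hj] at h4
  have := hpos i
  omega

theorem eqvH_pattern31 {y : GolayPt → ℤ} (hy : y ∈ leechLattice) (ho : y none % 2 = 1)
    (hn : sqNorm y = 32) (hd : y none - y (some 0) = -2) :
    ∃ y', EqvH y y' ∧ y' none % 4 = 3 := by
  by_cases h3 : y none % 4 = 3
  · exact ⟨y, EqvH.refl hy, h3⟩
  have odd : ∀ i, y i % 2 = 1 := fun i => by rw [parity_of_mem hy i none, ho]
  have b1 := sq_le_sqNorm y none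
  have b2 := sq_le_sqNorm y (some 0)
  rw [hn] at b1 b2
  have r1 : -5 ≤ y none ∧ y none ≤ 5 := by constructor <;> nlinarith
  have r2 : -5 ≤ y (some 0) ∧ y (some 0) ≤ 5 := by constructor <;> nlinarith
  have hcase : (y none = 1 ∧ y (some 0) = 3) ∨ (y none = -3 ∧ y (some 0) = -1) := by omega
  have hone : ∀ i, i ≠ none → i ≠ some 0 → y i ^ 2 = 1 := by
    intro i h1 h2
    rcases hcase with ⟨_, h⟩ | ⟨h, _⟩
    · exact sq_one_of_nine odd hn (j := some 0) (by rw [h]; norm_num) h2
    · exact sq_one_of_nine odd hn (j := none) (by rw [h]; norm_num) h1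
  have hc := cls_mem_GC hy 3
  have h0c : some 0 ∈ cls y 3 := by rw [mem_cls]; unfold Int.ModEq; omega
  have hnc : none ∉ cls y 3 := by rw [mem_cls]; unfold Int.ModEq; omega
  have hcard := gc_card_cases hc
  have hpos : 0 < (cls y 3).card := Finset.card_pos.2 ⟨_, h0c⟩
  have hlt : (cls y 3).card < 24 := by
    have := Finset.card_lt_univ_of_notMem hnc
    rwa [card_golayPt] at this
  obtain ⟨b, hb, hb'⟩ := exists_mem_not_mem (s := cls y 3) (t := {none, some 0})
    (lt_of_le_of_lt Finset.card_le_two (by omega))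
  obtain ⟨a, ha, ha'⟩ := exists_mem_not_mem (s := (cls y 3)ᶜ) (t := {none, some 0})
    (lt_of_le_of_lt Finset.card_le_two (by rw [Finset.card_compl, card_golayPt]; omega))
  simp only [Finset.mem_insert, Finset.mem_singleton, not_or] at ha' hb'
  have hab : a ≠ b := fun h => (Finset.mem_compl.1 ha) (h ▸ hb)
  obtain ⟨y', hy', he2⟩ := exists_moveH hy (a := a) (b := b) (by
    simp [Ne.symm ha'.1, Ne.symm ha'.2, Ne.symm hb'.1, Ne.symm hb'.2, hab])
  refine ⟨y', hy', ?_⟩
  have eb : y b = -1 := by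
    have h1 := mem_cls.1 hb
    rcases sq_eq_one_iff_of_side' (hone b hb'.1 hb'.2) with h | h
    · rw [h] at h1; exact absurd h1 (by decide)
    · exact h
  have ea : y a = 1 := by
    have h1 : ¬ (y a ≡ 3 [ZMOD 4]) := fun h => (Finset.mem_compl.1 ha) (mem_cls.2 h)
    rcases sq_eq_one_iff_of_side' (hone a ha'.1 ha'.2) with h | h
    · exact h
    · rw [h] at h1; exact absurd (by decide) h1
  rw [ea, eb] at he2
  omega

theorem eqvH_rep223 {w : GolayPt → ℤ} (hw : w ∈ leechLattice) (hn : sqNorm w = 32)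
    (hd : w none - w (some 0) = -2) : EqvH w rep223 := by
  obtain ⟨y0, hy0, hy01⟩ := oddifyH hw (by omega) (Or.inr (by omega))
  obtain ⟨y, hy1, hy3⟩ := eqvH_pattern31 hy0.mem_right hy01 (by rw [hy0.norm, hn])
    (by rw [hy0.diff, hd])
  have hy := hy0.trans hy1
  have hyd := hy.diff
  have hyL := hy.mem_right
  have odd : ∀ i, y i % 2 = 1 := fun i => by rw [parity_of_mem hyL i none]; omega
  have hcls := cls_mem_GC hyL 3
  have hn3 : none ∈ cls y 3 := by rw [mem_cls]; unfold Int.ModEq; omega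
  have h03 : some 0 ∉ cls y 3 := by rw [mem_cls]; unfold Int.ModEq; omega
  -- the allowed sign change
  have hstep1 : EqvH y (sgn (symmDiff (cls y 3) c0) y) := by
    refine eqvH_sign (gc_symmDiff hcls c0_mem) ?_ ?_ hyL
    · rw [Finset.mem_symmDiff]; simp [hn3, none_mem_c0]
    · rw [Finset.mem_symmDiff]; simp [h03, zero_not_mem_c0]
  have hz' : sgn (symmDiff (cls y 3) c0) y = sgn c0 (sgn (cls y 3) y) := by
    rw [sgn_sgn, symmDiff_comm]
  have hz'L : sgn (cls y 3) y ∈ leechLattice := leech_sign hcls hyL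
  have hz'1 : ∀ i, sgn (cls y 3) y i % 4 = 1 := by
    intro i
    have h1 := odd i
    unfold sgn
    by_cases hi : i ∈ cls y 3
    · have h2 := mem_cls.1 hi
      simp only [hi, if_true]
      unfold Int.ModEq at h2
      omega
    · have h2 : ¬ (y i ≡ 3 [ZMOD 4]) := fun h => hi (mem_cls.2 h)
      simp only [hi, if_false]
      unfold Int.ModEq at h2
      omega
  have hz'n : sqNorm (sgn (cls y 3) y) = 32 := by
    have := (eqv_sign hcls hyL).norm
    rw [hy.norm, hn] at this
    exact this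
  obtain ⟨A, B, hdis, hAB, hN⟩ := shape_of_normalized hz'1 (by omega)
  have hcases : A.card = 1 ∧ B.card = 0 := by omega
  obtain ⟨j, rfl⟩ := Finset.card_eq_one.1 hcases.1
  have hB : B = ∅ := Finset.card_eq_zero.1 hcases.2
  subst hB
  rw [hz', hAB] at hstep1
  have hv1 : sgn (cls y 3) y none = -y none := by simp [sgn, hn3]
  have hv2 : sgn (cls y 3) y (some 0) = y (some 0) := by simp [sgn, h03]
  rw [hAB] at hv1 hv2
  have hjn : j ≠ none := by
    rintro rfl
    have e1 : shp {none} ∅ none = -3 := by simp [shp]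
    have e2 : shp {none} ∅ (some 0) = 1 := by simp [shp]
    omega
  have hj0 : j ≠ some 0 := by
    rintro rfl
    have e1 : shp {some 0} ∅ none = 1 := by simp [shp]
    have e2 : shp {some 0} ∅ (some 0) = -3 := by simp [shp]
    omega
  obtain ⟨σ, hσ, hmap⟩ := exists_M24_map_list [none, some 0, j] [none, some 0, some 1] rfl (by simp)
    (by simp [Ne.symm hjn, Ne.symm hj0]) (by decide)
  simp only [List.map_cons, List.map_nil, List.cons.injEq, and_true] at hmap
  obtain ⟨h1, h2, h3⟩ := hmap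
  have hstep2 := eqvH_perm hσ h1 h2 hstep1.mem_right
  rw [sgn_perm, shp_perm] at hstep2
  have e1 : σ • ({j} : Finset GolayPt) = {some 1} := by
    rw [smul_finset_eq_image, Finset.image_singleton, h3]
  have e2 : σ • (∅ : Finset GolayPt) = ∅ := by rw [smul_finset_eq_image, Finset.image_empty]
  rw [e1, e2] at hstep2
  have hσc : σ • c0 ∈ GC := gc_smul hσ c0_mem
  have hn' : none ∈ σ • c0 := by
    have := (mem_smul_finset_iff σ c0 none).2 none_mem_c0
    rwa [h1] at this
  have h0' : some 0 ∉ σ • c0 := by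
    intro h
    have := (mem_smul_finset_iff σ c0 (some 0)).1 (by rw [h2]; exact h)
    exact zero_not_mem_c0 this
  have hstep3 : EqvH (sgn (σ • c0) (shp {some 1} ∅))
      (sgn (symmDiff c0 (σ • c0)) (sgn (σ • c0) (shp {some 1} ∅))) := by
    refine eqvH_sign (gc_symmDiff c0_mem hσc) ?_ ?_ hstep2.mem_right
    · rw [Finset.mem_symmDiff]; simp [hn', none_mem_c0]
    · rw [Finset.mem_symmDiff]; simp [h0', zero_not_mem_c0]
  rw [sgn_sgn, symmDiff_assoc, symmDiff_self] at hstep3
  have e3 : symmDiff c0 (⊥ : Finset GolayPt) = c0 := symmDiff_bot c0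
  rw [e3] at hstep3
  exact ((hy.trans hstep1).trans hstep2).trans hstep3

/-- pairs of minimal vectors with inner product `-8`. -/
theorem co0_trans223 (v v' w w' : leechLattice) (hv : sqNorm (v : GolayPt → ℤ) = 32)
    (hv' : sqNorm (v' : GolayPt → ℤ) = 32)
    (hw : sqNorm (w : GolayPt → ℤ) = 32) (hw' : sqNorm (w' : GolayPt → ℤ) = 32)
    (hd : dotInt (v : GolayPt → ℤ) (w : GolayPt → ℤ) = -8)
    (hd' : dotInt (v' : GolayPt → ℤ) (w' : GolayPt → ℤ) = -8) :
    ∃ g : Co0, g • v = v' ∧ g • w = w' := by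
  obtain ⟨g0, hg0⟩ := co0_trans32 v vMinus hv sqNorm_vMinus
  obtain ⟨g0', hg0'⟩ := co0_trans32 v' vMinus hv' sqNorm_vMinus
  have k1 : EqvH ((g0 • w : leechLattice) : GolayPt → ℤ) rep223 := by
    refine eqvH_rep223 (Subtype.coe_prop _) (by rw [co0_norm, hw]) ?_
    have h1 := co0_dot g0 v w
    rw [hg0, dot_vMinus, hd] at h1
    omega
  have k2 : EqvH ((g0' • w' : leechLattice) : GolayPt → ℤ) rep223 := by
    refine eqvH_rep223 (Subtype.coe_prop _) (by rw [co0_norm, hw']) ?_
    have h1 := co0_dot g0' v' w'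
    rw [hg0', dot_vMinus, hd'] at h1
    omega
  obtain ⟨h, hh1, hh2⟩ := eqvH_iff.1 (k1.trans k2.symm)
  refine ⟨g0'⁻¹ * h * g0, ?_, ?_⟩
  · rw [mul_smul, mul_smul, hg0, hh1, ← hg0', inv_smul_smul]
  · rw [mul_smul, mul_smul, hh2, inv_smul_smul]

end Cfsg.Agent.Lib.Helper28
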