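import Cfsg.Agent.Lib.Helper28.LeechHS
import Cfsg.Agent.Lib.Helper28.LeechMod2
import Cfsg.Agent.Lib.Helper28.LeechTri223

/-!
A normal subgroup of `Co0` is central or transitive on the minimal vectors.
-/

set_option autoImplicit false

namespace Cfsg.Agent.Lib.Helper28

open Cfsg
open scoped Pointwise

theorem dotInt_neg_right (x y : GolayPt → ℤ) : dotInt x (-y) = -dotInt x y := by
  unfold dotInt
  simp

/-- the possible inner products of two minimal vectors. -/
theorem dot_cases {v w : GolayPt → ℤ} (hv : v ∈ leechLattice) (hw : w ∈ leechLattice)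
    (hvn : sqNorm v = 32) (hwn : sqNorm w = 32) :
    (dotInt v w = 32 ∧ w = v) ∨ (dotInt v w = -32 ∧ w = -v) ∨ dotInt v w = 16 ∨ dotInt v w = -16 ∨
      dotInt v w = 8 ∨ dotInt v w = -8 ∨ dotInt v w = 0 := by
  have h8 := eight_dvd_dotInt hv hw
  have h1 := sqNorm_sub v w
  have h2 := sqNorm_add v w
  by_cases e1 : w = v
  · left
    refine ⟨?_, e1⟩
    rw [e1, sub_self, sqNorm_eq_zero.2 rfl] at h1
    rw [e1]; omega
  · by_cases e2 : w = -v
    · right; left
      refine ⟨?_, e2⟩
      rw [e2, add_neg_cancel, sqNorm_eq_zero.2 rfl, sqNorm_neg] at h2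
      rw [e2]; omega
    · have h3 := min_sqNorm (leechLattice.sub_mem hv hw) (fun h => e1 (sub_eq_zero.1 h).symm)
      have h4 := min_sqNorm (leechLattice.add_mem hv hw)
        (fun h => e2 (eq_neg_of_add_eq_zero_right h))
      omega

/-- the stabiliser of a minimal vector is transitive on the minimal vectors with a given inner product. -/
theorem trans_same_dot (v y y' : leechLattice) (hv : sqNorm (v : GolayPt → ℤ) = 32)
    (hy : sqNorm (y : GolayPt → ℤ) = 32) (hy' : sqNorm (y' : GolayPt → ℤ) = 32)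
    (h : dotInt (v : GolayPt → ℤ) (y : GolayPt → ℤ) = dotInt (v : GolayPt → ℤ) (y' : GolayPt → ℤ)) :
    ∃ g : Co0, g • v = v ∧ g • y = y' := by
  have hneg : ∀ z : leechLattice, sqNorm ((-z : leechLattice) : GolayPt → ℤ) = sqNorm (z : GolayPt → ℤ) := by
    intro z; rw [AddSubgroup.coe_neg, sqNorm_neg]
  have hdn : ∀ z : leechLattice, dotInt (v : GolayPt → ℤ) ((-z : leechLattice) : GolayPt → ℤ)
      = -dotInt (v : GolayPt → ℤ) (z : GolayPt → ℤ) := by
    intro z; rw [AddSubgroup.coe_neg, dotInt_neg_right]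
  have hflip : (∃ g : Co0, g • v = v ∧ g • (-y) = -y') → ∃ g : Co0, g • v = v ∧ g • y = y' := by
    rintro ⟨g, h1, h2⟩
    rw [co0_neg] at h2
    exact ⟨g, h1, neg_injective h2⟩
  rcases dot_cases v.2 y.2 hv hy with a | a | a | a | a | a | a
  · rcases dot_cases v.2 y'.2 hv hy' with b | b | b | b | b | b | b
    · exact ⟨1, one_smul _ _, by rw [one_smul]; exact Subtype.ext (a.2.trans b.2.symm)⟩
    all_goals omega
  · rcases dot_cases v.2 y'.2 hv hy' with b | b | b | b | b | b | b
    · omega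
    · exact ⟨1, one_smul _ _, by rw [one_smul]; exact Subtype.ext (a.2.trans b.2.symm)⟩
    all_goals omega
  · exact hflip (co0_trans222 v (-y) (-y') hv (by rw [hneg, hy]) (by rw [hneg, hy'])
      (by rw [hdn]; omega) (by rw [hdn]; omega))
  · exact co0_trans222 v y y' hv hy hy' a (by omega)
  · exact hflip (co0_trans223 v v (-y) (-y') hv hv (by rw [hneg, hy]) (by rw [hneg, hy'])
      (by rw [hdn]; omega) (by rw [hdn]; omega))
  · exact co0_trans223 v v y y' hv hv hy hy' a (by omega)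
  · exact co0_trans_orth v y y' hv hy hy' a (by omega)

/-- the number of minimal vectors with a given inner product with `vMinus`. -/
noncomputable def nT (d : ℤ) : ℕ := {w : leechLattice | sqNorm (w : GolayPt → ℤ) = 32 ∧
  dotInt ((vMinus : leechLattice) : GolayPt → ℤ) (w : GolayPt → ℤ) = d}.ncard

theorem nT_neg (d : ℤ) : nT (-d) = nT d := by
  unfold nT
  apply ncard_smul_congr negCo0
  intro w
  rw [negCo0_smul, AddSubgroup.coe_neg, sqNorm_neg, dotInt_neg_right]
  constructor
  · rintro ⟨a, b⟩; exact ⟨a, by omega⟩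
  · rintro ⟨a, b⟩; exact ⟨a, by omega⟩

theorem nT_m16 : nT (-16) = 4600 := by
  unfold nT
  rw [← ncard_val (fun w => sqNorm w = 32 ∧ dotInt ((vMinus : leechLattice) : GolayPt → ℤ) w = -16)]
  exact (census vMinus sqNorm_vMinus).1

theorem nT_m8 : nT (-8) = 47104 := by
  unfold nT
  rw [← ncard_val (fun w => sqNorm w = 32 ∧ dotInt ((vMinus : leechLattice) : GolayPt → ℤ) w = -8)]
  exact (census vMinus sqNorm_vMinus).2.1

theorem nT_0 : nT 0 = 93150 := by
  unfold nT
  rw [← ncard_val (fun w => sqNorm w = 32 ∧ dotInt ((vMinus : leechLattice) : GolayPt → ℤ) w = 0)]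
  exact (census vMinus sqNorm_vMinus).2.2

theorem nT_16 : nT 16 = 4600 := by rw [← nT_neg, nT_m16]

theorem nT_8 : nT 8 = 47104 := by rw [← nT_neg, nT_m8]

theorem nT_32 : nT 32 = 1 := by
  unfold nT
  rw [Set.ncard_eq_one]
  refine ⟨vMinus, ?_⟩
  ext w
  simp only [Set.mem_ofPred_eq, Set.mem_singleton_iff]
  constructor
  · rintro ⟨a, b⟩
    rcases dot_cases vMinus.2 w.2 sqNorm_vMinus a with c | c | c | c | c | c | c
    · exact Subtype.ext c.2
    all_goals omega
  · rintro rfl
    refine ⟨sqNorm_vMinus, ?_⟩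
    rw [dotInt_self, sqNorm_vMinus]

theorem nT_m32 : nT (-32) = 1 := by rw [nT_neg, nT_32]

theorem arith_blocks : ∀ e1 e2 e3 e4 e5 e6 : Bool,
    (1 + bn e1 * 1 + bn e2 * 4600 + bn e3 * 4600 + bn e4 * 47104 + bn e5 * 47104 + bn e6 * 93150)
      ∣ 196560 →
    (e2 = false ∧ e3 = false ∧ e4 = false ∧ e5 = false ∧ e6 = false) ∨
    (e1 = true ∧ e2 = true ∧ e3 = true ∧ e4 = true ∧ e5 = true ∧ e6 = true) := by
  intro e1 e2 e3 e4 e5 e6
  cases e1 <;> cases e2 <;> cases e3 <;> cases e4 <;> cases e5 <;> cases e6 <;> decide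

theorem card_stab32 (v : leechLattice) (hv : sqNorm (v : GolayPt → ℤ) = 32) :
    Nat.card (MulAction.stabilizer Co0 v) = 42305421312000 := by
  have h1 := Subgroup.card_mul_index (MulAction.stabilizer Co0 v)
  rw [MulAction.index_stabilizer, card_Co0] at h1
  have h2 : (MulAction.orbit Co0 v).ncard = 196560 := by
    rw [← ncard_norm32, ncard_val (fun x => sqNorm x = 32)]
    congr 1
    ext x
    constructor
    · rintro ⟨g, rfl⟩
      show sqNorm ((g • v : leechLattice) : GolayPt → ℤ) = 32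
      rw [co0_norm, hv]
    · intro hx
      exact co0_trans32 v x hv hx
  rw [h2] at h1
  omega


section normal

variable (K : Subgroup Co0) [hK : K.Normal]

/-- the orbit of `vMinus` under `K`. -/
def orbK : Set leechLattice := {y | ∃ k ∈ K, k • vMinus = y}

omit hK in
theorem orbK_norm {y : leechLattice} (hy : y ∈ orbK K) : sqNorm (y : GolayPt → ℤ) = 32 := by
  obtain ⟨k, _, rfl⟩ := hy
  rw [co0_norm, sqNorm_vMinus]

theorem finite_norm32 : {y : leechLattice | sqNorm (y : GolayPt → ℤ) = 32}.Finite := by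
  apply Set.finite_of_ncard_ne_zero
  rw [← ncard_val (fun x => sqNorm x = 32), ncard_norm32]
  decide

omit hK in
theorem finite_orbK : (orbK K).Finite := finite_norm32.subset fun _ hy => orbK_norm K hy

include hK in
theorem orbK_same_dot {y y' : leechLattice} (hy : y ∈ orbK K) (hy' : sqNorm (y' : GolayPt → ℤ) = 32)
    (h : dotInt ((vMinus : leechLattice) : GolayPt → ℤ) (y : GolayPt → ℤ)
      = dotInt ((vMinus : leechLattice) : GolayPt → ℤ) (y' : GolayPt → ℤ)) : y' ∈ orbK K := by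
  obtain ⟨s, hs1, hs2⟩ := trans_same_dot vMinus y y' sqNorm_vMinus (orbK_norm K hy) hy' h
  obtain ⟨k, hk, rfl⟩ := hy
  refine ⟨s * k * s⁻¹, hK.conj_mem k hk s, ?_⟩
  rw [mul_smul, mul_smul]
  have : s⁻¹ • vMinus = vMinus := by rw [inv_smul_eq_iff, hs1]
  rw [this, hs2]

include hK in
theorem ncard_orbK_dvd : (orbK K).ncard ∣ 196560 := by
  have hO : ∀ y, y ∈ orbK K ↔ ∃ g ∈ K ⊔ MulAction.stabilizer Co0 vMinus, g • vMinus = y := by
    intro y
    constructor
    · rintro ⟨k, hk, rfl⟩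
      exact ⟨k, Subgroup.mem_sup_left hk, rfl⟩
    · rintro ⟨g, hg, rfl⟩
      have hg' : g ∈ ((K ⊔ MulAction.stabilizer Co0 vMinus : Subgroup Co0) : Set Co0) := hg
      rw [Subgroup.normal_mul] at hg'
      obtain ⟨k, hk, s, hs, rfl⟩ := hg'
      have hs' : s • vMinus = vMinus := hs
      exact ⟨k, hk, by rw [mul_smul, hs']⟩
  have h1 := card_eq_stab_mul (K ⊔ MulAction.stabilizer Co0 vMinus) vMinus (orbK K) hO
  rw [inf_eq_right.2 le_sup_right, card_stab32 vMinus sqNorm_vMinus] at h1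
  have h2 := Subgroup.card_subgroup_dvd_card (K ⊔ MulAction.stabilizer Co0 vMinus)
  rw [h1, card_Co0] at h2
  have e : (8315553613086720000 : ℕ) = 42305421312000 * 196560 := by norm_num
  rw [e] at h2
  exact Nat.dvd_of_mul_dvd_mul_left (by norm_num) h2

open Classical in
include hK in
theorem ncard_orbK_fiber (d : ℤ) :
    {y | y ∈ orbK K ∧ dotInt ((vMinus : leechLattice) : GolayPt → ℤ) (y : GolayPt → ℤ) = d}.ncard
      = bn (decide (∃ y ∈ orbK K,
          dotInt ((vMinus : leechLattice) : GolayPt → ℤ) (y : GolayPt → ℤ) = d)) * nT d := by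
  by_cases h : ∃ y ∈ orbK K, dotInt ((vMinus : leechLattice) : GolayPt → ℤ) (y : GolayPt → ℤ) = d
  · rw [decide_eq_true h]
    unfold bn nT
    rw [if_pos rfl, one_mul]
    congr 1
    ext y'
    obtain ⟨y, hy, hd⟩ := h
    constructor
    · rintro ⟨a, b⟩; exact ⟨orbK_norm K a, b⟩
    · rintro ⟨a, b⟩; exact ⟨orbK_same_dot K hy a (hd.trans b.symm), b⟩
  · rw [decide_eq_false h]
    unfold bn
    simp only [Bool.false_eq_true, if_false, zero_mul]
    rw [Set.ncard_eq_zero (Set.Finite.subset (finite_orbK K) fun y hy => hy.1)]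
    ext y
    simp only [Set.mem_ofPred_eq, Set.mem_empty_iff_false, iff_false]
    rintro ⟨a, b⟩
    exact h ⟨y, a, b⟩

include hK in
/-- a normal subgroup consists of `1` and `-1` only, or is transitive on the minimal vectors. -/
theorem normal_central_or_trans : (∀ k ∈ K, k = 1 ∨ k = negCo0) ∨
    (∀ y : leechLattice, sqNorm (y : GolayPt → ℤ) = 32 → y ∈ orbK K) := by
  classical
  have hsum := ncard_fiber_sum (orbK K) (finite_orbK K)
    (fun y => dotInt ((vMinus : leechLattice) : GolayPt → ℤ) (y : GolayPt → ℤ))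
    ({32, -32, 16, -16, 8, -8, 0} : Finset ℤ) (by
      intro y hy
      simp only [Finset.mem_insert, Finset.mem_singleton]
      rcases dot_cases vMinus.2 y.2 sqNorm_vMinus (orbK_norm K hy) with c | c | c | c | c | c | c
      · exact Or.inl c.1
      · exact Or.inr (Or.inl c.1)
      · exact Or.inr (Or.inr (Or.inl c))
      · exact Or.inr (Or.inr (Or.inr (Or.inl c)))
      · exact Or.inr (Or.inr (Or.inr (Or.inr (Or.inl c))))
      · exact Or.inr (Or.inr (Or.inr (Or.inr (Or.inr (Or.inl c)))))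
      · exact Or.inr (Or.inr (Or.inr (Or.inr (Or.inr (Or.inr c))))))
  simp only [ncard_orbK_fiber K] at hsum
  rw [Finset.sum_insert (by decide), Finset.sum_insert (by decide), Finset.sum_insert (by decide),
    Finset.sum_insert (by decide), Finset.sum_insert (by decide), Finset.sum_insert (by decide),
    Finset.sum_singleton, nT_32, nT_m32, nT_16, nT_m16, nT_8, nT_m8, nT_0] at hsum
  have h32 : ∃ y ∈ orbK K, dotInt ((vMinus : leechLattice) : GolayPt → ℤ) (y : GolayPt → ℤ) = 32 :=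
    ⟨vMinus, ⟨1, K.one_mem, one_smul _ _⟩, by rw [dotInt_self, sqNorm_vMinus]⟩
  rw [decide_eq_true h32] at hsum
  have hdvd := ncard_orbK_dvd K
  rw [hsum] at hdvd
  have e1 : bn true * 1 = 1 := rfl
  rw [e1] at hdvd
  have := arith_blocks
    (decide (∃ y ∈ orbK K, dotInt ((vMinus : leechLattice) : GolayPt → ℤ) (y : GolayPt → ℤ) = -32))
    (decide (∃ y ∈ orbK K, dotInt ((vMinus : leechLattice) : GolayPt → ℤ) (y : GolayPt → ℤ) = 16))
    (decide (∃ y ∈ orbK K, dotInt ((vMinus : leechLattice) : GolayPt → ℤ) (y : GolayPt → ℤ) = -16))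
    (decide (∃ y ∈ orbK K, dotInt ((vMinus : leechLattice) : GolayPt → ℤ) (y : GolayPt → ℤ) = 8))
    (decide (∃ y ∈ orbK K, dotInt ((vMinus : leechLattice) : GolayPt → ℤ) (y : GolayPt → ℤ) = -8))
    (decide (∃ y ∈ orbK K, dotInt ((vMinus : leechLattice) : GolayPt → ℤ) (y : GolayPt → ℤ) = 0))
    (by
      convert hdvd using 1
      ring)
  rcases this with ⟨a2, a3, a4, a5, a6⟩ | ⟨a1, a2, a3, a4, a5, a6⟩
  · left
    rw [decide_eq_false_iff_not] at a2 a3 a4 a5 a6
    have hpm : ∀ k ∈ K, k • vMinus = vMinus ∨ k • vMinus = -vMinus := by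
      intro k hk
      have hy : k • vMinus ∈ orbK K := ⟨k, hk, rfl⟩
      rcases dot_cases vMinus.2 (k • vMinus).2 sqNorm_vMinus (orbK_norm K hy)
        with c | c | c | c | c | c | c
      · exact Or.inl (Subtype.ext c.2)
      · exact Or.inr (Subtype.ext c.2)
      · exact absurd ⟨_, hy, c⟩ a2
      · exact absurd ⟨_, hy, c⟩ a3
      · exact absurd ⟨_, hy, c⟩ a4
      · exact absurd ⟨_, hy, c⟩ a5
      · exact absurd ⟨_, hy, c⟩ a6
    intro k hk
    apply eq_one_or_neg_of_pm
    intro w hw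
    obtain ⟨g, hg⟩ := co0_trans32 vMinus w sqNorm_vMinus hw
    have h1 := hpm (g⁻¹ * k * g) (by
      have := hK.conj_mem k hk g⁻¹
      rwa [inv_inv] at this)
    rw [mul_smul, mul_smul, hg, inv_smul_eq_iff, inv_smul_eq_iff, co0_neg, hg] at h1
    exact h1
  · right
    rw [decide_eq_true_iff] at a1 a2 a3 a4 a5 a6
    intro y hy
    rcases dot_cases vMinus.2 y.2 sqNorm_vMinus hy with c | c | c | c | c | c | c
    · obtain ⟨z, hz, hd⟩ := h32; exact orbK_same_dot K hz hy (hd.trans c.1.symm)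
    · obtain ⟨z, hz, hd⟩ := a1; exact orbK_same_dot K hz hy (hd.trans c.1.symm)
    · obtain ⟨z, hz, hd⟩ := a2; exact orbK_same_dot K hz hy (hd.trans c.symm)
    · obtain ⟨z, hz, hd⟩ := a3; exact orbK_same_dot K hz hy (hd.trans c.symm)
    · obtain ⟨z, hz, hd⟩ := a4; exact orbK_same_dot K hz hy (hd.trans c.symm)
    · obtain ⟨z, hz, hd⟩ := a5; exact orbK_same_dot K hz hy (hd.trans c.symm)
    · obtain ⟨z, hz, hd⟩ := a6; exact orbK_same_dot K hz hy (hd.trans c.symm)

end normal

end Cfsg.Agent.Lib.Helper28
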