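import Cfsg.Agent.Lib.Helper28.LeechNormal1
import Cfsg.Agent.Lib.Helper28.LeechGenBy
import Cfsg.Agent.Lib.Helper28.GolayIrr
import Cfsg.Agent.Lib.Helper3.M24Simple

/-!
Normal subgroups of `Co0`.
-/

set_option autoImplicit false

namespace Cfsg.Agent.Lib.Helper28

open Cfsg
open scoped Pointwise

theorem sign_mul_sign (c d : Finset GolayPt) (hc : c ∈ GC) (hd : d ∈ GC) :
    signCo0 c hc * signCo0 d hd = signCo0 (symmDiff c d) (gc_symmDiff hc hd) := by
  apply co0_ext'
  intro v
  apply Subtype.ext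
  funext i
  rw [mul_smul, signCo0_smul, signCo0_smul, signCo0_smul]
  by_cases h1 : i ∈ c <;> by_cases h2 : i ∈ d <;> simp [Finset.mem_symmDiff, h1, h2]

theorem sign_empty : signCo0 ∅ gc_empty = 1 := by
  apply co0_ext'
  intro v
  apply Subtype.ext
  funext i
  rw [signCo0_smul, one_smul]
  simp

theorem sign_inv (c : Finset GolayPt) (hc : c ∈ GC) : (signCo0 c hc)⁻¹ = signCo0 c hc := by
  rw [inv_eq_iff_mul_eq_one, sign_mul_sign]
  have : symmDiff c c = ∅ := symmDiff_self c
  simp only [this]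
  exact sign_empty

theorem sign_congr {c d : Finset GolayPt} (h : c = d) (hc : c ∈ GC) (hd : d ∈ GC) :
    signCo0 c hc = signCo0 d hd := by subst h; rfl

theorem sign_injective {c d : Finset GolayPt} (hc : c ∈ GC) (hd : d ∈ GC)
    (h : signCo0 c hc = signCo0 d hd) : c = d := by
  ext i
  have h1 := congrFun (congrArg (fun g : Co0 => ((g • E8 i : leechLattice) : GolayPt → ℤ)) h) i
  simp only [signCo0_smul, E8_coe, Pi.single_eq_same] at h1
  by_cases a : i ∈ c <;> by_cases b : i ∈ d <;> simp [a, b] at h1 ⊢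

theorem perm_conj_sign (σ : Equiv.Perm GolayPt) (hσ : σ ∈ M24) (d : Finset GolayPt) (hd : d ∈ GC) :
    permCo0 σ hσ * signCo0 d hd * (permCo0 σ hσ)⁻¹ = signCo0 (σ • d) (gc_smul hσ hd) := by
  rw [mul_inv_eq_iff_eq_mul]
  apply co0_ext'
  intro v
  apply Subtype.ext
  funext i
  rw [mul_smul, mul_smul, permCo0_smul, signCo0_smul, signCo0_smul, permCo0_smul]
  have h : i ∈ σ • d ↔ σ.symm i ∈ d := by
    have := mem_smul_finset_iff σ d (σ.symm i)
    rwa [Equiv.apply_symm_apply] at this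
  simp only [h]

theorem mono_conj_sign (σ : M24) (c : {c : Finset GolayPt // c ∈ GC}) (d : Finset GolayPt)
    (hd : d ∈ GC) :
    monoEl σ c * signCo0 d hd * (monoEl σ c)⁻¹ = signCo0 (σ.1 • d) (gc_smul σ.2 hd) := by
  unfold monoEl
  have e : signCo0 c.1 c.2 * permCo0 σ.1 σ.2 * signCo0 d hd * (signCo0 c.1 c.2 * permCo0 σ.1 σ.2)⁻¹
      = signCo0 c.1 c.2 * (permCo0 σ.1 σ.2 * signCo0 d hd * (permCo0 σ.1 σ.2)⁻¹)
        * (signCo0 c.1 c.2)⁻¹ := by group
  rw [e, perm_conj_sign, sign_inv, sign_mul_sign, sign_mul_sign]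
  apply sign_congr
  ext i
  simp only [Finset.mem_symmDiff]
  tauto

/-- the coordinate permutations, as a homomorphism. -/
def permHom : M24 →* Co0 where
  toFun σ := permCo0 σ.1 σ.2
  map_one' := by
    apply co0_ext'
    intro v
    apply Subtype.ext
    funext i
    rw [permCo0_smul, one_smul]
    rfl
  map_mul' σ τ := by
    apply co0_ext'
    intro v
    apply Subtype.ext
    funext i
    rw [mul_smul, permCo0_smul, permCo0_smul, permCo0_smul]
    rfl

theorem permHom_apply (σ : M24) : permHom σ = permCo0 σ.1 σ.2 := rfl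

theorem monoEl_one (c : {c : Finset GolayPt // c ∈ GC}) : monoEl 1 c = signCo0 c.1 c.2 := by
  unfold monoEl
  have : permCo0 (1 : M24).1 (1 : M24).2 = 1 := permHom.map_one
  rw [this, mul_one]

theorem xi_mul_xi : xiCo0 * xiCo0 = 1 := by
  apply co0_ext'
  intro v
  apply Subtype.ext
  rw [mul_smul, xiCo0_smul, xiCo0_smul, one_smul, xiF_xiF v.2]

/-- the monomial subgroup. -/
def Nsub : Subgroup Co0 where
  carrier := {g | Preserves g}
  one_mem' := fun v hv => by rw [one_smul]; exact hv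
  mul_mem' := fun {a b} ha hb v hv => by rw [mul_smul]; exact ha _ (hb v hv)
  inv_mem' := by
    intro g hg
    obtain ⟨σ, c, rfl⟩ := exists_monoEl g hg
    rintro v ⟨i, t, ht, hv⟩
    have hu : (Pi.single (σ.1.symm i) (if i ∈ c.1 then -t else t) : GolayPt → ℤ) ∈ leechLattice := by
      have h1 := single8_mem (σ.1.symm i)
      have h2 := leechLattice.neg_mem h1
      rw [← Pi.single_neg] at h2
      rcases ht with rfl | rfl <;> split_ifs <;> simp_all
    have e : monoEl σ c • (⟨_, hu⟩ : leechLattice) = v := by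
      apply Subtype.ext
      rw [monoEl_smul, signedPerm_single, hv, Equiv.apply_symm_apply]
      congr 1
      split_ifs <;> simp
    rw [← e, inv_smul_smul]
    refine ⟨_, _, ?_, rfl⟩
    rcases ht with rfl | rfl <;> split_ifs <;> simp

theorem mem_Nsub {g : Co0} : g ∈ Nsub ↔ Preserves g := Iff.rfl

theorem card_Nsub : Nat.card Nsub = 4096 * 244823040 := card_preserves

theorem index_Nsub : Nsub.index = 8292375 := by
  have h := Subgroup.card_mul_index Nsub
  rw [card_Nsub, card_Co0] at h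
  omega

/-- subgroups of sign changes. -/
def signSub (p : Finset GolayPt → Prop) (h0 : p ∅)
    (hadd : ∀ c d, p c → p d → p (symmDiff c d)) : Subgroup Co0 where
  carrier := {g | ∃ c, ∃ hc : c ∈ GC, p c ∧ g = signCo0 c hc}
  one_mem' := ⟨∅, gc_empty, h0, sign_empty.symm⟩
  mul_mem' := by
    rintro _ _ ⟨c, hc, pc, rfl⟩ ⟨d, hd, pd, rfl⟩
    exact ⟨_, gc_symmDiff hc hd, hadd c d pc pd, sign_mul_sign c d hc hd⟩
  inv_mem' := by
    rintro _ ⟨c, hc, pc, rfl⟩
    exact ⟨c, hc, pc, sign_inv c hc⟩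

open Classical in
theorem card_signSub (p : Finset GolayPt → Prop) (h0 : p ∅)
    (hadd : ∀ c d, p c → p d → p (symmDiff c d)) :
    Nat.card (signSub p h0 hadd) = (GCfin.filter p).card := by
  rw [← Fintype.card_coe, ← Nat.card_eq_fintype_card]
  symm
  apply Nat.card_congr
  apply Equiv.ofBijective (fun c : ↥(GCfin.filter p) =>
    (⟨signCo0 c.1 (mem_GCfin.1 (Finset.mem_filter.1 c.2).1),
      ⟨c.1, _, (Finset.mem_filter.1 c.2).2, rfl⟩⟩ : ↥(signSub p h0 hadd)))
  constructor
  · intro c d h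
    exact Subtype.ext (sign_injective (mem_GCfin.1 (Finset.mem_filter.1 c.2).1)
      (mem_GCfin.1 (Finset.mem_filter.1 d.2).1) (congrArg Subtype.val h))
  · rintro ⟨_, c, hc, pc, rfl⟩
    exact ⟨⟨c, Finset.mem_filter.2 ⟨mem_GCfin.2 hc, pc⟩⟩, rfl⟩


/-- all sign changes. -/
def Esub : Subgroup Co0 := signSub (fun _ => True) trivial (fun _ _ _ _ => trivial)

theorem card_Esub : Nat.card Esub = 4096 := by
  classical
  unfold Esub
  have h : ∀ (inst : DecidablePred fun _ : Finset GolayPt => True),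
      (@Finset.filter _ (fun _ => True) inst GCfin) = GCfin := by
    intro inst; ext c; simp
  rw [card_signSub, h, card_GCfin]

/-- the sign changes away from the first two coordinates. -/
def E0sub : Subgroup Co0 := signSub (fun c => none ∉ c ∧ some 0 ∉ c) (by simp) (by
  intro c d hc hd
  simp only [Finset.mem_symmDiff]
  tauto)

theorem card_E0sub : Nat.card E0sub = 1024 := by
  classical
  unfold E0sub
  rw [card_signSub, Finset.card_filter]
  have h := sum_GCfin2 (fun b1 b2 _ => if b1 = false ∧ b2 = false then 1 else 0)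
  refine Eq.trans (Finset.sum_congr rfl fun c _ => ?_) (h.trans (by decide))
  by_cases h1 : (none : GolayPt) ∈ c <;> by_cases h2 : (some 0 : GolayPt) ∈ c <;> simp [h1, h2]

theorem E0sub_fix {g : Co0} (hg : g ∈ E0sub) : g • vMinus = vMinus := by
  obtain ⟨c, hc, ⟨h1, h2⟩, rfl⟩ := hg
  apply Subtype.ext
  funext k
  rw [signCo0_smul]
  by_cases hk : k ∈ c
  · have a1 : k ≠ none := fun h => h1 (h ▸ hk)
    have a2 : k ≠ some 0 := fun h => h2 (h ▸ hk)
    rw [if_pos hk, vMinus_coe, Pi.sub_apply, Pi.single_eq_of_ne a1, Pi.single_eq_of_ne a2]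
    simp
  · rw [if_neg hk]

theorem sepList_card : ∀ b ∈ sepList, popc b ≠ 12 := by decide +kernel

theorem exists_sep' {i k : GolayPt} (h : i ≠ k) : ∃ c ∈ GC, k ∈ c ∧ i ∉ c ∧ c.card ≠ 12 := by
  obtain ⟨b, hb, h1, h2⟩ := sepList_sep i k h
  have hc := sepList_isCode b hb
  refine ⟨un b, ?_, mem_un.2 h1, fun h3 => ?_, ?_⟩
  · rw [mem_supports_iff, mk_un (isCode_lt hc)]; exact hc
  · rw [mem_un, h2] at h3; exact absurd h3 (by decide)
  · rw [card_un]; exact sepList_card b hb

/-- orbit counting for a normal subgroup. -/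
theorem orbit_dvd {G X : Type*} [Group G] [MulAction G X] (K : Subgroup G) [K.Normal]
    (x : X) (O : Set X) (hO : ∀ y, y ∈ O ↔ ∃ k ∈ K, k • x = y) :
    Nat.card K = Nat.card ↥(K ⊓ MulAction.stabilizer G x) * O.ncard ∧
      Nat.card (MulAction.stabilizer G x) * O.ncard ∣ Nat.card G := by
  refine ⟨card_eq_stab_mul K x O hO, ?_⟩
  have hO' : ∀ y, y ∈ O ↔ ∃ g ∈ K ⊔ MulAction.stabilizer G x, g • x = y := by
    intro y
    rw [hO y]
    constructor
    · rintro ⟨k, hk, rfl⟩
      exact ⟨k, Subgroup.mem_sup_left hk, rfl⟩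
    · rintro ⟨g, hg, rfl⟩
      have hg' : g ∈ ((K ⊔ MulAction.stabilizer G x : Subgroup G) : Set G) := hg
      rw [Subgroup.normal_mul] at hg'
      obtain ⟨k, hk, s, hs, rfl⟩ := hg'
      have hs' : s • x = x := hs
      exact ⟨k, hk, by rw [mul_smul, hs']⟩
  have h1 := card_eq_stab_mul (K ⊔ MulAction.stabilizer G x) x O hO'
  rw [inf_eq_right.2 le_sup_right] at h1
  rw [← h1]
  exact Subgroup.card_subgroup_dvd_card _

end Cfsg.Agent.Lib.Helper28
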