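import Cfsg.Agent.Lib.Helper28.LeechOrder
import Cfsg.Agent.Lib.Helper28.LeechCenter

/-!
Transitivity of `Co0` on pairs of vectors.
-/

set_option autoImplicit false

namespace Cfsg.Agent.Lib.Helper28

open Cfsg
open scoped Pointwise

theorem co0_dot (g : Co0) (v w : leechLattice) :
    dotInt ((g • v : leechLattice) : GolayPt → ℤ) ((g • w : leechLattice) : GolayPt → ℤ)
      = dotInt (v : GolayPt → ℤ) (w : GolayPt → ℤ) := by
  have h1 := co0_norm g (v + w)
  rw [co0_add, AddSubgroup.coe_add, AddSubgroup.coe_add, sqNorm_add, sqNorm_add, co0_norm,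
    co0_norm] at h1
  omega

theorem sum4_mem (j : GolayPt) : ((Pi.single none 4 : GolayPt → ℤ) + Pi.single j 4) ∈ leechLattice :=
  mem_of_inL (by revert j; decide +kernel)

theorem sub4_mem (j : GolayPt) : ((Pi.single none 4 : GolayPt → ℤ) - Pi.single j 4) ∈ leechLattice :=
  mem_of_inL (by revert j; decide +kernel)

/-- the vector `(4, 4, 0, ...)`. -/
def vPlus : leechLattice := ⟨_, sum4_mem (some 0)⟩

/-- the vector `(4, -4, 0, ...)`. -/
def vMinus : leechLattice := ⟨_, sub4_mem (some 0)⟩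

theorem two_cancel_L {a b : leechLattice} (h : (2 : ℤ) • a = (2 : ℤ) • b) : a = b := by
  apply Subtype.ext
  apply two_cancel
  have := congrArg Subtype.val h
  rwa [AddSubgroup.coe_zsmul, AddSubgroup.coe_zsmul] at this

/-- orthogonal pairs of minimal vectors form one orbit. -/
theorem exists_map_orth (v w : leechLattice) (hv : sqNorm (v : GolayPt → ℤ) = 32)
    (hw : sqNorm (w : GolayPt → ℤ) = 32) (hd : dotInt (v : GolayPt → ℤ) (w : GolayPt → ℤ) = 0) :
    ∃ g : Co0, g • v = vPlus ∧ g • w = vMinus := by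
  have hN8 : sqNorm ((E8 none : leechLattice) : GolayPt → ℤ) = 64 := sqNorm_single8 none
  have hx : sqNorm ((v + w : leechLattice) : GolayPt → ℤ) = 64 := by
    rw [AddSubgroup.coe_add, sqNorm_add, hv, hw, hd]; norm_num
  have hy : sqNorm ((v - w : leechLattice) : GolayPt → ℤ) = 64 := by
    rw [AddSubgroup.coe_sub, sqNorm_sub, hv, hw, hd]; norm_num
  obtain ⟨g1, hg1⟩ := co0_trans64 (v + w) (E8 none) hx hN8
  have hy1 : ((g1 • (v - w) : leechLattice) : GolayPt → ℤ) ∈ stdCross := by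
    refine mem_stdCross_of_congr (Subtype.coe_prop _) (by rw [co0_norm, hy]) ?_
    refine ⟨((g1 • w : leechLattice) : GolayPt → ℤ), Subtype.coe_prop _, ?_⟩
    have h1 : E8 none - g1 • (v - w) = (2 : ℤ) • (g1 • w) := by
      rw [← hg1, ← co0_sub, ← co0_zsmul]
      congr 1
      rw [two_smul]; abel
    have h2 := congrArg Subtype.val h1
    rw [AddSubgroup.coe_sub, AddSubgroup.coe_zsmul, E8_coe] at h2
    rw [h2, two_smul, two_smul]
  obtain ⟨j, t, ht, hjt⟩ := hy1
  have hdot : dotInt ((g1 • (v + w) : leechLattice) : GolayPt → ℤ)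
      ((g1 • (v - w) : leechLattice) : GolayPt → ℤ) = 0 := by
    rw [co0_dot, AddSubgroup.coe_add, AddSubgroup.coe_sub]
    have e : dotInt ((v : GolayPt → ℤ) + (w : GolayPt → ℤ)) ((v : GolayPt → ℤ) - (w : GolayPt → ℤ))
        = sqNorm (v : GolayPt → ℤ) - sqNorm (w : GolayPt → ℤ) := by
      unfold dotInt sqNorm
      rw [← Finset.sum_sub_distrib]
      refine Finset.sum_congr rfl fun i _ => ?_
      simp only [Pi.add_apply, Pi.sub_apply]; ring
    rw [e, hv, hw]; norm_num
  have hj : j ≠ none := by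
    rintro rfl
    rw [hg1, hjt, E8_coe] at hdot
    unfold dotInt at hdot
    rw [Finset.sum_eq_single none] at hdot
    · rw [Pi.single_eq_same, Pi.single_eq_same] at hdot
      rcases ht with rfl | rfl <;> omega
    · intro k _ hk; rw [Pi.single_eq_of_ne hk, zero_mul]
    · intro hk; exact absurd (Finset.mem_univ _) hk
  obtain ⟨σ, hσ, hmap⟩ := exists_M24_map_list [none, j] [none, some 0] rfl (by simp)
    (by simp [Ne.symm hj]) (by decide)
  simp only [List.map_cons, List.map_nil, List.cons.injEq, and_true] at hmap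
  obtain ⟨hσ1, hσ2⟩ := hmap
  -- the sign
  obtain ⟨g2, hg2a, hg2b⟩ : ∃ g2 : Co0, g2 • E8 none = E8 none ∧
      g2 • (g1 • (v - w)) = E8 (some 0) := by
    have hp1 : permCo0 σ hσ • E8 none = E8 none := by
      apply Subtype.ext
      rw [permCo0_single hσ _ none 8 rfl, hσ1, E8_coe]
    have hp2 := permCo0_single hσ (g1 • (v - w)) j t hjt
    rw [hσ2] at hp2
    rcases ht with rfl | rfl
    · exact ⟨permCo0 σ hσ, hp1, Subtype.ext hp2⟩
    · obtain ⟨c, hc, h0c, hnc⟩ := exists_sep (i := none) (k := some 0) (by decide)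
      refine ⟨signCo0 c hc * permCo0 σ hσ, ?_, ?_⟩
      · rw [mul_smul, hp1, signCo0_E8 hc hnc]
      · rw [mul_smul]
        apply Subtype.ext
        funext k
        rw [signCo0_smul, hp2, E8_coe]
        by_cases hk : k = some 0
        · subst hk; simp [h0c]
        · rw [Pi.single_eq_of_ne hk, Pi.single_eq_of_ne hk]; simp
  refine ⟨g2 * g1, ?_, ?_⟩
  · apply two_cancel_L
    have h1 : (2 : ℤ) • v = (v + w) + (v - w) := by rw [two_smul]; abel
    rw [← co0_zsmul, h1, co0_add, mul_smul, mul_smul, hg1, hg2a, hg2b]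
    apply Subtype.ext
    rw [AddSubgroup.coe_add, AddSubgroup.coe_zsmul, E8_coe, E8_coe]
    show _ = (2 : ℤ) • ((Pi.single none 4 : GolayPt → ℤ) + Pi.single (some 0) 4)
    rw [smul_add, ← Pi.single_smul, ← Pi.single_smul]; simp
  · apply two_cancel_L
    have h1 : (2 : ℤ) • w = (v + w) - (v - w) := by rw [two_smul]; abel
    rw [← co0_zsmul, h1, co0_sub, mul_smul, mul_smul, hg1, hg2a, hg2b]
    apply Subtype.ext
    rw [AddSubgroup.coe_sub, AddSubgroup.coe_zsmul, E8_coe, E8_coe]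
    show _ = (2 : ℤ) • ((Pi.single none 4 : GolayPt → ℤ) - Pi.single (some 0) 4)
    rw [smul_sub, ← Pi.single_smul, ← Pi.single_smul]; simp

theorem co0_trans_orth (v w w' : leechLattice) (hv : sqNorm (v : GolayPt → ℤ) = 32)
    (hw : sqNorm (w : GolayPt → ℤ) = 32) (hw' : sqNorm (w' : GolayPt → ℤ) = 32)
    (hd : dotInt (v : GolayPt → ℤ) (w : GolayPt → ℤ) = 0)
    (hd' : dotInt (v : GolayPt → ℤ) (w' : GolayPt → ℤ) = 0) :
    ∃ g : Co0, g • v = v ∧ g • w = w' := by
  obtain ⟨g, h1, h2⟩ := exists_map_orth v w hv hw hd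
  obtain ⟨g', h1', h2'⟩ := exists_map_orth v w' hv hw' hd'
  refine ⟨g'⁻¹ * g, ?_, ?_⟩
  · rw [mul_smul, h1, ← h1', inv_smul_smul]
  · rw [mul_smul, h2, ← h2', inv_smul_smul]

end Cfsg.Agent.Lib.Helper28
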