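import Mathlib

/-!
Generic simplicity criteria based on a subgroup of prime order acting on the Sylow subgroups of a
normal subgroup.
-/

set_option autoImplicit false

namespace Cfsg.Agent.Lib.Helper28

open scoped Pointwise

/-- If `ρ` of prime order `p` acts by conjugation without fixed points on the normal `p'`-subgroup
`N`, then some Sylow `r`-subgroup of `N` has order congruent to `1` modulo `p`. -/
theorem exists_sylow_card_mod {G : Type*} [Group G] [Finite G] (N : Subgroup G) [N.Normal] {p : ℕ}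
    [hp : Fact p.Prime] (ρ : G) (hρ : ρ ^ p = 1) (hpN : ¬ p ∣ Nat.card N)
    (hC : ∀ n ∈ N, ρ * n * ρ⁻¹ = n → n = 1) (r : ℕ) [Fact r.Prime] :
    ∃ R : Sylow r N, Nat.card R % p = 1 := by
  classical
  set φ : MulAut N := MulAut.conjNormal ρ with hφ
  have hφp : φ ^ p = 1 := by rw [hφ, ← map_pow, hρ, map_one]
  haveI : Fintype (Sylow r N) := Fintype.ofFinite _
  have hf : (MulAction.toEndHom (α := Sylow r N) φ) ^ p ^ 1 = 1 := by
    rw [pow_one, ← map_pow, hφp, map_one]
  have h1 := Equiv.Perm.card_fixedPoints_modEq hf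
  rw [← Nat.card_eq_fintype_card, ← Nat.card_eq_fintype_card] at h1
  have hne : Nat.card (Function.fixedPoints (MulAction.toEndHom (α := Sylow r N) φ)) ≠ 0 := by
    intro h0
    rw [h0] at h1
    have h2 : p ∣ Nat.card (Sylow r N) := (Nat.modEq_zero_iff_dvd).1 h1
    obtain ⟨R0⟩ : Nonempty (Sylow r N) := inferInstance
    have h3 := R0.card_dvd_index
    exact hpN ((h2.trans h3).trans (Subgroup.index_dvd_card _))
  obtain ⟨⟨R, hR⟩⟩ := (Nat.card_pos_iff.1 (Nat.pos_of_ne_zero hne)).1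
  have hR' : φ • R = R := hR
  refine ⟨R, ?_⟩
  have hmem : ∀ n : N, n ∈ R → φ n ∈ R := by
    intro n hn
    have h2 : φ • n ∈ φ • (R : Subgroup N) := Subgroup.smul_mem_pointwise_smul n φ _ hn
    rw [← Sylow.pointwise_smul_def, hR'] at h2
    exact h2
  let g : Function.End R := fun n => ⟨φ n.1, hmem n.1 n.2⟩
  have hgk : ∀ (k : ℕ) (n : R), ((g ^ k) n).1 = (φ ^ k) n.1 := by
    intro k
    induction k with
    | zero => intro n; rfl
    | succ k ih =>
      intro n
      rw [pow_succ', pow_succ']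
      show φ ((g ^ k) n).1 = φ ((φ ^ k) n.1)
      rw [ih]
  have hg : g ^ p ^ 1 = 1 := by
    rw [pow_one]
    funext n
    apply Subtype.ext
    rw [hgk, hφp]
    rfl
  haveI : Fintype R := Fintype.ofFinite _
  have h4 := Equiv.Perm.card_fixedPoints_modEq hg
  rw [← Nat.card_eq_fintype_card, ← Nat.card_eq_fintype_card] at h4
  have h5 : Nat.card (Function.fixedPoints g) = 1 := by
    rw [Nat.card_eq_one_iff_exists]
    refine ⟨⟨1, ?_⟩, ?_⟩
    · show g 1 = 1
      apply Subtype.ext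
      show φ 1 = 1
      exact map_one φ
    · rintro ⟨n, hn⟩
      apply Subtype.ext
      have h6 : φ n.1 = n.1 := congrArg Subtype.val hn
      have h7 : ρ * (n.1 : G) * ρ⁻¹ = (n.1 : G) := by
        have := congrArg Subtype.val h6
        rwa [hφ, MulAut.conjNormal_apply] at this
      have h8 := hC _ n.1.2 h7
      apply Subtype.ext
      apply Subtype.ext
      exact h8
  rw [h5] at h4
  have h9 : 1 % p = 1 := Nat.mod_eq_of_lt hp.out.one_lt
  rw [← h9]
  exact h4

/-- A normal `p'`-subgroup on which an element of order `p` acts without fixed points is trivial,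
if no prime power dividing `D` (a multiple of its order) is `1` modulo `p`. -/
theorem eq_bot_of_fpf {G : Type*} [Group G] [Finite G] (N : Subgroup G) [N.Normal] {p : ℕ}
    [hp : Fact p.Prime] (ρ : G) (hρ : ρ ^ p = 1) (hpN : ¬ p ∣ Nat.card N)
    (hC : ∀ n ∈ N, ρ * n * ρ⁻¹ = n → n = 1) (D : ℕ) (hD : Nat.card N ∣ D)
    (hpow : ∀ r k : ℕ, r.Prime → 0 < k → r ^ k ∣ D → r ^ k % p ≠ 1) : N = ⊥ := by
  rw [← Subgroup.card_eq_one]
  by_contra hne
  obtain ⟨r, hr, hrd⟩ := Nat.exists_prime_and_dvd hne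
  haveI : Fact r.Prime := ⟨hr⟩
  obtain ⟨R, hR⟩ := exists_sylow_card_mod N ρ hρ hpN hC r
  have h1 := R.card_eq_multiplicity
  have h2 : 0 < (Nat.card N).factorization r :=
    hr.factorization_pos_of_dvd Nat.card_pos.ne' hrd
  refine hpow r _ hr h2 ?_ (h1 ▸ hR)
  exact (Nat.ordProj_dvd _ _).trans hD

/-- Frattini argument for a subgroup of prime order which is a Sylow subgroup. -/
theorem exists_mul_of_frattini {G : Type*} [Group G] [Finite G] (N : Subgroup G) [N.Normal] {p : ℕ}
    [hp : Fact p.Prime] (ρ : G) (hρ : orderOf ρ = p) (hp2 : ¬ p ^ 2 ∣ Nat.card G) (hρN : ρ ∈ N)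
    (g : G) : ∃ h n : G, n ∈ N ∧ h * ρ * h⁻¹ ∈ Subgroup.zpowers ρ ∧ g = h * n := by
  have hcard : Nat.card (Subgroup.zpowers ρ) = p := by rw [Nat.card_zpowers, hρ]
  have hdvd : p ∣ Nat.card G := hcard ▸ Subgroup.card_subgroup_dvd_card _
  have hfac : (Nat.card G).factorization p = 1 := by
    have h1 : 0 < (Nat.card G).factorization p :=
      hp.out.factorization_pos_of_dvd Nat.card_pos.ne' hdvd
    have h2 : ¬ 2 ≤ (Nat.card G).factorization p := by
      intro h
      exact hp2 ((hp.out.pow_dvd_iff_le_factorization Nat.card_pos.ne').2 h)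
    omega
  let P : Sylow p G := Sylow.ofCard (Subgroup.zpowers ρ) (by rw [hcard, hfac, pow_one])
  have hP : (P : Subgroup G) = Subgroup.zpowers ρ := Sylow.coe_ofCard _ _
  have hle : (P : Subgroup G) ≤ N := by
    rw [hP, Subgroup.zpowers_le]; exact hρN
  have h := Sylow.normalizer_sup_eq_top' P hle
  have hg : g ∈ Subgroup.normalizer (P : Set G) ⊔ N := by rw [h]; exact Subgroup.mem_top g
  rw [Subgroup.mem_sup_of_normal_right] at hg
  obtain ⟨h', hh', n, hn, rfl⟩ := hg
  refine ⟨h', n, hn, ?_, rfl⟩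
  rw [Subgroup.mem_set_normalizer_iff] at hh'
  have := (hh' ρ).1 (by
    show ρ ∈ (P : Subgroup G)
    rw [hP]; exact Subgroup.mem_zpowers ρ)
  have h3 : h' * ρ * h'⁻¹ ∈ (P : Subgroup G) := this
  rwa [hP] at h3

/-- Simplicity criterion: `M` is a simple subgroup containing the normaliser of a Sylow subgroup of
prime order `p`, and no prime power dividing the index of `M` is `1` modulo `p`. -/
theorem isSimpleGroup_of_simple_subgroup {G : Type*} [Group G] [Finite G] (M : Subgroup G)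
    (hM : IsSimpleGroup M) {p : ℕ} [hp : Fact p.Prime] (ρ : G) (hρM : ρ ∈ M) (hρ : orderOf ρ = p)
    (hp2 : ¬ p ^ 2 ∣ Nat.card G)
    (hnorm : ∀ h : G, h * ρ * h⁻¹ ∈ Subgroup.zpowers ρ → h ∈ M)
    (hpow : ∀ r k : ℕ, r.Prime → 0 < k → r ^ k ∣ M.index → r ^ k % p ≠ 1) : IsSimpleGroup G := by
  haveI : Nontrivial G := by
    obtain ⟨x, y, hxy⟩ := hM.toNontrivial
    exact ⟨x, y, fun h => hxy (Subtype.ext h)⟩
  refine ⟨fun N hN => ?_⟩
  have hK : (N.subgroupOf M).Normal := inferInstance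
  rcases hM.eq_bot_or_eq_top_of_normal _ hK with h | h
  · left
    rw [Subgroup.subgroupOf_eq_bot] at h
    have hinf : N ⊓ M = ⊥ := disjoint_iff.1 h
    have hcardM : p ∣ Nat.card M := by
      have h1 : orderOf (⟨ρ, hρM⟩ : M) = p := by
        rw [← hρ]; exact Subgroup.orderOf_mk ρ hρM
      rw [← h1]
      exact orderOf_dvd_natCard _
    have hmul : Nat.card N * Nat.card M ∣ Nat.card G := by
      have h1 : N.relIndex (M ⊔ N) = Nat.card M := by
        rw [Subgroup.relIndex_sup_right, ← Subgroup.inf_relIndex_right, hinf,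
          Subgroup.relIndex_bot_left]
      have h2 : Nat.card N * N.relIndex (M ⊔ N) = Nat.card ↥(M ⊔ N) := by
        rw [← Subgroup.relIndex_bot_left, ← Subgroup.relIndex_bot_left]
        exact Subgroup.relIndex_mul_relIndex _ _ _ bot_le le_sup_right
      rw [← h1, h2]
      exact Subgroup.card_subgroup_dvd_card _
    have hD : Nat.card N ∣ M.index := by
      rw [← Subgroup.card_mul_index M, mul_comm] at hmul
      exact Nat.dvd_of_mul_dvd_mul_left Nat.card_pos hmul
    have hpN : ¬ p ∣ Nat.card N := by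
      intro h1
      apply hp2
      rw [pow_two]
      exact (mul_dvd_mul h1 hcardM).trans hmul
    apply eq_bot_of_fpf N ρ (hρ ▸ pow_orderOf_eq_one ρ) hpN _ M.index hD hpow
    intro n hn hc
    have h1 : n * ρ * n⁻¹ = ρ := by
      have : ρ * n = n * ρ := by
        rw [mul_inv_eq_iff_eq_mul] at hc
        exact hc
      rw [← this, mul_inv_cancel_right]
    have h2 : n ∈ M := hnorm n (by rw [h1]; exact Subgroup.mem_zpowers ρ)
    have h3 : n ∈ N ⊓ M := ⟨hn, h2⟩
    rw [hinf] at h3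
    exact h3
  · right
    rw [Subgroup.subgroupOf_eq_top] at h
    rw [eq_top_iff]
    intro g _
    obtain ⟨h', n, hn, hh', rfl⟩ := exists_mul_of_frattini N ρ hρ hp2 (h hρM) g
    exact N.mul_mem (h (hnorm h' hh')) hn

/-- Prime powers dividing `2 ^ a * 3 ^ b * 5 ^ c`. -/
theorem prime_pow_cases {r k a b c : ℕ} (hr : r.Prime) (h : r ^ k ∣ 2 ^ a * 3 ^ b * 5 ^ c)
    (hk : 0 < k) : (r = 2 ∧ k ≤ a) ∨ (r = 3 ∧ k ≤ b) ∨ (r = 5 ∧ k ≤ c) := by
  have hrd : r ∣ 2 ^ a * 3 ^ b * 5 ^ c := (dvd_pow_self r hk.ne').trans h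
  rcases (Nat.Prime.dvd_mul hr).1 hrd with h1 | h1
  · rcases (Nat.Prime.dvd_mul hr).1 h1 with h2 | h2
    · have e : r = 2 := (Nat.prime_dvd_prime_iff_eq hr Nat.prime_two).1 (hr.dvd_of_dvd_pow h2)
      subst e
      left
      refine ⟨rfl, ?_⟩
      have hc : Nat.Coprime (2 ^ k) (3 ^ b * 5 ^ c) := by
        apply Nat.Coprime.pow_left
        apply Nat.Coprime.mul_right <;> apply Nat.Coprime.pow_right <;> decide
      rw [mul_assoc] at h
      exact (Nat.pow_dvd_pow_iff_le_right (by norm_num)).1 (hc.dvd_of_dvd_mul_right h)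
    · have e : r = 3 := (Nat.prime_dvd_prime_iff_eq hr Nat.prime_three).1 (hr.dvd_of_dvd_pow h2)
      subst e
      right; left
      refine ⟨rfl, ?_⟩
      have hc : Nat.Coprime (3 ^ k) (2 ^ a * 5 ^ c) := by
        apply Nat.Coprime.pow_left
        apply Nat.Coprime.mul_right <;> apply Nat.Coprime.pow_right <;> decide
      have h' : 3 ^ k ∣ 3 ^ b * (2 ^ a * 5 ^ c) := by
        have e : 2 ^ a * 3 ^ b * 5 ^ c = 3 ^ b * (2 ^ a * 5 ^ c) := by ring
        rwa [e] at h
      exact (Nat.pow_dvd_pow_iff_le_right (by norm_num)).1 (hc.dvd_of_dvd_mul_right h')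
  · have e : r = 5 := (Nat.prime_dvd_prime_iff_eq hr Nat.prime_five).1 (hr.dvd_of_dvd_pow h1)
    subst e
    right; right
    refine ⟨rfl, ?_⟩
    have hc : Nat.Coprime (5 ^ k) (2 ^ a * 3 ^ b) := by
      apply Nat.Coprime.pow_left
      apply Nat.Coprime.mul_right <;> apply Nat.Coprime.pow_right <;> decide
    exact (Nat.pow_dvd_pow_iff_le_right (by norm_num)).1 (hc.dvd_of_dvd_mul_left h)

end Cfsg.Agent.Lib.Helper28
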