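import Cfsg.Agent.Lib.Helper28.LeechNormal2
import Cfsg.Agent.Lib.Helper28.SimpleCrit

/-!
A simplicity criterion for subgroups of `Co0` containing a simple group of coordinate permutations.
-/

set_option autoImplicit false

namespace Cfsg.Agent.Lib.Helper28

open Cfsg
open scoped Pointwise

instance finite_Co0 : Finite Co0 := Nat.finite_of_card_ne_zero (by rw [card_Co0]; norm_num)

theorem pEl_eq_permHom (σ : M24) : pEl σ = permHom σ := by
  unfold pEl monoEl
  rw [sign_empty, one_mul]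
  rfl

theorem pEl_mul (σ τ : M24) : pEl (σ * τ) = pEl σ * pEl τ := by
  rw [pEl_eq_permHom, pEl_eq_permHom, pEl_eq_permHom, map_mul]

theorem pEl_one : pEl 1 = 1 := by rw [pEl_eq_permHom, map_one]

theorem orderOf_pEl (σ : M24) : orderOf (pEl σ) = orderOf σ := by
  have h : Function.Injective permHom := by
    intro a b hab
    apply pEl_injective
    rw [pEl_eq_permHom, pEl_eq_permHom, hab]
  rw [pEl_eq_permHom]
  exact orderOf_injective permHom h σ

theorem simple_of_pEl (S : Subgroup Co0) (e : leechLattice) (A : Subgroup M24)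
    (hA : IsSimpleGroup A)
    (h1 : ∀ σ ∈ A, pEl σ ∈ S ∧ pEl σ • e = e)
    (h2 : ∀ g ∈ S, g • e = e → ∃ σ ∈ A, g = pEl σ)
    {p : ℕ} [hp : Fact p.Prime] (π : M24) (hπA : π ∈ A) (hπ : orderOf π = p)
    (h3 : ∀ h ∈ S, pEl π • (h • e) = h • e → h • e = e)
    (hp2 : ¬ p ^ 2 ∣ Nat.card S) (a b c : ℕ)
    (hcard : Nat.card S = Nat.card A * (2 ^ a * 3 ^ b * 5 ^ c))
    (hpow : ∀ r k : ℕ, ((r = 2 ∧ k ≤ a) ∨ (r = 3 ∧ k ≤ b) ∨ (r = 5 ∧ k ≤ c)) → 0 < k →
      r ^ k % p ≠ 1) :
    IsSimpleGroup S := by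
  set M : Subgroup S := (MulAction.stabilizer Co0 e).subgroupOf S with hM
  have hmemM : ∀ g : S, g ∈ M ↔ (g : Co0) • e = e := fun g => Iff.rfl
  let f : A →* M :=
    { toFun := fun σ => ⟨⟨pEl σ.1, (h1 σ.1 σ.2).1⟩, (h1 σ.1 σ.2).2⟩
      map_one' := by
        apply Subtype.ext; apply Subtype.ext
        exact pEl_one
      map_mul' := by
        intro σ τ
        apply Subtype.ext; apply Subtype.ext
        exact pEl_mul σ.1 τ.1 }
  have hfbij : Function.Bijective f := by
    constructor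
    · intro σ τ h
      apply Subtype.ext
      apply pEl_injective
      exact congrArg (fun x : M => ((x : S) : Co0)) h
    · rintro ⟨⟨g, hgS⟩, hgM⟩
      obtain ⟨σ, hσ, rfl⟩ := h2 g hgS hgM
      exact ⟨⟨σ, hσ⟩, rfl⟩
  let E : A ≃* M := MulEquiv.ofBijective f hfbij
  have hMs : IsSimpleGroup M := E.symm.isSimpleGroup
  have hcM : Nat.card M = Nat.card A := (Nat.card_congr E.toEquiv).symm
  have hidx : M.index = 2 ^ a * 3 ^ b * 5 ^ c := by
    have h4 := Subgroup.card_mul_index M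
    rw [hcM, hcard] at h4
    exact Nat.eq_of_mul_eq_mul_left Nat.card_pos h4
  set ρ : S := ⟨pEl π, (h1 π hπA).1⟩ with hρdef
  have hρe : pEl π • e = e := (h1 π hπA).2
  have hρo : orderOf ρ = p := by
    rw [← hπ, ← orderOf_pEl π]
    exact Subgroup.orderOf_mk _ _
  apply isSimpleGroup_of_simple_subgroup M hMs ρ ((hmemM ρ).2 hρe) hρo hp2
  · intro h hh
    obtain ⟨j, hj⟩ := Subgroup.mem_zpowers_iff.1 hh
    have hj' : (pEl π) ^ j = (h : Co0) * pEl π * (h : Co0)⁻¹ := by
      have := congrArg (fun x : S => (x : Co0)) hj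
      simpa using this
    have hfix : (pEl π) ^ j • e = e := by
      have : (pEl π) ^ j ∈ MulAction.stabilizer Co0 e :=
        Subgroup.zpow_mem _ (MulAction.mem_stabilizer_iff.2 hρe) j
      exact this
    have h5 : pEl π • ((h : Co0)⁻¹ • e) = (h : Co0)⁻¹ • e := by
      rw [hj', mul_smul, mul_smul] at hfix
      exact (eq_inv_smul_iff.2 hfix)
    have h6 := h3 (h : Co0)⁻¹ (S.inv_mem h.2) h5
    rw [hmemM]
    rw [inv_smul_eq_iff] at h6
    exact h6.symm
  · intro r k hr hk hd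
    rw [hidx] at hd
    exact hpow r k (prime_pow_cases hr hd hk) hk

end Cfsg.Agent.Lib.Helper28
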