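import Cfsg.Agent.Lib.Helper28.LeechPairs

/-!
Orbits of the stabiliser of the minimal vector `vMinus = (4, -4, 0, ...)`.
-/

set_option autoImplicit false

namespace Cfsg.Agent.Lib.Helper28

open Cfsg
open scoped Pointwise

theorem vMinus_coe : ((vMinus : leechLattice) : GolayPt → ℤ)
    = (Pi.single none 4 : GolayPt → ℤ) - Pi.single (some 0) 4 := rfl

theorem dot_vMinus (x : GolayPt → ℤ) :
    dotInt ((vMinus : leechLattice) : GolayPt → ℤ) x = 4 * x none - 4 * x (some 0) := by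
  rw [vMinus_coe]
  unfold dotInt
  simp only [Pi.sub_apply, sub_mul, Finset.sum_sub_distrib, Pi.single_apply, ite_mul, zero_mul]
  simp

/-- equivalence under the stabiliser of `vMinus`. -/
def EqvH (x y : GolayPt → ℤ) : Prop :=
  ∃ (g : Co0) (hx : x ∈ leechLattice), g • vMinus = vMinus ∧
    ((g • (⟨x, hx⟩ : leechLattice) : leechLattice) : GolayPt → ℤ) = y

theorem EqvH.mem_left {x y : GolayPt → ℤ} (h : EqvH x y) : x ∈ leechLattice := by
  obtain ⟨_, hx, _⟩ := h
  exact hx

theorem EqvH.mem_right {x y : GolayPt → ℤ} (h : EqvH x y) : y ∈ leechLattice := by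
  obtain ⟨g, hx, _, rfl⟩ := h
  exact Subtype.coe_prop _

theorem EqvH.refl {x : GolayPt → ℤ} (hx : x ∈ leechLattice) : EqvH x x :=
  ⟨1, hx, by simp, by simp⟩

theorem EqvH.trans {x y z : GolayPt → ℤ} (h1 : EqvH x y) (h2 : EqvH y z) : EqvH x z := by
  obtain ⟨g, hx, hg, rfl⟩ := h1
  obtain ⟨g', hy, hg', rfl⟩ := h2
  exact ⟨g' * g, hx, by rw [mul_smul, hg, hg'], by rw [mul_smul]⟩

theorem EqvH.symm {x y : GolayPt → ℤ} (h : EqvH x y) : EqvH y x := by
  have hy := h.mem_right
  obtain ⟨g, hx, hg, rfl⟩ := h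
  exact ⟨g⁻¹, hy, by rw [inv_smul_eq_iff, hg], by simp⟩

theorem EqvH.norm {x y : GolayPt → ℤ} (h : EqvH x y) : sqNorm y = sqNorm x := by
  obtain ⟨g, hx, _, rfl⟩ := h
  exact co0_norm g _

theorem EqvH.diff {x y : GolayPt → ℤ} (h : EqvH x y) :
    y none - y (some 0) = x none - x (some 0) := by
  obtain ⟨g, hx, hg, rfl⟩ := h
  have h1 := co0_dot g vMinus ⟨x, hx⟩
  rw [hg, dot_vMinus, dot_vMinus] at h1
  simp only at h1
  omega

theorem eqvH_iff {v w : leechLattice} : EqvH (v : GolayPt → ℤ) (w : GolayPt → ℤ) ↔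
    ∃ g : Co0, g • vMinus = vMinus ∧ g • v = w := by
  constructor
  · rintro ⟨g, _, hg, h⟩
    exact ⟨g, hg, Subtype.ext h⟩
  · rintro ⟨g, hg, rfl⟩
    exact ⟨g, v.2, hg, rfl⟩

theorem single_symm (σ : Equiv.Perm GolayPt) (i k : GolayPt) (t : ℤ) :
    (Pi.single i t : GolayPt → ℤ) (σ.symm k) = (Pi.single (σ i) t : GolayPt → ℤ) k := by
  by_cases hk : k = σ i
  · subst hk; simp
  · have : σ.symm k ≠ i := by
      intro h; apply hk; rw [← h, Equiv.apply_symm_apply]
    rw [Pi.single_eq_of_ne hk, Pi.single_eq_of_ne this]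

theorem eqvH_perm {σ : Equiv.Perm GolayPt} (hσ : σ ∈ M24) (h1 : σ none = none)
    (h2 : σ (some 0) = some 0) {x : GolayPt → ℤ} (hx : x ∈ leechLattice) :
    EqvH x (fun i => x (σ.symm i)) := by
  refine ⟨permCo0 σ hσ, hx, ?_, rfl⟩
  apply Subtype.ext
  funext k
  rw [permCo0_smul, vMinus_coe, Pi.sub_apply, Pi.sub_apply, single_symm, single_symm, h1, h2]

theorem eqvH_sign {c : Finset GolayPt} (hc : c ∈ GC) (h1 : none ∉ c) (h2 : some 0 ∉ c)
    {x : GolayPt → ℤ} (hx : x ∈ leechLattice) : EqvH x (fun i => if i ∈ c then -x i else x i) := by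
  refine ⟨signCo0 c hc, hx, ?_, rfl⟩
  apply Subtype.ext
  funext k
  rw [signCo0_smul]
  by_cases hk : k ∈ c
  · have a1 : k ≠ none := fun h => h1 (h ▸ hk)
    have a2 : k ≠ some 0 := fun h => h2 (h ▸ hk)
    rw [if_pos hk, vMinus_coe, Pi.sub_apply, Pi.single_eq_of_ne a1, Pi.single_eq_of_ne a2]
    simp
  · rw [if_neg hk]

theorem eqvH_negswap {x : GolayPt → ℤ} (hx : x ∈ leechLattice) :
    EqvH x (fun i => -x (projInv.symm i)) := by
  refine ⟨negCo0 * permCo0 projInv projInv_mem, hx, ?_, ?_⟩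
  · rw [mul_smul, negCo0_smul]
    apply Subtype.ext
    funext k
    rw [AddSubgroup.coe_neg, Pi.neg_apply, permCo0_smul, vMinus_coe, Pi.sub_apply, Pi.sub_apply,
      single_symm, single_symm]
    have e1 : projInv none = some 0 := rfl
    have e2 : projInv (some 0) = none := rfl
    rw [e1, e2]; ring
  · rw [mul_smul, negCo0_smul]
    rfl

theorem xiF_vMinus : xiF ((Pi.single none 4 : GolayPt → ℤ) - Pi.single (some 0) 4)
    = -((Pi.single none 4 : GolayPt → ℤ) - Pi.single (some 0) 4) := by decide +kernel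

theorem eqvH_negxi {x : GolayPt → ℤ} (hx : x ∈ leechLattice) : EqvH x (-xiF x) := by
  refine ⟨negCo0 * xiCo0, hx, ?_, ?_⟩
  · rw [mul_smul, negCo0_smul]
    apply Subtype.ext
    rw [AddSubgroup.coe_neg, xiCo0_smul, vMinus_coe, xiF_vMinus, neg_neg]
  · rw [mul_smul, negCo0_smul]
    rfl

/-- the basic move fixing `vMinus`. -/
theorem exists_moveH {x : GolayPt → ℤ} (hx : x ∈ leechLattice) {a b : GolayPt}
    (hnd : [none, some 0, a, b].Nodup) :
    ∃ y, EqvH x y ∧ 2 * y none = x none - x (some 0) - x a - x b := by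
  obtain ⟨σ, hσ, hmap⟩ := exists_M24_map_list [none, some 0, a, b] [none, some 0, some 1, some 2] rfl
    (by simp) hnd (by decide)
  simp only [List.map_cons, List.map_nil, List.cons.injEq, and_true] at hmap
  obtain ⟨ha, hb, hc, hd⟩ := hmap
  have h1 := eqvH_perm hσ ha hb hx
  have h2 := eqvH_negxi h1.mem_right
  refine ⟨_, h1.trans h2, ?_⟩
  have h3 := congrFun (two_xiF h1.mem_right) none
  rw [xiM_mulVec, filter_tn_none] at h3
  simp only [Pi.smul_apply, smul_eq_mul] at h3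
  rw [Pi.neg_apply, mul_neg, h3]
  rw [Finset.sum_insert (by decide), Finset.sum_insert (by decide), Finset.sum_insert (by decide),
    Finset.sum_singleton]
  have e1 : σ.symm none = none := by rw [Equiv.symm_apply_eq, ha]
  have e2 : σ.symm (some 0) = some 0 := by rw [Equiv.symm_apply_eq, hb]
  have e3 : σ.symm (some 1) = a := by rw [Equiv.symm_apply_eq, hc]
  have e4 : σ.symm (some 2) = b := by rw [Equiv.symm_apply_eq, hd]
  rw [e1, e2, e3, e4]
  have : tn none = 0 := by decide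
  rw [if_pos this]
  ring

/-- choosing a point of a large set outside a small one. -/
theorem exists_mem_not_mem {s t : Finset GolayPt} (h : t.card < s.card) : ∃ a ∈ s, a ∉ t := by
  by_contra hcon
  have hsub : s ⊆ t := by
    intro a ha
    by_contra hat
    exact hcon ⟨a, ha, hat⟩
  have := Finset.card_le_card hsub
  omega

theorem card_cls2_bounds {x : GolayPt → ℤ} (hx : x ∈ leechLattice) (hn : sqNorm x ≤ 64)
    (h2 : ∃ i, x i % 4 = 2) : 8 ≤ (cls x 2).card ∧ (cls x 2).card ≤ 16 := by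
  obtain ⟨i0, hi0⟩ := h2
  have hc := cls_mem_GC hx 2
  have hi0' : i0 ∈ cls x 2 := mem_cls.2 (by unfold Int.ModEq; omega)
  have hcard := gc_card_cases hc
  have hpos : 0 < (cls x 2).card := Finset.card_pos.2 ⟨i0, hi0'⟩
  have h1 : ∑ i ∈ cls x 2, (4 : ℤ) ≤ ∑ i ∈ cls x 2, x i ^ 2 := by
    refine Finset.sum_le_sum fun i hi => ?_
    have h2 := mem_cls.1 hi
    unfold Int.ModEq at h2
    have h3 : x i ≤ -2 ∨ 2 ≤ x i := by omega
    rcases h3 with h3 | h3 <;> nlinarith
  have h2 : ∑ i ∈ cls x 2, x i ^ 2 ≤ sqNorm x :=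
    Finset.sum_le_sum_of_subset_of_nonneg (Finset.subset_univ _) fun i _ _ => sq_nonneg _
  rw [Finset.sum_const, nsmul_eq_mul] at h1
  have hlt : (cls x 2).card < 24 := by
    by_contra hcon
    have : (24 : ℤ) ≤ ((cls x 2).card : ℤ) := by exact_mod_cast not_lt.1 hcon
    omega
  omega

theorem oddifyH_E2 {x : GolayPt → ℤ} (hx : x ∈ leechLattice) (hn : sqNorm x ≤ 64)
    (he : x none % 2 = 0) (h2 : ∃ i, x i % 4 = 2) : ∃ y, EqvH x y ∧ y none % 2 = 1 := by
  obtain ⟨hc8, hc16⟩ := card_cls2_bounds hx hn h2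
  have mem2 : ∀ i, i ∈ cls x 2 ↔ x i % 4 = 2 := by
    intro i; rw [mem_cls]; unfold Int.ModEq; omega
  have ev : ∀ i, x i % 2 = 0 := fun i => by rw [parity_of_mem hx i none, he]
  obtain ⟨a, ha, ha'⟩ := exists_mem_not_mem (s := cls x 2) (t := {none, some 0})
    (lt_of_le_of_lt Finset.card_le_two (by omega))
  simp only [Finset.mem_insert, Finset.mem_singleton, not_or] at ha'
  by_cases hδ : (x none - x (some 0)) % 4 = 0
  · obtain ⟨b, hb, hb'⟩ := exists_mem_not_mem (s := (cls x 2)ᶜ) (t := {none, some 0})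
      (lt_of_le_of_lt Finset.card_le_two (by rw [Finset.card_compl, card_golayPt]; omega))
    simp only [Finset.mem_insert, Finset.mem_singleton, not_or] at hb'
    have hab : a ≠ b := fun h => (Finset.mem_compl.1 hb) (h ▸ ha)
    obtain ⟨y, hy, he2⟩ := exists_moveH hx (a := a) (b := b) (by
      simp [Ne.symm ha'.1, Ne.symm ha'.2, Ne.symm hb'.1, Ne.symm hb'.2, hab])
    refine ⟨y, hy, ?_⟩
    have e1 := (mem2 a).1 ha
    have e2 : ¬ x b % 4 = 2 := fun h => (Finset.mem_compl.1 hb) ((mem2 b).2 h)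
    have e3 := ev b
    omega
  · obtain ⟨b, hb, hb'⟩ := exists_mem_not_mem (s := cls x 2) (t := {none, some 0, a})
      (lt_of_le_of_lt Finset.card_le_three (by omega))
    simp only [Finset.mem_insert, Finset.mem_singleton, not_or] at hb'
    obtain ⟨y, hy, he2⟩ := exists_moveH hx (a := a) (b := b) (by
      simp [Ne.symm ha'.1, Ne.symm ha'.2, Ne.symm hb'.1, Ne.symm hb'.2.1, Ne.symm hb'.2.2])
    refine ⟨y, hy, ?_⟩
    have e1 := (mem2 a).1 ha
    have e2 := (mem2 b).1 hb
    have e3 := ev none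
    have e4 := ev (some 0)
    omega

theorem oddifyH {x : GolayPt → ℤ} (hx : x ∈ leechLattice) (hn : sqNorm x ≤ 64)
    (hd : (x none - x (some 0)) % 8 = 4 ∨ (x none - x (some 0)) % 4 = 2) :
    ∃ y, EqvH x y ∧ y none % 2 = 1 := by
  by_cases ho : x none % 2 = 1
  · exact ⟨x, EqvH.refl hx, ho⟩
  have he : x none % 2 = 0 := by omega
  by_cases h2 : ∃ i, x i % 4 = 2
  · exact oddifyH_E2 hx hn he h2
  have h4 : ∀ i, x i % 4 = 0 := by
    intro i
    have h3 : ¬ x i % 4 = 2 := fun h => h2 ⟨i, h⟩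
    have := parity_of_mem hx i none
    omega
  have hd8 : (x none - x (some 0)) % 8 = 4 := by
    have a1 := h4 none
    have a2 := h4 (some 0)
    omega
  set O := Finset.univ.filter fun i => x i % 8 = 4 with hO
  have h1 : ∑ i ∈ O, (16 : ℤ) ≤ ∑ i ∈ O, x i ^ 2 := by
    refine Finset.sum_le_sum fun i hi => ?_
    have h2 := (Finset.mem_filter.1 hi).2
    have h3 : x i ≤ -4 ∨ 4 ≤ x i := by omega
    rcases h3 with h3 | h3 <;> nlinarith
  have h2' : ∑ i ∈ O, x i ^ 2 ≤ sqNorm x :=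
    Finset.sum_le_sum_of_subset_of_nonneg (Finset.subset_univ _) fun i _ _ => sq_nonneg _
  rw [Finset.sum_const, nsmul_eq_mul] at h1
  have hle : O.card ≤ 4 := by
    have : (O.card : ℤ) ≤ 4 := by omega
    exact_mod_cast this
  obtain ⟨a, ha, ha'⟩ := exists_mem_not_mem (s := Oᶜ) (t := {none, some 0})
    (lt_of_le_of_lt Finset.card_le_two (by rw [Finset.card_compl, card_golayPt]; omega))
  simp only [Finset.mem_insert, Finset.mem_singleton, not_or] at ha'
  obtain ⟨b, hb, hb'⟩ := exists_mem_not_mem (s := Oᶜ) (t := {none, some 0, a})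
    (lt_of_le_of_lt Finset.card_le_three (by rw [Finset.card_compl, card_golayPt]; omega))
  simp only [Finset.mem_insert, Finset.mem_singleton, not_or] at hb'
  obtain ⟨y, hy, he2⟩ := exists_moveH hx (a := a) (b := b) (by
    simp [Ne.symm ha'.1, Ne.symm ha'.2, Ne.symm hb'.1, Ne.symm hb'.2.1, Ne.symm hb'.2.2])
  have na : ¬ x a % 8 = 4 := fun h => (Finset.mem_compl.1 ha) (Finset.mem_filter.2 ⟨Finset.mem_univ _, h⟩)
  have nb : ¬ x b % 8 = 4 := fun h => (Finset.mem_compl.1 hb) (Finset.mem_filter.2 ⟨Finset.mem_univ _, h⟩)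
  have fa := h4 a
  have fb := h4 b
  obtain ⟨z, hz, hz1⟩ := oddifyH_E2 hy.mem_right (by rw [hy.norm]; exact hn) (by omega)
    ⟨none, by omega⟩
  exact ⟨z, hy.trans hz, hz1⟩

/-- normalising an odd vector whose first two coordinates are congruent modulo 4. -/
theorem normalizeH {y : GolayPt → ℤ} (hy : y ∈ leechLattice) (ho : y none % 2 = 1)
    (hd : (y none - y (some 0)) % 4 = 0) : ∃ z, EqvH y z ∧ ∀ i, z i % 4 = 1 := by
  have odd : ∀ i, y i % 2 = 1 := fun i => by rw [parity_of_mem hy i none, ho]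
  by_cases h1 : y none % 4 = 1
  · refine ⟨_, eqvH_sign (cls_mem_GC hy 3) ?_ ?_ hy, fun i => ?_⟩
    · rw [mem_cls]; unfold Int.ModEq; omega
    · rw [mem_cls]; unfold Int.ModEq; omega
    · have h1 := odd i
      by_cases hi : i ∈ cls y 3
      · have h2 := mem_cls.1 hi
        simp only [hi, if_true]
        unfold Int.ModEq at h2
        omega
      · have h2 : ¬ (y i ≡ 3 [ZMOD 4]) := fun h => hi (mem_cls.2 h)
        simp only [hi, if_false]
        unfold Int.ModEq at h2
        omega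
  · have h3 : EqvH y (fun i => if i ∈ cls y 1 then -y i else y i) := by
      refine eqvH_sign (cls_mem_GC hy 1) ?_ ?_ hy
      · rw [mem_cls]; unfold Int.ModEq; omega
      · rw [mem_cls]; unfold Int.ModEq; have := odd (some 0); omega
    refine ⟨_, h3.trans (eqvH_negswap h3.mem_right), fun i => ?_⟩
    have h1 := odd (projInv.symm i)
    by_cases hi : projInv.symm i ∈ cls y 1
    · have h2 := mem_cls.1 hi
      simp only [hi, if_true]
      unfold Int.ModEq at h2
      omega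
    · have h2 : ¬ (y (projInv.symm i) ≡ 1 [ZMOD 4]) := fun h => hi (mem_cls.2 h)
      simp only [hi, if_false]
      unfold Int.ModEq at h2
      omega

end Cfsg.Agent.Lib.Helper28
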