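import Cfsg.Agent.Lib.Helper28.SteinerFacts
import Cfsg.Agent.Lib.Helper28.SteinerDer

/-! Explicit generators of the Mathieu groups of degrees 11 and 12: data. -/

set_option autoImplicit false

namespace Cfsg.Agent.Lib.Helper28.M12Gen

open Cfsg Finset

def gs : Equiv.Perm (Fin 12) := Equiv.swap (3 : Fin 12) 5 * Equiv.swap (3 : Fin 12) 4 * Equiv.swap (6 : Fin 12) 8 * Equiv.swap (6 : Fin 12) 7 * Equiv.swap (9 : Fin 12) 11 * Equiv.swap (9 : Fin 12) 10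
def gt : Equiv.Perm (Fin 12) := Equiv.swap (3 : Fin 12) 9 * Equiv.swap (3 : Fin 12) 6 * Equiv.swap (4 : Fin 12) 10 * Equiv.swap (4 : Fin 12) 7 * Equiv.swap (5 : Fin 12) 11 * Equiv.swap (5 : Fin 12) 8
def gu : Equiv.Perm (Fin 12) := Equiv.swap (4 : Fin 12) 9 * Equiv.swap (4 : Fin 12) 5 * Equiv.swap (4 : Fin 12) 6 * Equiv.swap (7 : Fin 12) 10 * Equiv.swap (7 : Fin 12) 11 * Equiv.swap (7 : Fin 12) 8
def gv : Equiv.Perm (Fin 12) := Equiv.swap (4 : Fin 12) 11 * Equiv.swap (4 : Fin 12) 5 * Equiv.swap (4 : Fin 12) 7 * Equiv.swap (6 : Fin 12) 8 * Equiv.swap (6 : Fin 12) 9 * Equiv.swap (6 : Fin 12) 10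
def gw : Equiv.Perm (Fin 12) := Equiv.swap (4 : Fin 12) 8 * Equiv.swap (4 : Fin 12) 5 * Equiv.swap (4 : Fin 12) 10 * Equiv.swap (6 : Fin 12) 7 * Equiv.swap (6 : Fin 12) 9 * Equiv.swap (6 : Fin 12) 11
def gx1 : Equiv.Perm (Fin 12) := Equiv.swap (0 : Fin 12) 3 * Equiv.swap (6 : Fin 12) 7 * Equiv.swap (8 : Fin 12) 10 * Equiv.swap (9 : Fin 12) 11
def gx2 : Equiv.Perm (Fin 12) := Equiv.swap (0 : Fin 12) 1 * Equiv.swap (6 : Fin 12) 9 * Equiv.swap (7 : Fin 12) 10 * Equiv.swap (8 : Fin 12) 11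
def gx3 : Equiv.Perm (Fin 12) := Equiv.swap (1 : Fin 12) 2 * Equiv.swap (6 : Fin 12) 11 * Equiv.swap (7 : Fin 12) 9 * Equiv.swap (8 : Fin 12) 10

def gen : Fin 8 → Equiv.Perm (Fin 12) := ![gs, gt, gu, gv, gw, gx1, gx2, gx3]

/-- the hexads as bit masks -/
def ML : List ℕ := [63, 219, 237, 246, 350, 363, 373, 413, 430, 435, 455, 504, 591, 627, 636, 670, 679, 697, 725, 746, 791, 813, 826, 857, 870, 907, 948, 972, 978, 993, 1117, 1127, 1146, 1175, 1195, 1212, 1230, 1265, 1295, 1334, 1337, 1363, 1388, 1434, 1445, 1481, 1492, 1506, 1563, 1582, 1589, 1622, 1641, 1677, 1714, 1731, 1752, 1764, 1820, 1827, 1861, 1866, 1904, 1926, 1937, 1960, 2135, 2158, 2169, 2191, 2229, 2234, 2268, 2275, 2331, 2343, 2364, 2381, 2418, 2454, 2473, 2506, 2513, 2532, 2589, 2603, 2614, 2650, 2661, 2707, 2732, 2758, 2761, 2800, 2830, 2865, 2883, 2900, 2920, 2949, 2968, 2978, 3102, 3117, 3123, 3147,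 3188, 3225, 3238, 3269, 3282, 3304, 3349, 3370, 3398, 3416, 3425, 3459, 3468, 3504, 3591, 3640, 3660, 3665, 3682, 3722, 3732, 3745, 3849, 3858, 3876, 4032]

def blk (n : ℕ) : Finset (Fin 12) := univ.filter (fun i => n.testBit i.val)

def imgMask (x : Fin 12 → Fin 12) (n : ℕ) : ℕ :=
  ∑ i : Fin 12, if n.testBit i.val then 2 ^ (x i).val else 0

theorem ML_length : ML.length = 132 := by decide +kernel

theorem ML_nodup : ML.Nodup := by decide +kernel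

theorem ML_lt : ∀ n ∈ ML, n < 4096 := by decide +kernel

theorem ML_card : ∀ n ∈ ML, (blk n).card = 6 := by decide +kernel

theorem ML_inter : ∀ n ∈ ML, ∀ m ∈ ML, n ≠ m →
    (univ.filter (fun i : Fin 12 => n.testBit i.val && m.testBit i.val)).card ≤ 4 := by
  decide +kernel

theorem ML_gen : ∀ (k : Fin 8), ∀ n ∈ ML, imgMask (gen k) n ∈ ML ∧
    ∀ i : Fin 12, (imgMask (gen k) n).testBit (gen k i).val = n.testBit i.val := by
  decide +kernel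

def WL : List (List (Fin 8)) := [
  [6, 7],
  [7],
  [],
  [5, 6, 7],
  [0, 5, 6, 7],
  [0, 0, 5, 6, 7],
  [1, 5, 6, 7],
  [1, 0, 5, 6, 7],
  [1, 0, 0, 5, 6, 7],
  [1, 1, 5, 6, 7],
  [4, 0, 5, 6, 7],
  [4, 1, 5, 6, 7],
  [6],
  [],
  [],
  [5, 6],
  [0, 5, 6],
  [0, 0, 5, 6],
  [1, 5, 6],
  [1, 0, 5, 6],
  [1, 0, 0, 5, 6],
  [1, 1, 5, 6],
  [4, 0, 5, 6],
  [4, 1, 5, 6],
  [],
  [],
  [],
  [5],
  [0, 5],
  [0, 0, 5],
  [1, 5],
  [1, 0, 5],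
  [1, 0, 0, 5],
  [1, 1, 5],
  [4, 0, 5],
  [4, 1, 5],
  [],
  [],
  [],
  [],
  [0],
  [0, 0],
  [1],
  [1, 0],
  [1, 0, 0],
  [1, 1],
  [4, 0],
  [4, 1],
  [],
  [],
  [],
  [],
  [],
  [2, 2],
  [2],
  [3],
  [2, 3],
  [3, 4],
  [4],
  [4, 2]]

def wd (i : Fin 5) (t : Fin 12) : List (Fin 8) := WL.getD (12 * i.val + t.val) []

def prm (i : Fin 5) (t : Fin 12) : Equiv.Perm (Fin 12) := ((wd i t).map gen).prod

def bs : Fin 5 → Fin 12 := ![2, 1, 0, 3, 4]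

theorem bs_injective : Function.Injective bs := by decide

theorem tbl_spec : ∀ (i : Fin 5) (t : Fin 12), (∀ j : Fin 5, j < i → t ≠ bs j) →
    prm i t (bs i) = t ∧ ∀ j : Fin 5, j < i → prm i t (bs j) = bs j := by decide +kernel

theorem wd_lt : ∀ (i : Fin 5) (t : Fin 12), 1 ≤ i.val → ∀ k ∈ wd i t, k.val < 7 := by
  decide +kernel

theorem gen_fix2 : ∀ k : Fin 8, k.val < 7 → gen k 2 = 2 := by decide +kernel

end Cfsg.Agent.Lib.Helper28.M12Gen
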