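import Cfsg.Agent.Lib.Helper28.M24Cls2

/-!
Data and finite checks for the simplicity of the stabiliser of two points in `M24`.
-/

set_option autoImplicit false

namespace Cfsg.Agent.Lib.Helper28

open Cfsg Cfsg.Agent.Lib.Helper3.M24T Cfsg.Agent.Lib.Helper3.M24Gen
open scoped Pointwise

def cert3 : List (List ℕ) :=
  [[0, 1, 2, 3, 4, 5, 6, 7, 8, 9, 10, 11, 12, 13, 14, 15, 16, 17, 18, 19, 20, 21, 22, 23],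
   [0, 2, 5, 17, 9, 1, 13, 20, 10, 18, 21, 11, 6, 12, 3, 15, 7, 14, 4, 19, 16, 8, 22, 23],
   [0, 3, 17, 14, 9, 2, 19, 8, 21, 15, 16, 11, 6, 13, 1, 4, 20, 5, 18, 12, 10, 7, 22, 23],
   [0, 1, 4, 9, 21, 12, 16, 22, 3, 8, 7, 11, 20, 18, 6, 15, 14, 17, 19, 13, 5, 2, 10, 23],
   [0, 22, 17, 12, 4, 14, 11, 7, 6, 9, 13, 8, 15, 19, 16, 3, 5, 18, 2, 10, 20, 1, 21, 23],
   [0, 1, 2, 18, 5, 12, 7, 19, 16, 15, 9, 22, 4, 3, 11, 10, 17, 8, 13, 6, 20, 21, 14, 23],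
   [0, 7, 13, 17, 4, 5, 3, 15, 8, 14, 12, 18, 22, 19, 16, 1, 9, 6, 21, 2, 20, 11, 10, 23],
   [0, 10, 12, 16, 4, 19, 2, 13, 7, 11, 14, 15, 6, 8, 1, 9, 20, 5, 18, 17, 3, 21, 22, 23],
   [0, 11, 20, 12, 4, 5, 14, 2, 10, 8, 9, 16, 13, 3, 15, 6, 1, 17, 18, 21, 7, 22, 19, 23],
   [0, 15, 16, 21, 1, 5, 19, 7, 8, 17, 10, 12, 13, 11, 2, 4, 14, 18, 9, 22, 3, 20, 6, 23],
   [0, 11, 8, 3, 4, 22, 10, 15, 9, 2, 12, 20, 6, 14, 16, 18, 13, 5, 7, 19, 1, 21, 17, 23],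
   [0, 15, 3, 6, 4, 9, 2, 11, 22, 14, 8, 21, 12, 17, 5, 18, 16, 19, 1, 13, 20, 7, 10, 23],
   [0, 21, 9, 7, 6, 14, 18, 12, 8, 11, 13, 2, 3, 22, 15, 5, 16, 17, 4, 19, 1, 20, 10, 23],
   [0, 5, 13, 3, 22, 12, 6, 7, 9, 20, 19, 11, 1, 15, 4, 2, 10, 18, 21, 16, 8, 17, 14, 23],
   [0, 15, 19, 3, 4, 5, 22, 7, 1, 11, 21, 17, 18, 12, 6, 8, 2, 9, 13, 16, 10, 20, 14, 23],
   [0, 9, 11, 3, 17, 10, 1, 5, 18, 6, 7, 22, 4, 16, 14, 8, 19, 12, 15, 13, 20, 21, 2, 23],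
   [0, 17, 20, 11, 9, 5, 4, 18, 8, 6, 14, 16, 1, 13, 15, 10, 3, 12, 21, 2, 19, 7, 22, 23],
   [0, 5, 9, 3, 2, 19, 11, 13, 8, 4, 16, 17, 10, 22, 15, 20, 12, 6, 18, 1, 14, 21, 7, 23],
   [0, 3, 13, 18, 14, 4, 11, 7, 6, 9, 17, 8, 10, 21, 5, 22, 16, 12, 1, 15, 20, 2, 19, 23],
   [0, 1, 4, 17, 16, 6, 18, 14, 15, 3, 19, 8, 7, 13, 12, 11, 2, 9, 5, 21, 20, 10, 22, 23],
   [0, 1, 2, 3, 12, 17, 13, 4, 6, 20, 10, 21, 7, 8, 5, 9, 11, 14, 19, 22, 15, 16, 18, 23],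
   [0, 20, 15, 3, 22, 8, 6, 4, 12, 1, 2, 17, 5, 16, 14, 10, 19, 18, 11, 13, 9, 21, 7, 23]]

def cert4 : List (List ℕ) :=
  [[0, 1, 2, 3, 4, 5, 6, 7, 8, 9, 10, 11, 12, 13, 14, 15, 16, 17, 18, 19, 20, 21, 22, 23],
   [0, 21, 1, 10, 15, 14, 6, 7, 9, 20, 16, 11, 13, 22, 18, 17, 3, 4, 5, 19, 8, 2, 12, 23],
   [0, 1, 4, 9, 21, 12, 16, 22, 3, 8, 7, 11, 20, 18, 6, 15, 14, 17, 19, 13, 5, 2, 10, 23],
   [0, 1, 5, 3, 8, 17, 18, 20, 16, 11, 9, 10, 12, 7, 14, 21, 4, 2, 19, 6, 13, 22, 15, 23],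
   [0, 1, 4, 9, 21, 12, 16, 22, 3, 8, 7, 11, 20, 18, 6, 15, 14, 17, 19, 13, 5, 2, 10, 23],
   [0, 1, 4, 17, 16, 6, 18, 14, 15, 3, 19, 8, 7, 13, 12, 11, 2, 9, 5, 21, 20, 10, 22, 23],
   [0, 15, 19, 3, 4, 5, 22, 7, 1, 11, 21, 17, 18, 12, 6, 8, 2, 9, 13, 16, 10, 20, 14, 23],
   [0, 1, 2, 3, 16, 14, 10, 15, 6, 12, 8, 7, 19, 13, 17, 11, 22, 5, 21, 9, 18, 20, 4, 23],
   [0, 11, 20, 12, 4, 5, 14, 2, 10, 8, 9, 16, 13, 3, 15, 6, 1, 17, 18, 21, 7, 22, 19, 23],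
   [0, 1, 11, 19, 9, 20, 6, 15, 2, 17, 7, 8, 12, 21, 3, 10, 13, 4, 18, 14, 22, 16, 5, 23],
   [0, 1, 11, 3, 21, 19, 10, 7, 6, 18, 8, 15, 14, 13, 20, 2, 9, 4, 16, 22, 12, 17, 5, 23],
   [0, 3, 13, 18, 14, 4, 11, 7, 6, 9, 17, 8, 10, 21, 5, 22, 16, 12, 1, 15, 20, 2, 19, 23],
   [0, 1, 5, 3, 8, 17, 18, 20, 16, 11, 9, 10, 12, 7, 14, 21, 4, 2, 19, 6, 13, 22, 15, 23],
   [0, 11, 1, 21, 20, 9, 15, 6, 8, 17, 10, 2, 12, 19, 13, 7, 3, 5, 18, 14, 22, 16, 4, 23],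
   [0, 13, 21, 3, 7, 16, 4, 6, 5, 10, 12, 11, 9, 18, 14, 17, 8, 19, 1, 15, 2, 20, 22, 23],
   [0, 22, 17, 12, 4, 14, 11, 7, 6, 9, 13, 8, 15, 19, 16, 3, 5, 18, 2, 10, 20, 1, 21, 23],
   [0, 1, 4, 17, 16, 6, 18, 14, 15, 3, 19, 8, 7, 13, 12, 11, 2, 9, 5, 21, 20, 10, 22, 23],
   [0, 2, 21, 13, 11, 10, 19, 6, 5, 9, 8, 15, 16, 20, 12, 4, 14, 17, 18, 7, 3, 1, 22, 23],
   [0, 1, 22, 8, 10, 9, 16, 2, 20, 12, 21, 6, 5, 17, 14, 15, 11, 19, 18, 13, 3, 4, 7, 23],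
   [0, 18, 9, 10, 3, 8, 21, 20, 14, 11, 4, 2, 6, 1, 5, 15, 16, 17, 13, 19, 22, 12, 7, 23],
   [0, 1, 2, 3, 4, 5, 6, 7, 8, 9, 10, 11, 12, 13, 14, 15, 16, 17, 18, 19, 20, 21, 22, 23]]

def t11 : List ℕ := [0, 2, 4, 6, 8, 10, 12, 14, 16, 18, 20, 22, 1, 3, 5, 7, 9, 11, 13, 15, 17, 19, 21, 23]

/-- the cube of the table is trivial. -/
def o3 (T : List ℕ) : Bool := comp T (comp T T) == idT

/-- `t` has trivial cube, lies in the stabiliser of the two points, and `t² T` has trivial cube. -/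
def prod3 (t T : List ℕ) : Bool :=
  o3 t && o3 (comp (comp t t) T) && inM24 t && t.getD 23 0 == 23 && t.getD 0 0 == 0

theorem chk3 : (U3.zip cert3).all (fun p => prod3 p.2 p.1) = true := by decide +kernel
theorem chk4 : (U4.zip cert4).all (fun p => prod3 p.2 p.1) = true := by decide +kernel
theorem chk960 : list960.all (fun s => list960.any fun t => prod3 t s) = true := by decide +kernel

theorem inM24_t11 : inM24 t11 = true := by decide +kernel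

/-- tables of the powers of `t11`. -/
def pw11 : ℕ → List ℕ
  | 0 => idT
  | k + 1 => comp t11 (pw11 k)

def Qc (T : List ℕ) : Bool :=
  !(comp T t11 == comp t11 T) || (List.range 11).any fun k => T == pw11 k

theorem checkC : U3.all (fun a => U4.all fun b =>
    (comp a b).getD 2 0 != t11.getD ((comp a b).getD 1 0) 0 ||
      list960.all (fun s => Qc (comp (comp a b) s))) = true := by decide +kernel

theorem pw11_eleven : pw11 11 = idT := by decide +kernel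

end Cfsg.Agent.Lib.Helper28
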