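import Cfsg.Agent.Lib.Helper28.M24ClsData

/-!
The conjugacy classes of elements of orders 2 and 3 of `M24`.
-/

set_option autoImplicit false

namespace Cfsg.Agent.Lib.Helper28

open Cfsg Cfsg.Agent.Lib.Helper3.M24T Cfsg.Agent.Lib.Helper3.M24Gen
open scoped Pointwise

/-- the table is an involution. -/
def isInvT (T : List ℕ) : Bool := comp T T == idT && T != idT

/-- the table has order three. -/
def isO3T (T : List ℕ) : Bool := comp T (comp T T) == idT && T != idT

theorem isInvT_tblOf {g : Equiv.Perm GolayPt} (h1 : g * g = 1) (h2 : g ≠ 1) :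
    isInvT (tblOf g) = true := by
  simp only [isInvT, Bool.and_eq_true, beq_iff_eq, bne_iff_ne, ne_eq]
  refine ⟨by rw [← tblOf_mul, h1, tblOf_one], fun h => h2 ?_⟩
  apply tblOf_injective; rw [h, tblOf_one]

theorem isO3T_tblOf {g : Equiv.Perm GolayPt} (h1 : g * (g * g) = 1) (h2 : g ≠ 1) :
    isO3T (tblOf g) = true := by
  simp only [isO3T, Bool.and_eq_true, beq_iff_eq, bne_iff_ne, ne_eq]
  refine ⟨by rw [← tblOf_mul, ← tblOf_mul, h1, tblOf_one], fun h => h2 ?_⟩
  apply tblOf_injective; rw [h, tblOf_one]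

theorem inM24_t2 : inM24 t2 = true := by decide +kernel
theorem inM24_t3 : inM24 t3 = true := by decide +kernel
theorem inM24_r2A : inM24 r2A = true := by decide +kernel
theorem inM24_r2B : inM24 r2B = true := by decide +kernel
theorem inM24_r3A : inM24 r3A = true := by decide +kernel
theorem inM24_r3B : inM24 r3B = true := by decide +kernel

theorem check2 : (list960.zip certs2).all (fun p => conjQ [r2A, r2B] isInvT (comp t2 p.1) p.2) = true := by
  decide +kernel

theorem check3 : (list960.zip certs3).all (fun p => conjQ [r3A, r3B] isO3T (comp t3 p.1) p.2) = true := by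
  decide +kernel

theorem len2 : list960.length = certs2.length := by decide +kernel
theorem len3 : list960.length = certs3.length := by decide +kernel

theorem permOf_ptOf {t : List ℕ} (h : inM24 t = true) {i : ℕ} (hi : i < 24) :
    permOf t (ptOf i) = ptOf (t.getD i 0) := by
  rw [permOf_apply (isTbl_of_inM24 h), idx_ptOf hi]

theorem conj_conj (κ k g : Equiv.Perm GolayPt) :
    κ * (k * g * k⁻¹) * κ⁻¹ = (κ * k) * g * (κ * k)⁻¹ := by group

/-- every involution of `M24` is conjugate to one of two representatives. -/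
theorem invol_class {g : Equiv.Perm GolayPt} (hg : g ∈ M24) (h2 : orderOf g = 2) :
    ∃ k ∈ M24, k * g * k⁻¹ = permOf r2A ∨ k * g * k⁻¹ = permOf r2B := by
  have hgg : g * g = 1 := by rw [← sq, ← h2, pow_orderOf_eq_one]
  have hg1 : g ≠ 1 := by rintro rfl; simp at h2
  have hga : ∀ x, g (g x) = x := fun x => by
    have := congrArg (fun f : Equiv.Perm GolayPt => f x) hgg
    simpa using this
  obtain ⟨a, ha⟩ : ∃ a, g a ≠ a := by
    by_contra hcon
    push Not at hcon
    exact hg1 (Equiv.ext hcon)
  obtain ⟨c, hca, hcb, hc⟩ : ∃ c, c ≠ a ∧ c ≠ g a ∧ g c ≠ c := by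
    by_contra hcon
    push Not at hcon
    apply hg1
    apply eq_one_of_fixes_off hg [a, g a] (by simp) (by simp [Ne.symm ha])
    intro p hp
    simp only [List.mem_cons, List.not_mem_nil, or_false, not_or] at hp
    exact hcon p hp.1 hp.2
  have hda : g c ≠ a := fun h => hcb (by rw [← h, hga])
  have hdb : g c ≠ g a := fun h => hca (g.injective h)
  obtain ⟨k, hk, hmap⟩ := exists_M24_map_base [a, g a, c, g c] (by simp)
    (by simp [Ne.symm ha, Ne.symm hca, Ne.symm hcb, Ne.symm hc, Ne.symm hda, Ne.symm hdb])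
  simp only [List.map_cons, List.map_nil, List.length_cons, List.length_nil, List.take_succ_cons,
    List.take_zero, List.cons.injEq, and_true, zero_add, Nat.reduceAdd] at hmap
  obtain ⟨e1, e2, e3, e4⟩ := hmap
  have hg' := conj_mem hk hg
  obtain ⟨cert, hcert⟩ := check960c inM24_t2 len2 check2 hg' (by
    intro i hi
    simp only [List.mem_cons, List.not_mem_nil, or_false] at hi
    rcases hi with rfl | rfl | rfl | rfl
    · rw [← e1, conj_apply, e2, e1, permOf_ptOf inM24_t2 (by decide)]; rfl
    · rw [← e2, conj_apply, hga, e1, e2, permOf_ptOf inM24_t2 (by decide)]; rfl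
    · rw [← e3, conj_apply, e4, e3, permOf_ptOf inM24_t2 (by decide)]; rfl
    · rw [← e4, conj_apply, hga, e3, e4, permOf_ptOf inM24_t2 (by decide)]; rfl)
  obtain ⟨κ, hκ, r, hr, e⟩ := conj_of_conjQ (rs := [r2A, r2B])
    (by
      intro r hr
      simp only [List.mem_cons, List.not_mem_nil, or_false] at hr
      rcases hr with rfl | rfl
      · exact isTbl_of_inM24 inM24_r2A
      · exact isTbl_of_inM24 inM24_r2B) hcert
    (isInvT_tblOf (by
      have : k * g * k⁻¹ * (k * g * k⁻¹) = k * (g * g) * k⁻¹ := by group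
      rw [this, hgg]; simp) (by
      intro h
      apply hg1
      have : g = k⁻¹ * (k * g * k⁻¹) * k := by group
      rw [this, h]; simp))
  rw [conj_conj] at e
  refine ⟨κ * k, M24.mul_mem hκ hk, ?_⟩
  simp only [List.mem_cons, List.not_mem_nil, or_false] at hr
  rcases hr with rfl | rfl
  · exact Or.inl e
  · exact Or.inr e

/-- every element of order three of `M24` is conjugate to one of two representatives. -/
theorem order3_class {g : Equiv.Perm GolayPt} (hg : g ∈ M24) (h3 : orderOf g = 3) :
    ∃ k ∈ M24, k * g * k⁻¹ = permOf r3A ∨ k * g * k⁻¹ = permOf r3B := by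
  have hggg : g * (g * g) = 1 := by
    have := pow_orderOf_eq_one g
    rw [h3] at this
    rw [← this, pow_succ, pow_succ, pow_one, mul_assoc]
  have hg1 : g ≠ 1 := by rintro rfl; simp at h3
  have hga : ∀ x, g (g (g x)) = x := fun x => by
    have := congrArg (fun f : Equiv.Perm GolayPt => f x) hggg
    simpa using this
  have hmv : ∀ x, g x ≠ x → g (g x) ≠ x ∧ g (g x) ≠ g x := by
    intro x hx
    refine ⟨fun h => hx ?_, fun h => hx (g.injective h)⟩
    have := hga x
    rw [h] at this
    exact this
  obtain ⟨a, ha⟩ : ∃ a, g a ≠ a := by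
    by_contra hcon
    push Not at hcon
    exact hg1 (Equiv.ext hcon)
  obtain ⟨ha2, ha3⟩ := hmv a ha
  obtain ⟨d, hd1, hd2, hd3, hd⟩ : ∃ d, d ≠ a ∧ d ≠ g a ∧ d ≠ g (g a) ∧ g d ≠ d := by
    by_contra hcon
    push Not at hcon
    apply hg1
    apply eq_one_of_fixes_off hg [a, g a, g (g a)] (by simp)
      (by simp [Ne.symm ha, Ne.symm ha2, Ne.symm ha3])
    intro p hp
    simp only [List.mem_cons, List.not_mem_nil, or_false, not_or] at hp
    exact hcon p hp.1 hp.2.1 hp.2.2
  have he1 : g d ≠ a := fun h => hd3 (g.injective (by rw [h, hga]))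
  have he2 : g d ≠ g a := fun h => hd1 (g.injective h)
  have he3 : g d ≠ g (g a) := fun h => hd2 (g.injective h)
  obtain ⟨k, hk, hmap⟩ := exists_M24_map_base [a, g a, g (g a), d, g d] (by simp)
    (by simp [Ne.symm ha, Ne.symm ha2, Ne.symm ha3, Ne.symm hd1, Ne.symm hd2, Ne.symm hd3,
      Ne.symm hd, Ne.symm he1, Ne.symm he2, Ne.symm he3])
  simp only [List.map_cons, List.map_nil, List.length_cons, List.length_nil, List.take_succ_cons,
    List.take_zero, List.cons.injEq, and_true, zero_add, Nat.reduceAdd] at hmap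
  obtain ⟨e1, e2, e3, e4, e5⟩ := hmap
  have hg' := conj_mem hk hg
  obtain ⟨cert, hcert⟩ := check960c inM24_t3 len3 check3 hg' (by
    intro i hi
    simp only [List.mem_cons, List.not_mem_nil, or_false] at hi
    rcases hi with rfl | rfl | rfl | rfl
    · rw [← e1, conj_apply, e2, e1, permOf_ptOf inM24_t3 (by decide)]; rfl
    · rw [← e2, conj_apply, e3, e2, permOf_ptOf inM24_t3 (by decide)]; rfl
    · rw [← e3, conj_apply, hga, e1, e3, permOf_ptOf inM24_t3 (by decide)]; rfl
    · rw [← e4, conj_apply, e5, e4, permOf_ptOf inM24_t3 (by decide)]; rfl)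
  obtain ⟨κ, hκ, r, hr, e⟩ := conj_of_conjQ (rs := [r3A, r3B])
    (by
      intro r hr
      simp only [List.mem_cons, List.not_mem_nil, or_false] at hr
      rcases hr with rfl | rfl
      · exact isTbl_of_inM24 inM24_r3A
      · exact isTbl_of_inM24 inM24_r3B) hcert
    (isO3T_tblOf (by
      have : k * g * k⁻¹ * (k * g * k⁻¹ * (k * g * k⁻¹)) = k * (g * (g * g)) * k⁻¹ := by group
      rw [this, hggg]; simp) (by
      intro h
      apply hg1
      have : g = k⁻¹ * (k * g * k⁻¹) * k := by group
      rw [this, h]; simp))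
  rw [conj_conj] at e
  refine ⟨κ * k, M24.mul_mem hκ hk, ?_⟩
  simp only [List.mem_cons, List.not_mem_nil, or_false] at hr
  rcases hr with rfl | rfl
  · exact Or.inl e
  · exact Or.inr e

theorem fixMask_r2A : fixMask r2A = 416040 := by decide +kernel
theorem fixMask_r2B : fixMask r2B = 0 := by decide +kernel
theorem fixMask_r3A : fixMask r3A = 5521504 := by decide +kernel
theorem fixMask_r3B : fixMask r3B = 0 := by decide +kernel

end Cfsg.Agent.Lib.Helper28
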