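import Cfsg.Agent.Lib.Helper28.M24Classes
import Cfsg.Agent.Lib.Helper28.M24Trans

/-!
Consequences of the classification of the elements of orders 2 and 3 of `M24`.
-/

set_option autoImplicit false

namespace Cfsg.Agent.Lib.Helper28

open Cfsg Cfsg.Agent.Lib.Helper3.M24T Cfsg.Agent.Lib.Helper3.M24Gen
open scoped Pointwise

theorem fixSet_permOf {t : List ℕ} (h : inM24 t = true) : fixSet (permOf t) = un (fixMask t) := by
  rw [fixSet_eq_un, tblOf_permOf (isTbl_of_inM24 h)]

theorem fixSet_eq_empty_iff {g : Equiv.Perm GolayPt} : fixSet g = ∅ ↔ ∀ p, g p ≠ p := by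
  rw [Finset.eq_empty_iff_forall_notMem]
  simp only [mem_fixSet]

theorem permOf_mul_self {t : List ℕ} (h : inM24 t = true) (h2 : comp t t = idT) :
    permOf t * permOf t = 1 := by
  rw [← (permOf_comp (isTbl_of_inM24 h) (isTbl_of_inM24 h)).2, h2, permOf_idT]

theorem permOf_ne_one {t : List ℕ} (h : inM24 t = true) (h2 : t ≠ idT) : permOf t ≠ 1 := by
  intro e
  apply h2
  rw [← tblOf_permOf (isTbl_of_inM24 h), e, tblOf_one]

theorem orderOf_permOf_two {t : List ℕ} (h : inM24 t = true) (h2 : isInvT t = true) :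
    orderOf (permOf t) = 2 := by
  simp only [isInvT, Bool.and_eq_true, beq_iff_eq, bne_iff_ne, ne_eq] at h2
  exact orderOf_eq_prime (by rw [sq]; exact permOf_mul_self h h2.1) (permOf_ne_one h h2.2)

theorem orderOf_permOf_three {t : List ℕ} (h : inM24 t = true) (h2 : isO3T t = true) :
    orderOf (permOf t) = 3 := by
  simp only [isO3T, Bool.and_eq_true, beq_iff_eq, bne_iff_ne, ne_eq] at h2
  have ht := isTbl_of_inM24 h
  refine orderOf_eq_prime ?_ (permOf_ne_one h h2.2)
  have h3 := permOf_comp ht ht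
  have h4 := permOf_comp ht h3.1
  rw [pow_succ, pow_succ, pow_one, mul_assoc, ← h3.2, ← h4.2, h2.1, permOf_idT]

theorem orderOf_r2A : orderOf (permOf r2A) = 2 := orderOf_permOf_two inM24_r2A (by decide +kernel)
theorem orderOf_r2B : orderOf (permOf r2B) = 2 := orderOf_permOf_two inM24_r2B (by decide +kernel)
theorem orderOf_r3A : orderOf (permOf r3A) = 3 := orderOf_permOf_three inM24_r3A (by decide +kernel)
theorem orderOf_r3B : orderOf (permOf r3B) = 3 := orderOf_permOf_three inM24_r3B (by decide +kernel)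

theorem fixSet_r2A : fixSet (permOf r2A) = un 416040 := by rw [fixSet_permOf inM24_r2A, fixMask_r2A]
theorem fixSet_r2B : fixSet (permOf r2B) = ∅ := by rw [fixSet_permOf inM24_r2B, fixMask_r2B, un_zero]
theorem fixSet_r3A : fixSet (permOf r3A) = un 5521504 := by rw [fixSet_permOf inM24_r3A, fixMask_r3A]
theorem fixSet_r3B : fixSet (permOf r3B) = ∅ := by rw [fixSet_permOf inM24_r3B, fixMask_r3B, un_zero]

theorem fixSet_of_conj {k g r : Equiv.Perm GolayPt} (h : k * g * k⁻¹ = r) :
    k • fixSet g = fixSet r := by rw [← h, fixSet_conj]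

theorem smul_eq_empty {k : Equiv.Perm GolayPt} {s : Finset GolayPt} (h : k • s = ∅) : s = ∅ := by
  rw [← Finset.card_eq_zero, ← card_smul k, h, Finset.card_empty]

/-- the two kinds of involutions. -/
theorem invol_cases {g : Equiv.Perm GolayPt} (hg : g ∈ M24) (h2 : orderOf g = 2) :
    (∃ k ∈ M24, k * g * k⁻¹ = permOf r2A ∧ fixSet g ∈ octads) ∨
      (∃ k ∈ M24, k * g * k⁻¹ = permOf r2B ∧ fixSet g = ∅) := by
  obtain ⟨k, hk, h | h⟩ := invol_class hg h2
  · left
    refine ⟨k, hk, h, ?_⟩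
    have h1 := fixSet_of_conj h
    rw [fixSet_r2A] at h1
    have h3 : un 416040 ∈ octads := un_mem_octads (by decide +kernel)
    rw [← h1] at h3
    have := inv_smul_mem_octads hk h3
    rwa [inv_smul_smul] at this
  · right
    refine ⟨k, hk, h, ?_⟩
    have h1 := fixSet_of_conj h
    rw [fixSet_r2B] at h1
    exact smul_eq_empty h1

/-- the two kinds of elements of order three. -/
theorem order3_cases {g : Equiv.Perm GolayPt} (hg : g ∈ M24) (h3 : orderOf g = 3) :
    (∃ k ∈ M24, k * g * k⁻¹ = permOf r3A ∧ (fixSet g).card = 6) ∨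
      (∃ k ∈ M24, k * g * k⁻¹ = permOf r3B ∧ fixSet g = ∅) := by
  obtain ⟨k, hk, h | h⟩ := order3_class hg h3
  · left
    refine ⟨k, hk, h, ?_⟩
    have h1 := fixSet_of_conj h
    rw [fixSet_r3A] at h1
    rw [← card_smul k, h1]
    decide +kernel
  · right
    refine ⟨k, hk, h, ?_⟩
    have h1 := fixSet_of_conj h
    rw [fixSet_r3B] at h1
    exact smul_eq_empty h1

theorem conj_of_conj_conj {k1 k2 g h r : Equiv.Perm GolayPt} (h1 : k1 * g * k1⁻¹ = r)
    (h2 : k2 * h * k2⁻¹ = r) : (k2⁻¹ * k1) * g * (k2⁻¹ * k1)⁻¹ = h := by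
  have : (k2⁻¹ * k1) * g * (k2⁻¹ * k1)⁻¹ = k2⁻¹ * (k1 * g * k1⁻¹) * k2 := by group
  rw [this, h1, ← h2]; group

end Cfsg.Agent.Lib.Helper28
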