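import Cfsg.Agent.Lib.Helper3.M24Gen
import Cfsg.Agent.Lib.Helper28.M24Pts

/-!
Enumeration of the elements of `M24` with prescribed images of four base points, and the reduction of
conjugation-invariant questions on elements of `M24` to finite checks on tables.
-/

set_option autoImplicit false

namespace Cfsg.Agent.Lib.Helper28

open Cfsg Cfsg.Agent.Lib.Helper3.M24T Cfsg.Agent.Lib.Helper3.M24Gen
open scoped Pointwise

/-- tables of the pointwise stabiliser of the first five base points. -/
def list48 : List (List ℕ) := U6.flatMap fun b => U7.map fun c => comp b c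

/-- tables of the pointwise stabiliser of the first four base points. -/
def list960 : List (List ℕ) := U5.flatMap fun a => list48.map fun s => comp a s

theorem tblOf_mem_list48 {g : Equiv.Perm GolayPt} (hg : g ∈ stabL [23, 0, 1, 2, 3]) :
    tblOf g ∈ list48 := by
  obtain ⟨u, hu, v, hv, h1, h2, rfl⟩ := stab5_enum hg
  rw [tblOf_mul, tblOf_permOf (isTbl_of_inM24 h1), tblOf_permOf (isTbl_of_inM24 h2)]
  exact List.mem_flatMap.2 ⟨u, hu, List.mem_map.2 ⟨v, hv, rfl⟩⟩

theorem tblOf_mem_list960 {g : Equiv.Perm GolayPt} (hg : g ∈ stabL [23, 0, 1, 2]) :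
    tblOf g ∈ list960 := by
  obtain ⟨u, hu, g', hg', h1, rfl⟩ := sift lvl5
    (fun g hg => mem_un_of_not_mem (pre := [23, 0, 1, 2]) (by decide)
      (idx_not_mem_of_fixes (by decide) (by decide) ((mem_stabL _ _).1 hg).2)) hg
  rw [tblOf_mul, tblOf_permOf (isTbl_of_inM24 h1)]
  exact List.mem_flatMap.2 ⟨u, hu, List.mem_map.2 ⟨_, tblOf_mem_list48 hg', rfl⟩⟩

theorem exists_of_zip_all {α β : Type*} {P : α → β → Bool} :
    ∀ {l : List α} {c : List β}, l.length = c.length →
      (l.zip c).all (fun p => P p.1 p.2) = true → ∀ a ∈ l, ∃ b, P a b = true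
  | [], _, _, _, a, ha => by simp at ha
  | x :: l, [], h, _, _, _ => by simp at h
  | x :: l, y :: c, h, hall, a, ha => by
    simp only [List.zip_cons_cons, List.all_cons, Bool.and_eq_true] at hall
    rcases List.mem_cons.1 ha with rfl | ha
    · exact ⟨y, hall.1⟩
    · exact exists_of_zip_all (by simpa using h) hall.2 a ha

theorem tblOf_injective : Function.Injective tblOf := fun g h e => by
  rw [← permOf_tblOf g, e, permOf_tblOf]

theorem tblOf_eq_comp {t : List ℕ} (ht : inM24 t = true) {g : Equiv.Perm GolayPt} (hg : g ∈ M24)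
    {l : List ℕ} (hag : ∀ i ∈ l, g (ptOf i) = permOf t (ptOf i)) :
    ∃ s ∈ stabL l, tblOf g = comp t (tblOf s) := by
  refine ⟨(permOf t)⁻¹ * g, ?_, ?_⟩
  · rw [mem_stabL]
    refine ⟨M24.mul_mem (M24.inv_mem (permOf_mem_M24 ht)) hg, fun i hi => ?_⟩
    rw [Equiv.Perm.mul_apply, Equiv.Perm.inv_eq_iff_eq]
    exact hag i hi
  · rw [← tblOf_permOf (isTbl_of_inM24 ht), ← tblOf_mul, tblOf_permOf (isTbl_of_inM24 ht)]
    simp

/-- a check over the 960 elements with prescribed images of the first four base points. -/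
theorem check960 {t : List ℕ} (ht : inM24 t = true) {Q : List ℕ → Bool}
    (h : list960.all (fun s => Q (comp t s)) = true) {g : Equiv.Perm GolayPt} (hg : g ∈ M24)
    (hag : ∀ i ∈ [23, 0, 1, 2], g (ptOf i) = permOf t (ptOf i)) : Q (tblOf g) = true := by
  obtain ⟨s, hs, e⟩ := tblOf_eq_comp ht hg hag
  rw [e]
  exact List.all_eq_true.1 h _ (tblOf_mem_list960 hs)

/-- the same with certificates. -/
theorem check960c {t : List ℕ} (ht : inM24 t = true) {Q : List ℕ → List ℕ → Bool}
    {certs : List (List ℕ)} (hlen : list960.length = certs.length)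
    (h : (list960.zip certs).all (fun p => Q (comp t p.1) p.2) = true)
    {g : Equiv.Perm GolayPt} (hg : g ∈ M24)
    (hag : ∀ i ∈ [23, 0, 1, 2], g (ptOf i) = permOf t (ptOf i)) : ∃ c, Q (tblOf g) c = true := by
  obtain ⟨s, hs, e⟩ := tblOf_eq_comp ht hg hag
  rw [e]
  exact exists_of_zip_all (P := fun a b => Q (comp t a) b) hlen h _ (tblOf_mem_list960 hs)

/-- a check over the 48 elements with prescribed images of the first five base points. -/
theorem check48 {t : List ℕ} (ht : inM24 t = true) {Q : List ℕ → Bool}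
    (h : list48.all (fun s => Q (comp t s)) = true) {g : Equiv.Perm GolayPt} (hg : g ∈ M24)
    (hag : ∀ i ∈ [23, 0, 1, 2, 3], g (ptOf i) = permOf t (ptOf i)) : Q (tblOf g) = true := by
  obtain ⟨s, hs, e⟩ := tblOf_eq_comp ht hg hag
  rw [e]
  exact List.all_eq_true.1 h _ (tblOf_mem_list48 hs)

theorem conj_apply (k g : Equiv.Perm GolayPt) (x : GolayPt) : (k * g * k⁻¹) (k x) = k (g x) := by
  simp

theorem conj_mem {k g : Equiv.Perm GolayPt} (hk : k ∈ M24) (hg : g ∈ M24) : k * g * k⁻¹ ∈ M24 :=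
  M24.mul_mem (M24.mul_mem hk hg) (M24.inv_mem hk)

/-- conjugacy certificate: if `P T` then `k` conjugates `T` to one of the tables of `rs`. -/
def conjQ (rs : List (List ℕ)) (P : List ℕ → Bool) (T k : List ℕ) : Bool :=
  !P T || (inM24 k && rs.any fun r => comp k T == comp r k)

theorem conj_of_conjQ {rs : List (List ℕ)} (hrs : ∀ r ∈ rs, isTbl r = true) {P : List ℕ → Bool}
    {g : Equiv.Perm GolayPt} {k : List ℕ} (h : conjQ rs P (tblOf g) k = true)
    (hP : P (tblOf g) = true) : ∃ κ ∈ M24, ∃ r ∈ rs, κ * g * κ⁻¹ = permOf r := by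
  simp only [conjQ, hP, Bool.not_true, Bool.false_or, Bool.and_eq_true, List.any_eq_true,
    beq_iff_eq] at h
  obtain ⟨hk, r, hr, e⟩ := h
  refine ⟨permOf k, permOf_mem_M24 hk, r, hr, ?_⟩
  have e2 : permOf k * g = permOf r * permOf k := by
    apply tblOf_injective
    rw [tblOf_mul, tblOf_mul, tblOf_permOf (isTbl_of_inM24 hk), tblOf_permOf (hrs r hr), e]
  rw [e2]; simp

/-- an element of `M24` moving at most five points is trivial. -/
theorem eq_one_of_fixes_off {g : Equiv.Perm GolayPt} (hg : g ∈ M24) (xs : List GolayPt)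
    (hlen : xs.length ≤ 5) (hnd : xs.Nodup) (h : ∀ p, p ∉ xs → g p = p) : g = 1 := by
  obtain ⟨k, hk, hmap⟩ := exists_M24_map_list xs ((([6, 7, 8, 9, 10] : List ℕ).take xs.length).map ptOf)
    (by simp; omega) hlen hnd
    (((by decide : (([6, 7, 8, 9, 10] : List ℕ).map ptOf).Nodup).sublist
      ((List.take_sublist _ _).map _)))
  have h1 : k * g * k⁻¹ ∈ stabL [23, 0, 1, 2, 3, 5, 4] := by
    rw [mem_stabL]
    refine ⟨conj_mem hk hg, fun i hi => ?_⟩
    have h2 : k⁻¹ (ptOf i) ∉ xs := by
      intro hmem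
      have h3 : k (k⁻¹ (ptOf i)) ∈ xs.map k := List.mem_map_of_mem hmem
      rw [hmap] at h3
      have h3' : k (k⁻¹ (ptOf i)) = ptOf i := by simp
      rw [h3'] at h3
      have h4 : ptOf i ∈ ([6, 7, 8, 9, 10] : List ℕ).map ptOf :=
        ((List.take_sublist _ _).map _).subset h3
      have h6 : ∀ i ∈ ([23, 0, 1, 2, 3, 5, 4] : List ℕ),
          ptOf i ∉ ([6, 7, 8, 9, 10] : List ℕ).map ptOf := by decide
      exact h6 i hi h4
    have h5 := conj_apply k g (k⁻¹ (ptOf i))
    rw [h _ h2] at h5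
    simpa using h5
  rw [stab7_eq_bot, Subgroup.mem_bot] at h1
  have : g = k⁻¹ * (k * g * k⁻¹) * k := by group
  rw [this, h1]; simp

/-- the set of fixed points. -/
def fixSet (g : Equiv.Perm GolayPt) : Finset GolayPt := Finset.univ.filter fun p => g p = p

theorem mem_fixSet {g : Equiv.Perm GolayPt} {p : GolayPt} : p ∈ fixSet g ↔ g p = p := by
  simp [fixSet]

theorem fixSet_conj (k g : Equiv.Perm GolayPt) : fixSet (k * g * k⁻¹) = k • fixSet g := by
  ext p
  have h : p ∈ k • fixSet g ↔ k⁻¹ p ∈ fixSet g := by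
    have := mem_smul_finset_iff k (fixSet g) (k⁻¹ p)
    have e : k (k⁻¹ p) = p := by simp
    rwa [e] at this
  rw [h, mem_fixSet, mem_fixSet]
  simp only [Equiv.Perm.mul_apply]
  rw [← Equiv.Perm.eq_inv_iff_eq]

/-- the mask of the fixed points of a table. -/
def fixMask (t : List ℕ) : ℕ := Nat.ofBits fun i : Fin 24 => t.getD i 0 == (i : ℕ)

theorem mk_fixSet (g : Equiv.Perm GolayPt) : mk (fixSet g) = fixMask (tblOf g) := by
  unfold mk fixMask
  congr 1
  funext i
  rw [getD_tblOf g i.2]
  by_cases h : g (ptOf i) = ptOf i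
  · simp [mem_fixSet, h, idx_ptOf i.2]
  · have : idx (g (ptOf i)) ≠ i := by
      intro e
      apply h
      have e2 := ptOf_idx (g (ptOf i))
      rw [e] at e2
      exact e2.symm
    simp [mem_fixSet, h, this]

theorem fixSet_eq_un (g : Equiv.Perm GolayPt) : fixSet g = un (fixMask (tblOf g)) := by
  rw [← mk_fixSet, un_mk]

theorem card_fixSet (g : Equiv.Perm GolayPt) : (fixSet g).card = popc (fixMask (tblOf g)) := by
  rw [card_eq_popc, mk_fixSet]

theorem card_fixSet_conj (k g : Equiv.Perm GolayPt) :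
    (fixSet (k * g * k⁻¹)).card = (fixSet g).card := by
  rw [fixSet_conj, card_smul]

theorem tblOf_one : tblOf 1 = idT := by
  rw [← permOf_idT, tblOf_permOf (by decide +kernel)]

end Cfsg.Agent.Lib.Helper28
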