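import Cfsg.Agent.Lib.Helper3.AutPerm

/-!
Automorphisms of a sharply 4-transitive group of degree 11 are inner.
-/

set_option autoImplicit false

namespace Cfsg.Agent.Lib.Helper28.Sharp4

open Cfsg Finset Cfsg.Agent.Lib.Helper3.AutP

/-- `M` acts sharply 4-transitively on the invariant set `Δ` of 11 points. -/
structure Hyp {Ω : Type*} [DecidableEq Ω] (M : Subgroup (Equiv.Perm Ω)) (Δ : Finset Ω) : Prop where
  inv : ∀ m ∈ M, ∀ x ∈ Δ, m x ∈ Δ
  card : Δ.card = 11
  tr : ∀ xs ys : List Ω, xs.length = 4 → ys.length = 4 → xs.Nodup → ys.Nodup → (∀ x ∈ xs, x ∈ Δ) →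
    (∀ y ∈ ys, y ∈ Δ) → ∃ m ∈ M, xs.map m = ys
  sh : ∀ m ∈ M, ∀ l : List Ω, l.length = 4 → l.Nodup → (∀ x ∈ l, x ∈ Δ) → (∀ x ∈ l, m x = x) → m = 1
  cardM : Nat.card M = 7920

variable {Ω : Type*} [DecidableEq Ω] {M : Subgroup (Equiv.Perm Ω)} {Δ : Finset Ω} (H : Hyp M Δ)

include H in
theorem fix_le_three {m : Equiv.Perm Ω} (hm : m ∈ M) (h1 : m ≠ 1) :
    (Δ.filter (fun x => m x = x)).card ≤ 3 := by
  by_contra hc
  push Not at hc
  obtain ⟨s, hs, hs4⟩ := Finset.exists_subset_card_eq (show 4 ≤ (Δ.filter (fun x => m x = x)).card by omega)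
  apply h1
  apply H.sh m hm s.toList (by simp [hs4]) s.nodup_toList
  · intro x hx
    exact (Finset.mem_filter.1 (hs (Finset.mem_toList.1 hx))).1
  · intro x hx
    exact (Finset.mem_filter.1 (hs (Finset.mem_toList.1 hx))).2

include H in
theorem trans1 {x y : Ω} (hx : x ∈ Δ) (hy : y ∈ Δ) : ∃ m ∈ M, m x = y := by
  -- extend to lists of length 4
  have hext : ∀ z ∈ Δ, ∃ l : List Ω, l.length = 3 ∧ (z :: l).Nodup ∧ ∀ u ∈ l, u ∈ Δ := by
    intro z hz
    obtain ⟨s, hs, hs3⟩ := Finset.exists_subset_card_eq (show 3 ≤ (Δ.erase z).card by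
      rw [Finset.card_erase_of_mem hz, H.card]; norm_num)
    refine ⟨s.toList, by simp [hs3], ?_, ?_⟩
    · rw [List.nodup_cons]
      refine ⟨fun h => ?_, s.nodup_toList⟩
      exact (Finset.mem_erase.1 (hs (Finset.mem_toList.1 h))).1 rfl
    · intro u hu
      exact (Finset.mem_erase.1 (hs (Finset.mem_toList.1 hu))).2
  obtain ⟨l, l1, l2, l3⟩ := hext x hx
  obtain ⟨k, k1, k2, k3⟩ := hext y hy
  obtain ⟨m, hm, hmap⟩ := H.tr (x :: l) (y :: k) (by simp [l1]) (by simp [k1]) l2 k2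
    (by
      intro u hu
      rcases List.mem_cons.1 hu with rfl | hu
      · exact hx
      · exact l3 u hu)
    (by
      intro u hu
      rcases List.mem_cons.1 hu with rfl | hu
      · exact hy
      · exact k3 u hu)
  rw [List.map_cons, List.cons.injEq] at hmap
  exact ⟨m, hm, hmap.1⟩

include H in
/-- subgroups of order 720 fix a point -/
theorem fixes_point [Fintype Ω] (L : Subgroup (Equiv.Perm Ω)) (hL : L ≤ M) (hc : Nat.card L = 720) :
    ∃ x ∈ Δ, ∀ l ∈ L, l x = x := by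
  classical
  have : Fact (Nat.Prime 5) := ⟨by norm_num⟩
  have : Finite L := Nat.finite_of_card_ne_zero (by rw [hc]; norm_num)
  obtain ⟨g, hg⟩ := exists_prime_orderOf_dvd_card' (G := L) 5 (by rw [hc]; norm_num)
  have hg' : orderOf (g : Equiv.Perm Ω) = 5 := by rw [Subgroup.orderOf_coe, hg]
  have hp : (g : Equiv.Perm Ω) ^ 5 = 1 := by rw [← hg', pow_orderOf_eq_one]
  have hne : (g : Equiv.Perm Ω) ≠ 1 := by
    intro h
    rw [h, orderOf_one] at hg'
    omega
  have h3 := fix_le_three H (hL g.2) hne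
  have hmod := card_modEq_fix (g : Equiv.Perm Ω) 5 hp Δ (H.inv _ (hL g.2))
  rw [H.card] at hmod
  have h1 : (Δ.filter (fun x => (g : Equiv.Perm Ω) x = x)).card = 1 := by
    unfold Nat.ModEq at hmod
    omega
  obtain ⟨x, hx⟩ := Finset.card_eq_one.1 h1
  have hxm : x ∈ Δ.filter (fun x => (g : Equiv.Perm Ω) x = x) := by rw [hx]; simp
  obtain ⟨hxΔ, hgx⟩ := Finset.mem_filter.1 hxm
  set O := Δ.filter (fun y => ∃ l ∈ L, l x = y) with hOdef
  have hmem : ∀ y, y ∈ O ↔ ∃ l ∈ L, l x = y := by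
    intro y
    simp only [hOdef, Finset.mem_filter, and_iff_right_iff_imp]
    rintro ⟨l, hl, rfl⟩
    exact H.inv l (hL hl) x hxΔ
  have hxO : x ∈ O := (hmem x).2 ⟨1, L.one_mem, rfl⟩
  have hO : ∀ l ∈ L, ∀ y ∈ O, l y ∈ O := by
    intro l hl y hy
    obtain ⟨k, hk, rfl⟩ := (hmem y).1 hy
    exact (hmem _).2 ⟨l * k, L.mul_mem hl hk, rfl⟩
  have hOeq : MulAction.orbit L x = (O : Set Ω) := by
    ext y
    rw [MulAction.mem_orbit_iff, Finset.mem_coe, hmem]
    constructor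
    · rintro ⟨l, hl⟩
      exact ⟨l.1, l.2, hl⟩
    · rintro ⟨l, hl, h⟩
      exact ⟨⟨l, hl⟩, h⟩
  have hdvd : O.card ∣ 720 := by
    rw [← hc, ← Set.ncard_coe_finset, ← hOeq, ← MulAction.index_stabilizer]
    exact Subgroup.index_dvd_card _
  have hle : O.card ≤ 11 := by
    rw [← H.card]
    exact Finset.card_le_card (Finset.filter_subset _ _)
  have hm5 : O.card % 5 = 1 := by
    have h1 := card_modEq_fix (g : Equiv.Perm Ω) 5 hp O (hO g g.2)
    have h2 : O.filter (fun y => (g : Equiv.Perm Ω) y = y) = {x} := by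
      ext y
      simp only [Finset.mem_filter, Finset.mem_singleton]
      constructor
      · rintro ⟨h4, h5⟩
        have : y ∈ Δ.filter (fun x => (g : Equiv.Perm Ω) x = x) :=
          Finset.mem_filter.2 ⟨(Finset.mem_filter.1 h4).1, h5⟩
        rw [hx] at this
        simpa using this
      · rintro rfl
        exact ⟨hxO, hgx⟩
    rw [h2, Finset.card_singleton] at h1
    exact h1
  have hcases : O.card = 1 ∨ O.card = 6 := by
    have : ∀ n ≤ 11, n ∣ 720 → n % 5 = 1 → n = 1 ∨ n = 6 := by decide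
    exact this _ hle hdvd hm5
  rcases hcases with h1 | h1
  · refine ⟨x, hxΔ, fun l hl => ?_⟩
    obtain ⟨b, hb⟩ := Finset.card_eq_one.1 h1
    have e1 := hO l hl x hxO
    have e2 := hxO
    rw [hb, Finset.mem_singleton] at e1 e2
    rw [e1, e2]
  · exfalso
    have hT : (Δ \ O).card = 5 := by
      rw [Finset.card_sdiff_of_subset (Finset.filter_subset _ _), H.card, h1]
    have hinvT : ∀ l ∈ L, ∀ y, l y ∈ Δ \ O ↔ y ∈ Δ \ O := by
      have key : ∀ l ∈ L, ∀ y, y ∈ Δ \ O → l y ∈ Δ \ O := by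
        intro l hl y hy
        obtain ⟨h4, h5⟩ := Finset.mem_sdiff.1 hy
        refine Finset.mem_sdiff.2 ⟨H.inv l (hL hl) y h4, fun h6 => h5 ?_⟩
        have := hO _ (L.inv_mem hl) _ h6
        simpa using this
      intro l hl y
      refine ⟨fun h => ?_, key l hl y⟩
      have := key _ (L.inv_mem hl) _ h
      simpa using this
    have := card_le_factorial L (Δ \ O) hinvT (by
      intro l hl hfix
      obtain ⟨s, hs, hs4⟩ := Finset.exists_subset_card_eq (show 4 ≤ (Δ \ O).card by omega)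
      apply H.sh l (hL hl) s.toList (by simp [hs4]) s.nodup_toList
      · intro y hy
        exact (Finset.mem_sdiff.1 (hs (Finset.mem_toList.1 hy))).1
      · intro y hy
        exact hfix y (hs (Finset.mem_toList.1 hy)))
    rw [hc, hT] at this
    revert this
    decide

section rigid

variable (β : MulAut M) (ρ : Ω → Ω)

include H in
theorem beta_eq (hρ : ∀ (m : M) (x : Ω), x ∈ Δ → ρ ((m : Equiv.Perm Ω) x) = ((β m : M) : Equiv.Perm Ω) (ρ x))
    (m : M) (l : List Ω) (hl : l.length = 4) (hnd : l.Nodup)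
    (hF : ∀ x ∈ l, x ∈ Δ ∧ ρ x = x) (hmF : ∀ x ∈ l, ρ ((m : Equiv.Perm Ω) x) = (m : Equiv.Perm Ω) x) :
    β m = m := by
  have h1 : ((m⁻¹ * β m : M) : Equiv.Perm Ω) = 1 := by
    apply H.sh _ (m⁻¹ * β m : M).2 l hl hnd (fun x hx => (hF x hx).1)
    intro x hx
    show (m : Equiv.Perm Ω)⁻¹ (((β m : M) : Equiv.Perm Ω) x) = x
    have h2 := hρ m x (hF x hx).1
    rw [(hF x hx).2, hmF x hx] at h2
    rw [← h2]
    simp
  have h2 : m⁻¹ * β m = 1 := Subtype.ext h1
  exact (inv_mul_eq_one.1 h2).symm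

include H in
theorem fix_mod {m : Equiv.Perm Ω} (hm : m ∈ M) (p : ℕ) [Fact p.Prime] (hp : m ^ p = 1) (hne : m ≠ 1) :
    11 % p = (Δ.filter (fun x => m x = x)).card % p ∧ (Δ.filter (fun x => m x = x)).card ≤ 3 := by
  have h := card_modEq_fix m p hp Δ (H.inv m hm)
  rw [H.card] at h
  exact ⟨h, fix_le_three H hm hne⟩

include H in
theorem step (hρΔ : ∀ x ∈ Δ, ρ x ∈ Δ) (hρinj : Set.InjOn ρ Δ)
    (hρ : ∀ (m : M) (x : Ω), x ∈ Δ → ρ ((m : Equiv.Perm Ω) x) = ((β m : M) : Equiv.Perm Ω) (ρ x))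
    (m : M) (hβ : β m = m) (p : ℕ) [Fact p.Prime] (hp : (m : Equiv.Perm Ω) ^ p = 1)
    (hsmall : ((Δ.filter (fun x => (m : Equiv.Perm Ω) x = x)) \ (Δ.filter (fun x => ρ x = x))).card ≤ 1) :
    (Δ.filter (fun x => (m : Equiv.Perm Ω) x = x)) ⊆ Δ.filter (fun x => ρ x = x) ∧
    (Δ.filter (fun x => ρ x = x)).card % p = (Δ.filter (fun x => (m : Equiv.Perm Ω) x = x)).card % p := by
  have hcomm : ∀ x ∈ Δ, ρ ((m : Equiv.Perm Ω) x) = (m : Equiv.Perm Ω) (ρ x) := by
    intro x hx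
    rw [hρ m x hx, hβ]
  have hsub : (Δ.filter (fun x => (m : Equiv.Perm Ω) x = x)) ⊆ Δ.filter (fun x => ρ x = x) := by
    intro z hz
    by_contra hzF
    obtain ⟨hzΔ, hmz⟩ := Finset.mem_filter.1 hz
    have h1 : z ∈ (Δ.filter (fun x => (m : Equiv.Perm Ω) x = x)) \ (Δ.filter (fun x => ρ x = x)) :=
      Finset.mem_sdiff.2 ⟨hz, hzF⟩
    have h2 : ρ z ∈ (Δ.filter (fun x => (m : Equiv.Perm Ω) x = x)) \ (Δ.filter (fun x => ρ x = x)) := by
      refine Finset.mem_sdiff.2 ⟨Finset.mem_filter.2 ⟨hρΔ z hzΔ, ?_⟩, ?_⟩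
      · rw [← hcomm z hzΔ, hmz]
      · intro h3
        apply hzF
        refine Finset.mem_filter.2 ⟨hzΔ, ?_⟩
        exact hρinj (hρΔ z hzΔ) hzΔ (Finset.mem_filter.1 h3).2
    have h3 := Finset.card_le_one.1 hsmall _ h2 _ h1
    exact hzF (Finset.mem_filter.2 ⟨hzΔ, h3⟩)
  refine ⟨hsub, ?_⟩
  have h := card_modEq_fix (m : Equiv.Perm Ω) p hp (Δ.filter (fun x => ρ x = x)) (by
    intro x hx
    obtain ⟨h1, h2⟩ := Finset.mem_filter.1 hx
    refine Finset.mem_filter.2 ⟨H.inv _ m.2 x h1, ?_⟩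
    rw [hcomm x h1, h2])
  have e : (Δ.filter (fun x => ρ x = x)).filter (fun y => (m : Equiv.Perm Ω) y = y)
      = Δ.filter (fun x => (m : Equiv.Perm Ω) x = x) := by
    ext y
    constructor
    · intro hy
      obtain ⟨h1, h2⟩ := Finset.mem_filter.1 hy
      exact Finset.mem_filter.2 ⟨(Finset.mem_filter.1 h1).1, h2⟩
    · intro hy
      exact Finset.mem_filter.2 ⟨hsub hy, (Finset.mem_filter.1 hy).2⟩
  rw [e] at h
  exact h

include H in
theorem mod_info (hρΔ : ∀ x ∈ Δ, ρ x ∈ Δ) (hρinj : Set.InjOn ρ Δ)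
    (hρ : ∀ (m : M) (x : Ω), x ∈ Δ → ρ ((m : Equiv.Perm Ω) x) = ((β m : M) : Equiv.Perm Ω) (ρ x))
    (l : List Ω) (hl : l.length = 4) (hnd : l.Nodup) (hF : ∀ x ∈ l, x ∈ Δ ∧ ρ x = x)
    (m : Equiv.Perm Ω) (hm : m ∈ M) (hmF : ∀ x ∈ l, ρ (m x) = m x)
    (p : ℕ) [Fact p.Prime] (hp : m ^ p = 1) (hne : m ≠ 1) (A : Finset Ω)
    (hA : ∀ x ∈ A, (x ∈ Δ ∧ ρ x = x) ∧ m x = x)
    (hnum : ∀ c ≤ 3, 11 % p = c % p → A.card ≤ c → c ≤ A.card + 1) :
    (Δ.filter (fun x => ρ x = x)).card % p = 11 % p := by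
  have hβ : β ⟨m, hm⟩ = ⟨m, hm⟩ := beta_eq H β ρ hρ ⟨m, hm⟩ l hl hnd hF hmF
  obtain ⟨a1, a2⟩ := fix_mod H hm p hp hne
  have hAsub : A ⊆ Δ.filter (fun x => m x = x) := by
    intro x hx
    exact Finset.mem_filter.2 ⟨(hA x hx).1.1, (hA x hx).2⟩
  have hAc := Finset.card_le_card hAsub
  have hc := hnum _ a2 a1 hAc
  have hsmall : ((Δ.filter (fun x => m x = x)) \ (Δ.filter (fun x => ρ x = x))).card ≤ 1 := by
    have h1 : (Δ.filter (fun x => m x = x)) \ (Δ.filter (fun x => ρ x = x))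
        ⊆ (Δ.filter (fun x => m x = x)) \ A := by
      intro x hx
      obtain ⟨h2, h3⟩ := Finset.mem_sdiff.1 hx
      refine Finset.mem_sdiff.2 ⟨h2, fun h4 => h3 ?_⟩
      exact Finset.mem_filter.2 (hA x h4).1
    have h2 := Finset.card_le_card h1
    rw [Finset.card_sdiff_of_subset hAsub] at h2
    omega
  obtain ⟨_, b2⟩ := step H β ρ hρΔ hρinj hρ ⟨m, hm⟩ hβ p hp hsmall
  rw [b2, a1]

include H in
theorem rigid (hρΔ : ∀ x ∈ Δ, ρ x ∈ Δ) (hρinj : Set.InjOn ρ Δ)
    (hρ : ∀ (m : M) (x : Ω), x ∈ Δ → ρ ((m : Equiv.Perm Ω) x) = ((β m : M) : Equiv.Perm Ω) (ρ x))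
    (x1 x2 x3 x4 : Ω) (hnd : [x1, x2, x3, x4].Nodup)
    (hx : ∀ x ∈ [x1, x2, x3, x4], x ∈ Δ ∧ ρ x = x) : ∀ x ∈ Δ, ρ x = x := by
  have : Fact (Nat.Prime 2) := ⟨by norm_num⟩
  have : Fact (Nat.Prime 3) := ⟨by norm_num⟩
  have : Fact (Nat.Prime 5) := ⟨by norm_num⟩
  have h1 := hx x1 (by simp)
  have h2 := hx x2 (by simp)
  have h3 := hx x3 (by simp)
  have h4 := hx x4 (by simp)
  have hnd' := hnd
  simp only [List.nodup_cons, List.mem_cons, List.not_mem_nil, or_false, not_or, not_false_eq_true,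
    List.nodup_nil, and_true] at hnd'
  obtain ⟨⟨n12, n13, n14⟩, ⟨n23, n24⟩, n34⟩ := hnd'
  have hΔ : ∀ x ∈ [x1, x2, x3, x4], x ∈ Δ := fun x h => (hx x h).1
  -- the involution
  have f2 : (Δ.filter (fun x => ρ x = x)).card % 2 = 11 % 2 := by
    obtain ⟨t, ht, hmap⟩ := H.tr [x1, x2, x3, x4] [x2, x1, x3, x4] rfl rfl hnd (by
      simp only [List.nodup_cons, List.mem_cons, List.not_mem_nil, or_false, not_or,
        not_false_eq_true, List.nodup_nil, and_true]
      exact ⟨⟨Ne.symm n12, n23, n24⟩, ⟨n13, n14⟩, n34⟩) hΔ (by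
      intro y hy
      apply hΔ
      simp only [List.mem_cons, List.not_mem_nil, or_false] at hy ⊢
      tauto)
    simp only [List.map_cons, List.map_nil, List.cons.injEq, and_true] at hmap
    obtain ⟨t1, t2, t3, t4⟩ := hmap
    apply mod_info H β ρ hρΔ hρinj hρ [x1, x2, x3, x4] rfl hnd hx t ht _ 2 _ _ {x3, x4}
    · intro x hx'
      simp only [Finset.mem_insert, Finset.mem_singleton] at hx'
      rcases hx' with rfl | rfl
      · exact ⟨h3, t3⟩
      · exact ⟨h4, t4⟩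
    · intro c c1 c2 c3
      rw [Finset.card_pair n34] at c3 ⊢
      omega
    · intro x hx'
      simp only [List.mem_cons, List.not_mem_nil, or_false] at hx'
      rcases hx' with rfl | rfl | rfl | rfl
      · rw [t1]; exact h2.2
      · rw [t2]; exact h1.2
      · rw [t3]; exact h3.2
      · rw [t4]; exact h4.2
    · apply H.sh _ (M.pow_mem ht 2) [x1, x2, x3, x4] rfl hnd hΔ
      intro x hx'
      simp only [List.mem_cons, List.not_mem_nil, or_false] at hx'
      rcases hx' with rfl | rfl | rfl | rfl <;> simp [pow_succ, t1, t2, t3, t4]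
    · intro h
      rw [h] at t1
      exact n12 t1
  -- the element of order three
  have f3 : (Δ.filter (fun x => ρ x = x)).card % 3 = 11 % 3 := by
    obtain ⟨t, ht, hmap⟩ := H.tr [x1, x2, x3, x4] [x2, x3, x1, x4] rfl rfl hnd (by
      simp only [List.nodup_cons, List.mem_cons, List.not_mem_nil, or_false, not_or,
        not_false_eq_true, List.nodup_nil, and_true]
      exact ⟨⟨n23, Ne.symm n12, n24⟩, ⟨Ne.symm n13, n34⟩, n14⟩) hΔ (by
      intro y hy
      apply hΔ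
      simp only [List.mem_cons, List.not_mem_nil, or_false] at hy ⊢
      tauto)
    simp only [List.map_cons, List.map_nil, List.cons.injEq, and_true] at hmap
    obtain ⟨t1, t2, t3, t4⟩ := hmap
    apply mod_info H β ρ hρΔ hρinj hρ [x1, x2, x3, x4] rfl hnd hx t ht _ 3 _ _ {x4}
    · intro x hx'
      simp only [Finset.mem_singleton] at hx'
      rw [hx']
      exact ⟨h4, t4⟩
    · intro c c1 c2 c3
      rw [Finset.card_singleton] at c3 ⊢
      omega
    · intro x hx'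
      simp only [List.mem_cons, List.not_mem_nil, or_false] at hx'
      rcases hx' with rfl | rfl | rfl | rfl
      · rw [t1]; exact h2.2
      · rw [t2]; exact h3.2
      · rw [t3]; exact h1.2
      · rw [t4]; exact h4.2
    · apply H.sh _ (M.pow_mem ht 3) [x1, x2, x3, x4] rfl hnd hΔ
      intro x hx'
      simp only [List.mem_cons, List.not_mem_nil, or_false] at hx'
      rcases hx' with rfl | rfl | rfl | rfl <;> simp [pow_succ, t1, t2, t3, t4]
    · intro h
      rw [h] at t1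
      exact n12 t1
  have hle : (Δ.filter (fun x => ρ x = x)).card ≤ 11 := by
    rw [← H.card]; exact Finset.card_filter_le _ _
  have hsub4 : ({x1, x2, x3, x4} : Finset Ω) ⊆ Δ.filter (fun x => ρ x = x) := by
    intro x hx'
    simp only [Finset.mem_insert, Finset.mem_singleton] at hx'
    exact Finset.mem_filter.2 (hx x (by simpa using hx'))
  have hc4 : ({x1, x2, x3, x4} : Finset Ω).card = 4 := by
    rw [Finset.card_insert_of_notMem, Finset.card_insert_of_notMem, Finset.card_pair n34]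
    · simp [n23, n24]
    · simp [n12, n13, n14]
  have hge := Finset.card_le_card hsub4
  rw [hc4] at hge
  have hcases : (Δ.filter (fun x => ρ x = x)).card = 5 ∨ (Δ.filter (fun x => ρ x = x)).card = 11 := by
    omega
  rcases hcases with h5 | h11
  · exfalso
    obtain ⟨x5, hx5, hx5'⟩ := Finset.exists_mem_notMem_of_card_lt_card
      (s := ({x1, x2, x3, x4} : Finset Ω)) (t := Δ.filter (fun x => ρ x = x)) (by omega)
    simp only [Finset.mem_insert, Finset.mem_singleton, not_or] at hx5'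
    obtain ⟨n51, n52, n53, n54⟩ := hx5'
    have h5' := Finset.mem_filter.1 hx5
    have hFeq : Δ.filter (fun x => ρ x = x) = insert x5 {x1, x2, x3, x4} := by
      symm
      apply Finset.eq_of_subset_of_card_le
      · intro x hx'
        rcases Finset.mem_insert.1 hx' with rfl | hx'
        · exact hx5
        · exact hsub4 hx'
      · rw [Finset.card_insert_of_notMem (by simp [n51, n52, n53, n54]), hc4, h5]
    obtain ⟨t, ht, hmap⟩ := H.tr [x1, x2, x3, x4] [x2, x3, x4, x5] rfl rfl hnd (by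
      simp only [List.nodup_cons, List.mem_cons, List.not_mem_nil, or_false, not_or,
        not_false_eq_true, List.nodup_nil, and_true]
      exact ⟨⟨n23, n24, Ne.symm n52⟩, ⟨n34, Ne.symm n53⟩, Ne.symm n54⟩) hΔ (by
      intro y hy
      simp only [List.mem_cons, List.not_mem_nil, or_false] at hy
      rcases hy with rfl | rfl | rfl | rfl
      · exact h2.1
      · exact h3.1
      · exact h4.1
      · exact h5'.1)
    simp only [List.map_cons, List.map_nil, List.cons.injEq, and_true] at hmap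
    obtain ⟨t1, t2, t3, t4⟩ := hmap
    have hmF : ∀ x ∈ [x1, x2, x3, x4], ρ (t x) = t x := by
      intro x hx'
      simp only [List.mem_cons, List.not_mem_nil, or_false] at hx'
      rcases hx' with rfl | rfl | rfl | rfl
      · rw [t1]; exact h2.2
      · rw [t2]; exact h3.2
      · rw [t3]; exact h4.2
      · rw [t4]; exact h5'.2
    have hβ : β ⟨t, ht⟩ = ⟨t, ht⟩ := beta_eq H β ρ hρ ⟨t, ht⟩ _ rfl hnd hx hmF
    have t5 : t x5 = x1 := by
      have hmem : t x5 ∈ Δ.filter (fun x => ρ x = x) := by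
        refine Finset.mem_filter.2 ⟨H.inv t ht x5 h5'.1, ?_⟩
        have := hρ ⟨t, ht⟩ x5 h5'.1
        rw [hβ, h5'.2] at this
        exact this
      rw [hFeq] at hmem
      simp only [Finset.mem_insert, Finset.mem_singleton] at hmem
      rcases hmem with e | e | e | e | e
      · exact absurd (t.injective (e.trans t4.symm)) n54
      · exact e
      · exact absurd (t.injective (e.trans t1.symm)) n51
      · exact absurd (t.injective (e.trans t2.symm)) n52
      · exact absurd (t.injective (e.trans t3.symm)) n53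
    have f5 := mod_info H β ρ hρΔ hρinj hρ [x1, x2, x3, x4] rfl hnd hx t ht hmF 5 (by
      apply H.sh _ (M.pow_mem ht 5) [x1, x2, x3, x4] rfl hnd hΔ
      intro x hx'
      simp only [List.mem_cons, List.not_mem_nil, or_false] at hx'
      rcases hx' with rfl | rfl | rfl | rfl <;> simp [pow_succ, t1, t2, t3, t4, t5]) (by
      intro h
      rw [h] at t1
      exact n12 t1) ∅ (by simp) (by
      intro c c1 c2 c3
      rw [Finset.card_empty] at c3 ⊢
      omega)
    omega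
  · have hFeq : Δ.filter (fun x => ρ x = x) = Δ :=
      Finset.eq_of_subset_of_card_le (Finset.filter_subset _ _) (by rw [h11, H.card])
    intro x hx'
    rw [← hFeq] at hx'
    exact (Finset.mem_filter.1 hx').2

end rigid

include H in
theorem all_inner [Fintype Ω] (α : MulAut M) : ∃ g : M, MulAut.conj g = α := by
  classical
  obtain ⟨s, hs, hs4⟩ := Finset.exists_subset_card_eq (show 4 ≤ Δ.card by rw [H.card]; norm_num)
  obtain ⟨x1, x2, x3, x4, hlist⟩ : ∃ x1 x2 x3 x4, s.toList = [x1, x2, x3, x4] := by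
    have hlen : s.toList.length = 4 := by simp [hs4]
    rcases hl : s.toList with _ | ⟨x1, _ | ⟨x2, _ | ⟨x3, _ | ⟨x4, _ | ⟨x5, tl⟩⟩⟩⟩⟩
    all_goals rw [hl] at hlen
    all_goals simp at hlen
    exact ⟨x1, x2, x3, x4, rfl⟩
  have hnd : [x1, x2, x3, x4].Nodup := by rw [← hlist]; exact s.nodup_toList
  have hΔ : ∀ x ∈ [x1, x2, x3, x4], x ∈ Δ := by
    intro x hx
    rw [← hlist] at hx
    exact hs (Finset.mem_toList.1 hx)
  have hx1 : x1 ∈ Δ := hΔ x1 (by simp)
  have hS0 : Nat.card (MulAction.stabilizer M x1) = 720 := by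
    have h1 := Subgroup.card_mul_index (MulAction.stabilizer M x1)
    have h2 : MulAction.orbit M x1 = (Δ : Set Ω) := by
      ext y
      constructor
      · rintro ⟨m, rfl⟩
        exact H.inv m.1 m.2 x1 hx1
      · intro hy
        obtain ⟨m, hm, rfl⟩ := trans1 H hx1 hy
        exact ⟨⟨m, hm⟩, rfl⟩
    rw [MulAction.index_stabilizer, h2, Set.ncard_coe_finset, H.card, H.cardM] at h1
    omega
  obtain ⟨y0, hy0Δ, hy0⟩ := fixes_point H
    ((MulAction.stabilizer M x1).map (M.subtype.comp α.toMonoidHom)) (by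
      rintro _ ⟨m, _, rfl⟩
      exact (α m).2) (by
      rw [Subgroup.card_map_of_injective, hS0]
      exact M.subtype_injective.comp α.injective)
  have hy0' : ∀ m : M, (m : Equiv.Perm Ω) x1 = x1 → ((α m : M) : Equiv.Perm Ω) y0 = y0 := by
    intro m hm
    exact hy0 _ ⟨m, hm, rfl⟩
  have hr : ∀ x, ∃ m : M, x ∈ Δ → (m : Equiv.Perm Ω) x1 = x := by
    intro x
    by_cases hx : x ∈ Δ
    · obtain ⟨m, hm, h⟩ := trans1 H hx1 hx
      exact ⟨⟨m, hm⟩, fun _ => h⟩
    · exact ⟨1, fun h => absurd h hx⟩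
  choose r hr using hr
  let π : Ω → Ω := fun x => ((α (r x) : M) : Equiv.Perm Ω) y0
  have hπΔ : ∀ x, π x ∈ Δ := fun x => H.inv _ (α (r x)).2 y0 hy0Δ
  have hπ : ∀ (m : M) (x : Ω), x ∈ Δ → π ((m : Equiv.Perm Ω) x) = ((α m : M) : Equiv.Perm Ω) (π x) := by
    intro m x hx
    have hmx : (m : Equiv.Perm Ω) x ∈ Δ := H.inv _ m.2 x hx
    have h1 : (((m * r x)⁻¹ * r ((m : Equiv.Perm Ω) x) : M) : Equiv.Perm Ω) x1 = x1 := by
      show ((m * r x : M) : Equiv.Perm Ω)⁻¹ (((r ((m : Equiv.Perm Ω) x) : M) : Equiv.Perm Ω) x1) = x1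
      rw [hr _ hmx, Equiv.Perm.inv_eq_iff_eq]
      show _ = (m : Equiv.Perm Ω) ((r x : Equiv.Perm Ω) x1)
      rw [hr x hx]
    have h2 := hy0' _ h1
    have h3 : r ((m : Equiv.Perm Ω) x) = (m * r x) * ((m * r x)⁻¹ * r ((m : Equiv.Perm Ω) x)) := by
      group
    show ((α (r ((m : Equiv.Perm Ω) x)) : M) : Equiv.Perm Ω) y0 = _
    rw [h3, map_mul]
    show ((α (m * r x) : M) : Equiv.Perm Ω)
      (((α ((m * r x)⁻¹ * r ((m : Equiv.Perm Ω) x)) : M) : Equiv.Perm Ω) y0) = _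
    rw [h2, map_mul]
    rfl
  have hπ0 : π x1 = y0 := hy0' _ (hr x1 hx1)
  have hsurj : Set.SurjOn π Δ Δ := by
    intro y hy
    obtain ⟨m, hm, rfl⟩ := trans1 H hy0Δ hy
    refine ⟨((α.symm ⟨m, hm⟩ : M) : Equiv.Perm Ω) x1, H.inv _ (α.symm ⟨m, hm⟩).2 x1 hx1, ?_⟩
    rw [hπ _ _ hx1, hπ0, α.apply_symm_apply]
  have hinj : Set.InjOn π Δ :=
    Finset.injOn_of_surjOn_of_card_le π (fun x _ => hπΔ x) hsurj le_rfl
  obtain ⟨g, hg, hmap⟩ := H.tr ([x1, x2, x3, x4].map π) [x1, x2, x3, x4] rfl rfl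
    (hnd.map_on (fun x hx y hy h => hinj (hΔ x hx) (hΔ y hy) h)) hnd (by
      intro y hy
      obtain ⟨x, _, rfl⟩ := List.mem_map.1 hy
      exact hπΔ x) hΔ
  simp only [List.map_cons, List.map_nil, List.cons.injEq, and_true] at hmap
  obtain ⟨g1, g2, g3, g4⟩ := hmap
  let β : MulAut M := MulAut.conj ⟨g, hg⟩ * α
  let ρ : Ω → Ω := fun x => g (π x)
  have hβ : ∀ m : M, ((β m : M) : Equiv.Perm Ω) = g * ((α m : M) : Equiv.Perm Ω) * g⁻¹ := fun _ => rfl
  have hρΔ : ∀ x ∈ Δ, ρ x ∈ Δ := fun x _ => H.inv g hg _ (hπΔ x)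
  have hρinj : Set.InjOn ρ Δ := fun x hx y hy h => hinj hx hy (g.injective h)
  have hρ : ∀ (m : M) (x : Ω), x ∈ Δ →
      ρ ((m : Equiv.Perm Ω) x) = ((β m : M) : Equiv.Perm Ω) (ρ x) := by
    intro m x hx
    rw [hβ]
    show g (π ((m : Equiv.Perm Ω) x)) = g (((α m : M) : Equiv.Perm Ω) (g⁻¹ (g (π x))))
    rw [hπ m x hx]
    simp
  have hfix4 : ∀ x ∈ [x1, x2, x3, x4], x ∈ Δ ∧ ρ x = x := by
    intro x hx
    refine ⟨hΔ x hx, ?_⟩
    simp only [List.mem_cons, List.not_mem_nil, or_false] at hx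
    rcases hx with rfl | rfl | rfl | rfl
    · exact g1
    · exact g2
    · exact g3
    · exact g4
  have hid := rigid H β ρ hρΔ hρinj hρ x1 x2 x3 x4 hnd hfix4
  have hβ1 : β = 1 := by
    apply MulEquiv.ext
    intro m
    exact beta_eq H β ρ hρ m _ rfl hnd hfix4 (fun x hx => hid _ (H.inv _ m.2 x (hΔ x hx)))
  refine ⟨⟨g, hg⟩⁻¹, ?_⟩
  rw [map_inv]
  exact (eq_inv_of_mul_eq_one_right hβ1).symm

end Cfsg.Agent.Lib.Helper28.Sharp4
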