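import Mathlib
import Cfsg.Prelude.Def_Sporadic_a

/-!
Transport of the automorphism group of a set system along an isomorphism.
-/

set_option autoImplicit false

namespace Cfsg.Agent.Lib.Helper28.SteinerAut

open Cfsg
open scoped Pointwise

variable {α β : Type*} [DecidableEq α] [DecidableEq β]

theorem smul_finset_eq (g : Equiv.Perm α) (s : Finset α) : g • s = s.image g := rfl

theorem mem_aut_iff {B : Set (Finset α)} (g : Equiv.Perm α) :
    g ∈ setSystemAut B ↔ (fun b : Finset α => b.image g) '' B = B := by
  rw [MulAction.mem_stabilizer_iff]; rfl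

theorem permCongr_image (e : α ≃ β) (g : Equiv.Perm α) (s : Finset α) :
    (s.image e).image (e.permCongr g) = (s.image g).image e := by
  rw [Finset.image_image, Finset.image_image]
  congr 1
  funext x
  simp [Equiv.permCongr_apply]

theorem permCongr_mem {B : Set (Finset α)} {B' : Set (Finset β)} (e : α ≃ β)
    (he : (fun b => b.image e) '' B = B') (g : Equiv.Perm α) :
    e.permCongr g ∈ setSystemAut B' ↔ g ∈ setSystemAut B := by
  rw [mem_aut_iff, mem_aut_iff, ← he, Set.image_image]
  simp only [permCongr_image]
  rw [← Set.image_image (fun b : Finset α => b.image e) (fun b : Finset α => b.image g)]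
  exact (Set.image_injective.mpr (Finset.image_injective e.injective)).eq_iff

/-- The isomorphism of automorphism groups induced by an isomorphism of set systems. -/
def autEquiv {B : Set (Finset α)} {B' : Set (Finset β)} (e : α ≃ β)
    (he : (fun b => b.image e) '' B = B') : setSystemAut B ≃* setSystemAut B' where
  toFun g := ⟨e.permCongr g, (permCongr_mem e he g).mpr g.2⟩
  invFun g := ⟨e.symm.permCongr g, by
    rw [← permCongr_mem e he]
    have : e.permCongr (e.symm.permCongr (g : Equiv.Perm β)) = g := by
      ext x; simp [Equiv.permCongr_apply]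
    rw [this]; exact g.2⟩
  left_inv g := by ext x; simp [Equiv.permCongr_apply]
  right_inv g := by ext x; simp [Equiv.permCongr_apply]
  map_mul' g h := by ext x; simp [Equiv.permCongr_apply]

theorem autEquiv_apply {B : Set (Finset α)} {B' : Set (Finset β)} (e : α ≃ β)
    (he : (fun b => b.image e) '' B = B') (g : setSystemAut B) (x : α) :
    ((autEquiv e he g : setSystemAut B') : Equiv.Perm β) (e x) = e ((g : Equiv.Perm α) x) := by
  simp [autEquiv, Equiv.permCongr_apply]

theorem pretransitive_of_iso {B : Set (Finset α)} {B' : Set (Finset β)} (e : α ≃ β)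
    (he : (fun b => b.image e) '' B = B') (n : ℕ)
    (h : MulAction.IsMultiplyPretransitive (setSystemAut B') β n) :
    MulAction.IsMultiplyPretransitive (setSystemAut B) α n := by
  rw [MulAction.isMultiplyPretransitive_iff] at h ⊢
  intro x y
  obtain ⟨g', hg'⟩ := h (x.trans e.toEmbedding) (y.trans e.toEmbedding)
  refine ⟨(autEquiv e he).symm g', ?_⟩
  ext i
  apply e.injective
  have h1 := autEquiv_apply e he ((autEquiv e he).symm g') (x i)
  rw [MulEquiv.apply_symm_apply] at h1
  have h2 := congrArg (fun f : Fin n ↪ β => f i) hg'
  simp only [Function.Embedding.smul_apply, Function.Embedding.trans_apply,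
    Equiv.coe_toEmbedding] at h2
  show e ((((autEquiv e he).symm g' : setSystemAut B) : Equiv.Perm α) (x i)) = e (y i)
  rw [← h1, ← h2]
  rfl

end Cfsg.Agent.Lib.Helper28.SteinerAut
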