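import Cfsg.Agent.Lib.Helper28.SteinerU
import Cfsg.Agent.Lib.Helper28.SteinerAut

/-!
Counting the Steiner systems on `Fin v` along a search certificate, and hence the order of the
automorphism group.
-/

set_option autoImplicit false

namespace Cfsg.Agent.Lib.Helper28.SteinerC

open Cfsg Cfsg.Agent.Lib.Helper28.SteinerU
open scoped Pointwise

section Lists

variable {α : Type*}

theorem subs_subset : ∀ (l : List α) (n : ℕ) (c : List α), c ∈ subs n l → ∀ x ∈ c, x ∈ l := by
  intro l
  induction l with
  | nil =>
    intro n c hc x hx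
    cases n with
    | zero => simp [subs] at hc; subst hc; simp at hx
    | succ n => simp [subs] at hc
  | cons a l ih =>
    intro n c hc x hx
    cases n with
    | zero => simp [subs] at hc; subst hc; simp at hx
    | succ n =>
      simp only [subs, List.mem_append, List.mem_map] at hc
      rcases hc with ⟨d, hd, rfl⟩ | hc
      · rcases List.mem_cons.mp hx with rfl | hx
        · exact List.mem_cons_self
        · exact List.mem_cons_of_mem _ (ih n d hd x hx)
      · exact List.mem_cons_of_mem _ (ih _ c hc x hx)

theorem subs_nodup_mem : ∀ (l : List α), l.Nodup → ∀ (n : ℕ) (c : List α), c ∈ subs n l →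
    c.Nodup := by
  intro l
  induction l with
  | nil =>
    intro _ n c hc
    cases n with
    | zero => simp [subs] at hc; subst hc; simp
    | succ n => simp [subs] at hc
  | cons a l ih =>
    intro hl n c hc
    cases n with
    | zero => simp [subs] at hc; subst hc; simp
    | succ n =>
      simp only [subs, List.mem_append, List.mem_map] at hc
      rcases hc with ⟨d, hd, rfl⟩ | hc
      · exact List.nodup_cons.mpr
          ⟨fun h => (List.nodup_cons.mp hl).1 (subs_subset l n d hd a h),
            ih (List.nodup_cons.mp hl).2 n d hd⟩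
      · exact ih (List.nodup_cons.mp hl).2 _ c hc

theorem subs_pairwise [DecidableEq α] : ∀ (l : List α), l.Nodup → ∀ (n : ℕ),
    (subs n l).Pairwise (fun c c' => c.toFinset ≠ c'.toFinset) := by
  intro l
  induction l with
  | nil =>
    intro _ n
    cases n with
    | zero => simp [subs]
    | succ n => simp [subs]
  | cons a l ih =>
    intro hl n
    cases n with
    | zero => simp [subs]
    | succ n =>
      have ha := (List.nodup_cons.mp hl).1
      have hl' := (List.nodup_cons.mp hl).2
      simp only [subs]
      rw [List.pairwise_append]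
      refine ⟨?_, ih hl' _, ?_⟩
      · rw [List.pairwise_map]
        refine List.Pairwise.imp_of_mem ?_ (ih hl' n)
        intro c c' hc hc' hne heq
        apply hne
        have h1 : a ∉ c.toFinset := fun h => ha (subs_subset l n c hc a (List.mem_toFinset.mp h))
        have h2 : a ∉ c'.toFinset :=
          fun h => ha (subs_subset l n c' hc' a (List.mem_toFinset.mp h))
        rw [List.toFinset_cons, List.toFinset_cons] at heq
        rw [← Finset.erase_insert h1, heq, Finset.erase_insert h2]
      · intro x hx y hy heq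
        obtain ⟨d, _, rfl⟩ := List.mem_map.mp hx
        have h1 : a ∈ (a :: d).toFinset := by simp
        rw [heq] at h1
        exact ha (subs_subset l _ y hy a (List.mem_toFinset.mp h1))

end Lists

variable {v : ℕ}

/-- The Steiner systems containing the blocks of `K`. -/
def Sys (v t k : ℕ) (K : List ℕ) : Set (Set (Finset (Fin v))) :=
  {B | IsSteinerSystem t k B ∧ ∀ m ∈ K, blk m ∈ B}

theorem pre_injective {α β : Type*} [DecidableEq α] [DecidableEq β] (e : α ≃ β) :
    Function.Injective (pre e : Set (Finset β) → Set (Finset α)) := by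
  intro B B' h
  ext b
  have h1 : b.image e.symm ∈ pre e B ↔ b.image e.symm ∈ pre e B' := by rw [h]
  simpa only [pre, Set.mem_ofPred_eq, image_image_symm] using h1

variable [NeZero v]

theorem ncard_le_of_map {t k : ℕ} {K : List ℕ} {R X : ℕ} {s : ℕ}
    (h : checkMap v K R X s = true) : (Sys v t k (X :: K)).ncard ≤ (Sys v t k (R :: K)).ncard := by
  simp only [checkMap, Bool.and_eq_true, beq_iff_eq, List.all_eq_true, List.contains_iff_mem] at h
  obtain ⟨h1, h2⟩ := h
  have huniv : (blk (2 ^ v - 1) : Finset (Fin v)) = Finset.univ := by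
    ext i; simp [mem_blk, Nat.testBit_two_pow_sub_one]
  have hsurj : Function.Surjective (sig (v := v) s) := by
    intro y
    have hy : y ∈ (blk (imgMask v s (2 ^ v - 1)) : Finset (Fin v)) := by
      rw [h1, huniv]; exact Finset.mem_univ y
    rw [blk_imgMask, Finset.mem_image] at hy
    obtain ⟨x, _, hx⟩ := hy
    exact ⟨x, hx⟩
  have hbij : Function.Bijective (sig (v := v) s) :=
    ⟨Finite.injective_iff_surjective.mpr hsurj, hsurj⟩
  let e : Fin v ≃ Fin v := Equiv.ofBijective _ hbij
  refine Set.ncard_le_ncard_of_injOn (pre e) ?_ (pre_injective e).injOn (Set.toFinite _)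
  rintro B ⟨hB, hK⟩
  refine ⟨pre_steiner e hB, ?_⟩
  intro m hm
  show (blk m).image e ∈ B
  have : (blk m : Finset (Fin v)).image e = blk (imgMask v s m) := by
    rw [blk_imgMask]; rfl
  rw [this]
  exact hK _ (h2 m hm)

/-- The counting version of `go`. -/
def goC (Am : ℕ) (K : List ℕ) (T : List (Fin v)) (R : ℕ) :
    List (List (Fin v)) → List ℕ → Option ℕ
  | [], _ => some 0
  | c :: cs, ms =>
    if maskOf (T ++ c) == R then (goC Am K T R cs ms).map (· + 1)
    else if compat Am K (T ++ c) then
      if checkMap v K R (maskOf (T ++ c)) (ms.headD 0) &&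
          checkMap v K (maskOf (T ++ c)) R (ms.tail.headD 0) then
        (goC Am K T R cs ms.tail.tail).map (· + 1)
      else none
    else goC Am K T R cs ms

/-- The systems containing `K` and one of the candidate blocks. -/
def SysAny (t k : ℕ) (K : List ℕ) (T : List (Fin v)) (cs : List (List (Fin v))) :
    Set (Set (Finset (Fin v))) :=
  {B | B ∈ Sys v t k K ∧ ∃ c ∈ cs, (T ++ c).toFinset ∈ B}

omit [NeZero v] in
theorem sys_cons {t k : ℕ} (K : List ℕ) (l : List (Fin v)) :
    Sys v t k (maskOf l :: K) = {B | B ∈ Sys v t k K ∧ l.toFinset ∈ B} := by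
  ext B
  simp only [Sys, Set.mem_ofPred_eq, List.mem_cons, forall_eq_or_imp, blk_maskOf]
  tauto

theorem goC_count {t k Am : ℕ}
    (hA : ∀ B : Set (Finset (Fin v)), IsSteinerSystem t k B → ∀ b ∈ B, ∀ c ∈ B,
      Am.testBit (b ∩ c).card = true)
    (K : List ℕ) (T : List (Fin v)) (hTn : T.Nodup) (hTl : T.length = t) (R : ℕ) :
    ∀ (cs : List (List (Fin v))) (ms : List ℕ) (n : ℕ),
      cs.Pairwise (fun c c' => (T ++ c).toFinset ≠ (T ++ c').toFinset) →
      (∀ c ∈ cs, (T ++ c).Nodup) →
      goC Am K T R cs ms = some n →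
      (SysAny t k K T cs).ncard = n * (Sys v t k (R :: K)).ncard := by
  intro cs
  induction cs with
  | nil =>
    intro ms n _ _ h
    simp only [goC, Option.some.injEq] at h
    subst h
    simp [SysAny]
  | cons c cs ih =>
    intro ms n hpw hnd h
    have hpw' := (List.pairwise_cons.mp hpw).2
    have hne := (List.pairwise_cons.mp hpw).1
    have hnd' : ∀ c ∈ cs, (T ++ c).Nodup := fun d hd => hnd d (List.mem_cons_of_mem _ hd)
    have hsplit : SysAny t k K T (c :: cs)
        = Sys v t k (maskOf (T ++ c) :: K) ∪ SysAny t k K T cs := by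
      rw [sys_cons]
      ext B
      simp only [SysAny, Set.mem_ofPred_eq, List.mem_cons, exists_eq_or_imp, Set.mem_union]
      tauto
    have hdisj : Disjoint (Sys v t k (maskOf (T ++ c) :: K)) (SysAny t k K T cs) := by
      rw [sys_cons, Set.disjoint_left]
      rintro B ⟨⟨hB, _⟩, h1⟩ ⟨_, d, hd, h2⟩
      obtain ⟨x, _, hx⟩ := hB.2 T.toFinset (by rw [List.toFinset_card_of_nodup hTn, hTl])
      have h3 := hx _ ⟨h1, by rw [List.toFinset_append]; exact Finset.subset_union_left⟩
      have h4 := hx _ ⟨h2, by rw [List.toFinset_append]; exact Finset.subset_union_left⟩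
      exact hne d hd (h3.trans h4.symm)
    have hcard : (SysAny t k K T (c :: cs)).ncard
        = (Sys v t k (maskOf (T ++ c) :: K)).ncard + (SysAny t k K T cs).ncard := by
      rw [hsplit]
      exact Set.ncard_union_eq hdisj (Set.toFinite _) (Set.toFinite _)
    rw [goC] at h
    by_cases hR : (maskOf (T ++ c) == R) = true
    · rw [if_pos hR] at h
      obtain ⟨n', hn', rfl⟩ := Option.map_eq_some_iff.mp h
      rw [hcard, ih ms n' hpw' hnd' hn', beq_iff_eq.mp hR]
      ring
    · rw [if_neg hR] at h
      by_cases hd : compat Am K (T ++ c) = true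
      · rw [if_pos hd] at h
        by_cases hm : (checkMap v K R (maskOf (T ++ c)) (ms.headD 0) &&
          checkMap v K (maskOf (T ++ c)) R (ms.tail.headD 0)) = true
        · rw [if_pos hm] at h
          obtain ⟨n', hn', rfl⟩ := Option.map_eq_some_iff.mp h
          rw [Bool.and_eq_true] at hm
          have h1 : (Sys v t k (maskOf (T ++ c) :: K)).ncard = (Sys v t k (R :: K)).ncard :=
            le_antisymm (ncard_le_of_map hm.1) (ncard_le_of_map hm.2)
          rw [hcard, ih _ n' hpw' hnd' hn', h1]
          ring
        · rw [if_neg hm] at h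
          exact absurd h (by simp)
      · rw [if_neg hd] at h
        have h1 : Sys v t k (maskOf (T ++ c) :: K) = ∅ := by
          rw [sys_cons, Set.eq_empty_iff_forall_notMem]
          rintro B ⟨⟨hB, hK⟩, h1⟩
          apply hd
          rw [compat, List.all_eq_true]
          intro Y hY
          rw [← card_inter_blk _ (hnd c List.mem_cons_self)]
          exact hA B hB _ h1 _ (hK Y hY)
        rw [hcard, h1, Set.ncard_empty, zero_add]
        exact ih ms n hpw' hnd' h

def nodeC (v : ℕ) [NeZero v] (t k Am : ℕ) (K : List ℕ) (T : List (Fin v)) (R : ℕ)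
    (wits : List ℕ) (maps : List ℕ) : Option ℕ :=
  if decide T.Nodup && decide (T.length = t) && wits.all (witOK (maskOf T)) then
    goC Am K T R (subs (k - t) ((List.finRange v).filter
      (fun i => !(wits.foldr (· ||| ·) (maskOf T)).testBit i.val))) maps
  else none

theorem node_count {t k Am : ℕ}
    (hA : ∀ B : Set (Finset (Fin v)), IsSteinerSystem t k B → ∀ b ∈ B, ∀ c ∈ B,
      Am.testBit (b ∩ c).card = true)
    {K : List ℕ} {T : List (Fin v)} {R : ℕ} {wits : List ℕ}
    {maps : List ℕ} {n : ℕ} (hw : ∀ Y ∈ wits, Y ∈ K)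
    (h : nodeC v t k Am K T R wits maps = some n) :
    (Sys v t k K).ncard = n * (Sys v t k (R :: K)).ncard := by
  rw [nodeC] at h
  split_ifs at h with h0
  simp only [Bool.and_eq_true, decide_eq_true_eq, List.all_eq_true] at h0
  obtain ⟨⟨hTn, hTl⟩, hwit⟩ := h0
  set rest : List (Fin v) := (List.finRange v).filter
      (fun i => !(wits.foldr (· ||| ·) (maskOf T)).testBit i.val) with hrest
  have hrn : rest.Nodup := (List.nodup_finRange v).filter _
  have hrT : ∀ x ∈ rest, x ∉ T := by
    intro x hx hxT
    rw [hrest, List.mem_filter] at hx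
    have : (wits.foldr (· ||| ·) (maskOf T)).testBit x.val = true :=
      (testBit_foldr_or _ _ _).mpr (Or.inl ((testBit_maskOf T x).mpr hxT))
    rw [this] at hx
    simp at hx
  have hnd : ∀ c ∈ subs (k - t) rest, (T ++ c).Nodup := by
    intro c hc
    rw [List.nodup_append]
    refine ⟨hTn, subs_nodup_mem rest hrn _ c hc, ?_⟩
    intro a ha b hb hab
    subst hab
    exact hrT a (subs_subset rest _ c hc a hb) ha
  have hpw : (subs (k - t) rest).Pairwise
      (fun c c' => (T ++ c).toFinset ≠ (T ++ c').toFinset) := by
    refine List.Pairwise.imp_of_mem ?_ (subs_pairwise rest hrn (k - t))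
    intro c c' hc hc' hne heq
    apply hne
    rw [List.toFinset_append, List.toFinset_append] at heq
    have h1 : Disjoint T.toFinset c.toFinset := by
      rw [Finset.disjoint_left]
      intro a ha hb
      exact hrT a (subs_subset rest _ c hc a (List.mem_toFinset.mp hb)) (List.mem_toFinset.mp ha)
    have h2 : Disjoint T.toFinset c'.toFinset := by
      rw [Finset.disjoint_left]
      intro a ha hb
      exact hrT a (subs_subset rest _ c' hc' a (List.mem_toFinset.mp hb)) (List.mem_toFinset.mp ha)
    rw [← Finset.union_sdiff_cancel_left h1, heq, Finset.union_sdiff_cancel_left h2]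
  rw [← goC_count hA K T hTn hTl R _ _ n hpw hnd h]
  congr 1
  ext B
  simp only [SysAny, Set.mem_ofPred_eq]
  constructor
  · rintro ⟨hB, hK⟩
    refine ⟨⟨hB, hK⟩, ?_⟩
    obtain ⟨X, ⟨hXB, hTX⟩, _⟩ := hB.2 T.toFinset (by rw [List.toFinset_card_of_nodup hTn, hTl])
    have hXk := hB.1 X hXB
    set c : List (Fin v) := rest.filter (fun i => decide (i ∈ X)) with hc
    have hcn : c.Nodup := hrn.filter _
    have hcT : c.toFinset = X \ T.toFinset := by
      ext j
      rw [List.mem_toFinset, hc, List.mem_filter, hrest, List.mem_filter, Finset.mem_sdiff,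
        List.mem_toFinset, decide_eq_true_iff]
      constructor
      · rintro ⟨⟨_, h1⟩, h2⟩
        refine ⟨h2, fun hjT => ?_⟩
        have : (wits.foldr (· ||| ·) (maskOf T)).testBit j.val = true :=
          (testBit_foldr_or _ _ _).mpr (Or.inl ((testBit_maskOf T j).mpr hjT))
        rw [this] at h1; simp at h1
      · rintro ⟨h1, h2⟩
        refine ⟨⟨List.mem_finRange j, ?_⟩, h1⟩
        rw [Bool.not_eq_true', Bool.eq_false_iff]
        intro h3
        rcases (testBit_foldr_or _ _ _).mp h3 with h4 | ⟨Y, hY, h4⟩
        · exact h2 ((testBit_maskOf T j).mp h4)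
        · have h5 := hwit Y hY
          rw [witOK, beq_iff_eq] at h5
          exact h2 (excl hB hTn hTl hXB hTX (hK Y (hw Y hY)) h5 h1 h4)
    have hclen : c.length = k - t := by
      rw [← List.toFinset_card_of_nodup hcn, hcT, Finset.card_sdiff_of_subset hTX, hXk,
        List.toFinset_card_of_nodup hTn, hTl]
    refine ⟨c, mem_subs List.filter_sublist _ hclen, ?_⟩
    rw [List.toFinset_append, hcT, Finset.union_sdiff_of_subset hTX]
    exact hXB
  · rintro ⟨h1, _⟩
    exact h1

def runC (v : ℕ) [NeZero v] (t k Am W b : ℕ) : List ℕ → ℕ → List Step → Option ℕ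
  | _, kn, [] => if leafOK v t k W b kn then some 1 else none
  | K, kn, st :: rest =>
    if st.wits.all (fun j => kn.testBit j) then
      (nodeC v t k Am K (st.T.map (Fin.ofNat v)) (fld W st.idx) (st.wits.map (fld W)) st.maps).bind
        fun a => (runC v t k Am W b (fld W st.idx :: K) (kn ||| 2 ^ st.idx) rest).map (a * ·)
    else none

omit [NeZero v] in
theorem leaf_count {t k W b kn : ℕ} (hkt : 0 < Nat.choose k t) {K : List ℕ}
    (hinv : ∀ j, kn.testBit j = true → fld W j ∈ K)
    (h : leafOK v t k W b kn = true) : (Sys v t k K).ncard ≤ 1 := by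
  have key : ∀ B ∈ Sys v t k K, {s : Finset (Fin v) | ∃ j < b, blk (fld W j) = s} = B := by
    rintro B ⟨hB, hK⟩
    simp only [leafOK, Bool.and_eq_true, decide_eq_true_eq, List.all_eq_true, beq_iff_eq,
      List.mem_range] at h
    obtain ⟨⟨⟨hkn, hmono⟩, hlt⟩, hlen⟩ := h
    have hcount := Cfsg.Agent.S0350.result hB
    rw [Fintype.card_fin, ← hlen] at hcount
    have hBn : B.ncard = b := Nat.eq_of_mul_eq_mul_right hkt hcount
    have hsm : ∀ j, j < b → ∀ i, i < j → fld W i < fld W j := by
      intro j
      induction j with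
      | zero => intro _ i hi; omega
      | succ j ih =>
        intro hj i hi
        have h1 : fld W j < fld W (j + 1) := hmono j (by omega)
        rcases Nat.lt_succ_iff_lt_or_eq.mp hi with h2 | h2
        · exact (ih (by omega) i h2).trans h1
        · rw [h2]; exact h1
    have hbound : ∀ j, j < b → fld W j < 2 ^ v := by
      intro j hj
      rcases Nat.lt_or_ge j (b - 1) with h1 | h1
      · exact (hsm (b - 1) (by omega) j h1).trans hlt
      · have : j = b - 1 := by omega
        rw [this]; exact hlt
    have hset : {s : Finset (Fin v) | ∃ j < b, blk (fld W j) = s}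
        = ↑((Finset.range b).image (fun j => (blk (fld W j) : Finset (Fin v)))) := by
      ext s; simp
    have hsub : {s : Finset (Fin v) | ∃ j < b, blk (fld W j) = s} ⊆ B := by
      rintro s ⟨j, hj, rfl⟩
      apply hK _ (hinv j _)
      rw [hkn, Nat.testBit_two_pow_sub_one]
      exact decide_eq_true hj
    have hcard : ({s : Finset (Fin v) | ∃ j < b, blk (fld W j) = s} : Set _).ncard = b := by
      rw [hset, Set.ncard_coe_finset, Finset.card_image_of_injOn, Finset.card_range]
      intro i hi j hj hij
      have hi' : i < b := by simpa using hi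
      have hj' : j < b := by simpa using hj
      have h1 := blk_inj (hbound i hi') (hbound j hj') hij
      rcases Nat.lt_trichotomy i j with h2 | h2 | h2
      · exact absurd h1 (ne_of_lt (hsm j hj' i h2))
      · exact h2
      · exact absurd h1.symm (ne_of_lt (hsm i hi' j h2))
    exact Set.eq_of_subset_of_ncard_le hsub (by rw [hcard, hBn]) (Set.toFinite B)
  rw [Set.ncard_le_one (Set.toFinite _)]
  intro B hB B' hB'
  rw [← key B hB, ← key B' hB']

theorem runC_count {t k Am W b : ℕ} (hkt : 0 < Nat.choose k t)
    (hA : ∀ B : Set (Finset (Fin v)), IsSteinerSystem t k B → ∀ b ∈ B, ∀ c ∈ B,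
      Am.testBit (b ∩ c).card = true) :
    ∀ (steps : List Step) (K : List ℕ) (kn n : ℕ), (∀ j, kn.testBit j = true → fld W j ∈ K) →
      runC v t k Am W b K kn steps = some n →
      ∃ ε, ε ≤ 1 ∧ (Sys v t k K).ncard = n * ε := by
  intro steps
  induction steps with
  | nil =>
    intro K kn n hinv h
    rw [runC] at h
    split_ifs at h with h0
    simp only [Option.some.injEq] at h
    subst h
    exact ⟨_, leaf_count hkt hinv h0, (one_mul _).symm⟩
  | cons st rest ih =>
    intro K kn n hinv h
    rw [runC] at h
    split_ifs at h with h0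
    rw [List.all_eq_true] at h0
    obtain ⟨a, ha, h1⟩ := Option.bind_eq_some_iff.mp h
    obtain ⟨c, hc, rfl⟩ := Option.map_eq_some_iff.mp h1
    obtain ⟨ε, hε, h2⟩ := ih _ _ c (by
      intro j hj
      rw [Nat.testBit_or, Bool.or_eq_true, Nat.testBit_two_pow, decide_eq_true_iff] at hj
      rcases hj with hj | hj
      · exact List.mem_cons_of_mem _ (hinv j hj)
      · rw [hj]; exact List.mem_cons_self) hc
    refine ⟨ε, hε, ?_⟩
    rw [node_count hA (by
      intro Y hY
      obtain ⟨j, hj, rfl⟩ := List.mem_map.mp hY
      exact hinv j (h0 j hj)) ha, h2, mul_assoc]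

omit [NeZero v] in
theorem image_eq_pre (e : Equiv.Perm (Fin v)) (B : Set (Finset (Fin v))) :
    (fun b : Finset (Fin v) => b.image e) '' B = pre e.symm B := by
  ext b
  constructor
  · rintro ⟨a, ha, rfl⟩
    show (a.image e).image e.symm ∈ B
    rw [image_symm_image]; exact ha
  · intro hb
    exact ⟨b.image e.symm, hb, image_image_symm e b⟩

omit [NeZero v] in
/-- Orbit-stabiliser for the symmetric group acting on the Steiner systems. -/
theorem card_aut_mul {t k : ℕ} {B : Set (Finset (Fin v))} (hB : IsSteinerSystem t k B)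
    (huniq : ∀ B' : Set (Finset (Fin v)), IsSteinerSystem t k B' → SetSystemIso B B') :
    (Sys v t k []).ncard * Nat.card (setSystemAut B) = v.factorial := by
  classical
  have horb : MulAction.orbit (Equiv.Perm (Fin v)) B = Sys v t k [] := by
    ext B'
    constructor
    · rintro ⟨g, rfl⟩
      refine ⟨?_, by simp⟩
      have : g • B = pre g.symm B := image_eq_pre g B
      show IsSteinerSystem t k (g • B)
      rw [this]
      exact pre_steiner _ hB
    · rintro ⟨hB', _⟩
      obtain ⟨e, he⟩ := huniq B' hB'
      exact ⟨e, he⟩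
  have h1 := MulAction.card_orbit_mul_card_stabilizer_eq_card_group (Equiv.Perm (Fin v)) B
  rw [Fintype.card_perm, Fintype.card_fin, ← Nat.card_eq_fintype_card, ← Nat.card_eq_fintype_card,
    Nat.card_coe_set_eq, horb] at h1
  exact h1

/-- The order of the automorphism group from a counting certificate. -/
theorem card_aut {t k Am W b n : ℕ} (hkt : 0 < Nat.choose k t)
    (hA : ∀ B : Set (Finset (Fin v)), IsSteinerSystem t k B → ∀ b ∈ B, ∀ c ∈ B,
      Am.testBit (b ∩ c).card = true)
    (steps : List Step) (h : runC v t k Am W b [] 0 steps = some n)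
    (huniq : ∀ B B' : Set (Finset (Fin v)), IsSteinerSystem t k B → IsSteinerSystem t k B' →
      SetSystemIso B B')
    {α : Type*} [Fintype α] [DecidableEq α] (hα : Fintype.card α = v)
    {B : Set (Finset α)} (hB : IsSteinerSystem t k B) :
    n * Nat.card (setSystemAut B) = v.factorial := by
  let e := (Fintype.equivFinOfCardEq hα).symm
  have hB' := pre_steiner e hB
  obtain ⟨ε, hε, h1⟩ := runC_count hkt hA steps [] 0 n (by simp) h
  have h2 := card_aut_mul hB' (fun B' h' => huniq _ _ hB' h')
  have h3 : Nat.card (setSystemAut (pre e B)) = Nat.card (setSystemAut B) := by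
    obtain ⟨f, hf⟩ := pre_iso e B
    exact Nat.card_congr (Cfsg.Agent.Lib.Helper28.SteinerAut.autEquiv f hf).toEquiv
  have hε1 : ε = 1 := by
    rcases Nat.le_one_iff_eq_zero_or_eq_one.mp hε with h0 | h0
    · rw [h1, h0, mul_zero, zero_mul] at h2
      exact absurd h2.symm (Nat.factorial_ne_zero v)
    · exact h0
  rw [h1, hε1, mul_one, h3] at h2
  exact h2

end Cfsg.Agent.Lib.Helper28.SteinerC
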