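import Mathlib
import Cfsg.Agent.S0350

/-!
A kernel-checkable search certificate for the uniqueness of a Steiner system on `Fin v`.

Blocks are bit masks.  A certificate is a list of steps.  A `node` step names a `t`-set `T`, the
block `R` through it that is kept, and, for every other candidate block through `T` compatible with
the blocks known so far, a permutation carrying the kept configuration into the candidate one.
-/

set_option autoImplicit false

namespace Cfsg.Agent.Lib.Helper28.SteinerU

open Cfsg

section Iso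

variable {α β γ : Type*}

theorem image_symm_image [DecidableEq α] [DecidableEq β] (e : α ≃ β) (b : Finset α) :
    (b.image e).image e.symm = b := by
  rw [Finset.image_image, Equiv.symm_comp_self, Finset.image_id]

theorem image_image_symm [DecidableEq α] [DecidableEq β] (e : α ≃ β) (b : Finset β) :
    (b.image e.symm).image e = b := by
  rw [Finset.image_image, Equiv.self_comp_symm, Finset.image_id]

theorem iso_symm [DecidableEq α] [DecidableEq β] {B : Set (Finset α)} {B' : Set (Finset β)}
    (h : SetSystemIso B B') : SetSystemIso B' B := by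
  obtain ⟨e, he⟩ := h
  refine ⟨e.symm, ?_⟩
  rw [← he]
  ext b
  constructor
  · rintro ⟨_, ⟨a, ha, rfl⟩, rfl⟩
    simpa only [image_symm_image] using ha
  · intro hb
    exact ⟨b.image e, ⟨b, hb, rfl⟩, image_symm_image e b⟩

theorem iso_trans [DecidableEq β] [DecidableEq γ] {B : Set (Finset α)}
    {B' : Set (Finset β)} {B'' : Set (Finset γ)}
    (h : SetSystemIso B B') (h' : SetSystemIso B' B'') : SetSystemIso B B'' := by
  obtain ⟨e, he⟩ := h
  obtain ⟨f, hf⟩ := h'
  refine ⟨e.trans f, ?_⟩
  rw [← hf, ← he]
  ext b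
  constructor
  · rintro ⟨a, ha, rfl⟩
    exact ⟨a.image e, ⟨a, ha, rfl⟩, by simp only [Finset.image_image]; rfl⟩
  · rintro ⟨_, ⟨a, ha, rfl⟩, rfl⟩
    exact ⟨a, ha, by simp only [Finset.image_image]; rfl⟩

/-- The pull-back of a set system along a bijection. -/
def pre [DecidableEq β] (e : α ≃ β) (B : Set (Finset β)) : Set (Finset α) := {a | a.image e ∈ B}

theorem pre_steiner [DecidableEq α] [DecidableEq β] (e : α ≃ β) {t k : ℕ} {B : Set (Finset β)}
    (hB : IsSteinerSystem t k B) : IsSteinerSystem t k (pre e B) := by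
  constructor
  · intro a ha
    have := hB.1 _ ha
    rwa [Finset.card_image_of_injective _ e.injective] at this
  · intro s hs
    obtain ⟨b, ⟨hb, hsb⟩, huniq⟩ := hB.2 (s.image e)
      (by rw [Finset.card_image_of_injective _ e.injective, hs])
    refine ⟨b.image e.symm, ⟨?_, ?_⟩, ?_⟩
    · show (b.image e.symm).image e ∈ B
      rw [image_image_symm]; exact hb
    · intro x hx
      rw [Finset.mem_image]
      exact ⟨e x, hsb (Finset.mem_image_of_mem _ hx), e.symm_apply_apply x⟩
    · rintro c ⟨hc, hsc⟩
      have := huniq (c.image e) ⟨hc, Finset.image_subset_image hsc⟩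
      rw [← this, image_symm_image]

theorem pre_iso [DecidableEq α] [DecidableEq β] (e : α ≃ β) (B : Set (Finset β)) :
    SetSystemIso (pre e B) B := by
  refine ⟨e, ?_⟩
  ext b
  constructor
  · rintro ⟨a, ha, rfl⟩; exact ha
  · intro hb
    refine ⟨b.image e.symm, ?_, image_image_symm e b⟩
    show (b.image e.symm).image e ∈ B
    rw [image_image_symm]; exact hb

end Iso

section Lists

variable {α : Type*}

/-- The sublists of given length, in lexicographic order. -/
def subs : ℕ → List α → List (List α)
  | 0, _ => [[]]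
  | _ + 1, [] => []
  | n + 1, a :: l => (subs n l).map (a :: ·) ++ subs (n + 1) l

theorem mem_subs {l' l : List α} (h : l'.Sublist l) : ∀ n, l'.length = n → l' ∈ subs n l := by
  induction h with
  | slnil => intro n hn; subst hn; simp [subs]
  | @cons l₁ l₂ a h ih =>
    intro n hn
    cases n with
    | zero =>
      have : l₁ = [] := List.length_eq_zero_iff.mp hn
      subst this; simp [subs]
    | succ n =>
      simp only [subs, List.mem_append]
      exact Or.inr (ih _ hn)
  | @cons_cons l₁ l₂ a h ih =>
    intro n hn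
    cases n with
    | zero => simp at hn
    | succ n =>
      simp only [subs, List.mem_append, List.mem_map]
      exact Or.inl ⟨l₁, ih n (by simpa using hn), rfl⟩

end Lists

variable {v : ℕ}

/-- The set of positions of the bits of a mask. -/
def blk (m : ℕ) : Finset (Fin v) := Finset.univ.filter (fun i => m.testBit i.val = true)

theorem mem_blk {m : ℕ} {i : Fin v} : i ∈ (blk m : Finset (Fin v)) ↔ m.testBit i.val = true := by
  simp [blk]

def maskOf (l : List (Fin v)) : ℕ := l.foldr (fun i acc => acc ||| 2 ^ i.val) 0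

theorem testBit_maskOf (l : List (Fin v)) (j : Fin v) :
    (maskOf l).testBit j.val = true ↔ j ∈ l := by
  induction l with
  | nil => simp [maskOf]
  | cons a l ih =>
    have : maskOf (a :: l) = maskOf l ||| 2 ^ a.val := rfl
    rw [this, Nat.testBit_or, Bool.or_eq_true, ih, Nat.testBit_two_pow, List.mem_cons,
      decide_eq_true_iff]
    constructor
    · rintro (h | h)
      · exact Or.inr h
      · exact Or.inl (Fin.ext h.symm)
    · rintro (h | h)
      · exact Or.inr (by rw [h])
      · exact Or.inl h

theorem testBit_maskOf' (l : List (Fin v)) (j : ℕ) :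
    (maskOf l).testBit j = true ↔ ∃ i ∈ l, i.val = j := by
  induction l with
  | nil => simp [maskOf]
  | cons a l ih =>
    have : maskOf (a :: l) = maskOf l ||| 2 ^ a.val := rfl
    rw [this, Nat.testBit_or, Bool.or_eq_true, ih, Nat.testBit_two_pow, decide_eq_true_iff]
    simp only [List.mem_cons, exists_eq_or_imp]
    exact or_comm

theorem blk_maskOf (l : List (Fin v)) : (blk (maskOf l) : Finset (Fin v)) = l.toFinset := by
  ext j; rw [mem_blk, testBit_maskOf, List.mem_toFinset]

theorem blk_inj {m n : ℕ} (hm : m < 2 ^ v) (hn : n < 2 ^ v)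
    (h : (blk m : Finset (Fin v)) = blk n) : m = n := by
  apply Nat.eq_of_testBit_eq
  intro i
  by_cases hi : i < v
  · have h1 : ((⟨i, hi⟩ : Fin v) ∈ (blk m : Finset (Fin v))) ↔ (⟨i, hi⟩ : Fin v) ∈ (blk n : Finset (Fin v)) := by
      rw [h]
    rw [mem_blk, mem_blk] at h1
    exact Bool.eq_iff_iff.mpr h1
  · have hv : 2 ^ v ≤ 2 ^ i := Nat.pow_le_pow_right (by norm_num) (not_lt.mp hi)
    rw [Nat.testBit_lt_two_pow (lt_of_lt_of_le hm hv), Nat.testBit_lt_two_pow (lt_of_lt_of_le hn hv)]

theorem card_inter_blk (X : List (Fin v)) (hX : X.Nodup) (Y : ℕ) :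
    (X.toFinset ∩ blk Y).card = X.countP (fun i => Y.testBit i.val) := by
  have : X.toFinset ∩ blk Y = (X.filter (fun i => Y.testBit i.val)).toFinset := by
    ext j
    simp [mem_blk]
  rw [this, List.toFinset_card_of_nodup (hX.filter _), List.countP_eq_length_filter]

/-- The basic bound on the intersection of two blocks. -/
theorem inter_lt_or_eq {α : Type*} [DecidableEq α] {t k : ℕ} {B : Set (Finset α)}
    (hB : IsSteinerSystem t k B) {b c : Finset α} (hb : b ∈ B) (hc : c ∈ B) :
    (b ∩ c).card < t ∨ b = c := by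
  by_cases h : (b ∩ c).card < t
  · exact Or.inl h
  · right
    obtain ⟨s, hs, hst⟩ := Finset.exists_subset_card_eq (not_lt.mp h)
    obtain ⟨x, _, hx⟩ := hB.2 s hst
    have h1 := hx b ⟨hb, hs.trans Finset.inter_subset_left⟩
    have h2 := hx c ⟨hc, hs.trans Finset.inter_subset_right⟩
    rw [h1, h2]

theorem hA_basic {α : Type*} [DecidableEq α] {t k Am : ℕ}
    (h : ∀ n, n < t → Am.testBit n = true) (hk : Am.testBit k = true)
    (B : Set (Finset α)) (hB : IsSteinerSystem t k B) (b : Finset α) (hb : b ∈ B)
    (c : Finset α) (hc : c ∈ B) : Am.testBit (b ∩ c).card = true := by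
  rcases inter_lt_or_eq hB hb hc with h1 | h1
  · exact h _ h1
  · rw [← h1, Finset.inter_self, hB.1 b hb]; exact hk

/-- A known block meeting the `t`-set `T` in all but one point excludes its other points. -/
theorem excl {t k : ℕ} {B : Set (Finset (Fin v))} (hB : IsSteinerSystem t k B)
    {T : List (Fin v)} (hTn : T.Nodup) (hTl : T.length = t) {X : Finset (Fin v)} (hX : X ∈ B)
    (hTX : T.toFinset ⊆ X) {Y x : ℕ} (hY : blk Y ∈ B)
    (hd : maskOf T ^^^ (Y &&& maskOf T) = 2 ^ x) {p : Fin v} (hpX : p ∈ X)
    (hpY : Y.testBit p.val = true) : p ∈ T := by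
  by_contra hpT
  have hbit : ∀ j : ℕ, ((maskOf T).testBit j ^^ (Y.testBit j && (maskOf T).testBit j))
      = decide (x = j) := by
    intro j
    rw [← Nat.testBit_and, ← Nat.testBit_xor, hd, Nat.testBit_two_pow]
  have hx := hbit x
  simp only [decide_true] at hx
  have hxT : (maskOf T).testBit x = true := by
    cases h : (maskOf T).testBit x
    · rw [h] at hx; simp at hx
    · rfl
  have hxY : Y.testBit x = false := by
    rw [hxT] at hx
    cases h : Y.testBit x
    · rfl
    · rw [h] at hx; simp at hx
  obtain ⟨xT, hxTm, hxv⟩ := (testBit_maskOf' T x).mp hxT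
  have hsub : insert p (T.toFinset.erase xT) ⊆ X ∩ blk Y := by
    intro i hi
    rw [Finset.mem_insert] at hi
    rcases hi with rfl | hi
    · exact Finset.mem_inter.mpr ⟨hpX, mem_blk.mpr hpY⟩
    · rw [Finset.mem_erase] at hi
      refine Finset.mem_inter.mpr ⟨hTX hi.2, mem_blk.mpr ?_⟩
      have h1 := hbit i.val
      have h2 : (maskOf T).testBit i.val = true :=
        (testBit_maskOf T i).mpr (List.mem_toFinset.mp hi.2)
      have h3 : ¬ x = i.val := fun h => hi.1 (Fin.ext (by rw [hxv, h]))
      rw [h2, decide_eq_false h3] at h1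
      cases h : Y.testBit i.val
      · rw [h] at h1; simp at h1
      · rfl
  have hcard : (insert p (T.toFinset.erase xT)).card = t := by
    rw [Finset.card_insert_of_notMem, Finset.card_erase_of_mem (List.mem_toFinset.mpr hxTm),
      List.toFinset_card_of_nodup hTn, hTl]
    · have : 0 < t := by rw [← hTl]; exact List.length_pos_of_mem hxTm
      omega
    · intro h
      exact hpT (List.mem_toFinset.mp (Finset.mem_of_mem_erase h))
  have hge : t ≤ (X ∩ blk Y).card := hcard ▸ Finset.card_le_card hsub
  rcases inter_lt_or_eq hB hX hY with h | h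
  · omega
  · have : xT ∈ (blk Y : Finset (Fin v)) := h ▸ hTX (List.mem_toFinset.mpr hxTm)
    rw [mem_blk, hxv, hxY] at this
    exact Bool.false_ne_true this

variable [NeZero v]

/-- The map of points given by a packed list of images (five bits each). -/
def sig (s : ℕ) (i : Fin v) : Fin v := Fin.ofNat v ((s >>> (5 * i.val)) &&& 31)

def imgMask (v : ℕ) [NeZero v] (s : ℕ) (m : ℕ) : ℕ :=
  maskOf (((List.finRange v).filter (fun i => m.testBit i.val)).map (sig s))

theorem blk_imgMask (s : ℕ) (m : ℕ) :
    (blk (imgMask v s m) : Finset (Fin v)) = (blk m).image (sig s) := by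
  ext j
  rw [imgMask, blk_maskOf]
  simp [mem_blk]

/-- Compatibility of a candidate block with the known blocks. -/
def compat (Am : ℕ) (K : List ℕ) (X : List (Fin v)) : Bool :=
  K.all fun Y => Am.testBit (X.countP (fun i => Y.testBit i.val))

def checkMap (v : ℕ) [NeZero v] (K : List ℕ) (R X : ℕ) (s : ℕ) : Bool :=
  imgMask v s (2 ^ v - 1) == 2 ^ v - 1 && (R :: K).all (fun Y => (X :: K).contains (imgMask v s Y))

def go (Am : ℕ) (K : List ℕ) (T : List (Fin v)) (R : ℕ) :
    List (List (Fin v)) → List ℕ → Bool
  | [], _ => true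
  | c :: cs, ms =>
    if maskOf (T ++ c) == R then go Am K T R cs ms
    else if compat Am K (T ++ c) then
      checkMap v K R (maskOf (T ++ c)) (ms.headD 0) && go Am K T R cs ms.tail
    else go Am K T R cs ms

theorem go_sound (Am : ℕ) (K : List ℕ) (T : List (Fin v)) (R : ℕ) :
    ∀ (cs : List (List (Fin v))) (ms : List ℕ), go Am K T R cs ms = true →
      ∀ c ∈ cs, compat Am K (T ++ c) = true →
        maskOf (T ++ c) = R ∨ ∃ s, checkMap v K R (maskOf (T ++ c)) s = true := by
  intro cs
  induction cs with
  | nil => intro ms _ c hc; simp at hc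
  | cons d cs ih =>
    intro ms h c hc hcomp
    rw [go] at h
    by_cases hR : (maskOf (T ++ d) == R) = true
    · rw [if_pos hR] at h
      rcases List.mem_cons.mp hc with rfl | hc
      · exact Or.inl (by simpa using hR)
      · exact ih ms h c hc hcomp
    · rw [if_neg hR] at h
      by_cases hd : compat Am K (T ++ d) = true
      · rw [if_pos hd] at h
        simp only [Bool.and_eq_true] at h
        rcases List.mem_cons.mp hc with rfl | hc
        · exact Or.inr ⟨_, h.1⟩
        · exact ih _ h.2 c hc hcomp
      · rw [if_neg hd] at h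
        rcases List.mem_cons.mp hc with rfl | hc
        · exact absurd hcomp hd
        · exact ih ms h c hc hcomp

/-- A step of a certificate: the `t`-set, the index of the block kept, the indices of the
witness blocks, the permutations. -/
structure Step where
  T : List ℕ
  idx : ℕ
  wits : List ℕ
  maps : List ℕ

/-- The `i`-th entry of a packed table. -/
def fld (W i : ℕ) : ℕ := (W >>> (32 * i)) &&& 4294967295

/-- The final check. -/
def leafOK (v t k W b kn : ℕ) : Bool :=
  kn == 2 ^ b - 1 && (List.range (b - 1)).all (fun i => decide (fld W i < fld W (i + 1))) &&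
    decide (fld W (b - 1) < 2 ^ v) && decide (b * Nat.choose k t = Nat.choose v t)

def witOK (Tm Y : ℕ) : Bool :=
  (Tm ^^^ (Y &&& Tm)) == 2 ^ Nat.log2 (Tm ^^^ (Y &&& Tm))

def nodeOK (v : ℕ) [NeZero v] (t k Am : ℕ) (K : List ℕ) (T : List (Fin v)) (R : ℕ)
    (wits : List ℕ) (maps : List ℕ) : Bool :=
  decide T.Nodup && decide (T.length = t) && wits.all (witOK (maskOf T)) &&
    go Am K T R (subs (k - t) ((List.finRange v).filter
      (fun i => !(wits.foldr (· ||| ·) (maskOf T)).testBit i.val))) maps

def run (v : ℕ) [NeZero v] (t k Am W b : ℕ) : List ℕ → ℕ → List Step → Bool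
  | _, kn, [] => leafOK v t k W b kn
  | K, kn, st :: rest =>
    st.wits.all (fun j => kn.testBit j) &&
      nodeOK v t k Am K (st.T.map (Fin.ofNat v)) (fld W st.idx) (st.wits.map (fld W)) st.maps &&
      run v t k Am W b (fld W st.idx :: K) (kn ||| 2 ^ st.idx) rest

/-- Every Steiner system containing the blocks of `K` is isomorphic to `L`. -/
def Good (t k : ℕ) (L : Set (Finset (Fin v))) (K : List ℕ) : Prop :=
  ∀ B : Set (Finset (Fin v)), IsSteinerSystem t k B → (∀ m ∈ K, blk m ∈ B) → SetSystemIso B L

theorem good_of_map {t k : ℕ} {L : Set (Finset (Fin v))} {K : List ℕ} {R X : ℕ} {s : ℕ}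
    (h : checkMap v K R X s = true) (hg : Good t k L (R :: K)) : Good t k L (X :: K) := by
  intro B hB hK
  simp only [checkMap, Bool.and_eq_true, beq_iff_eq, List.all_eq_true, List.contains_iff_mem] at h
  obtain ⟨h1, h2⟩ := h
  have huniv : (blk (2 ^ v - 1) : Finset (Fin v)) = Finset.univ := by
    ext i; simp [mem_blk, Nat.testBit_two_pow_sub_one]
  have hsurj : Function.Surjective (sig (v := v) s) := by
    intro y
    have hy : y ∈ (blk (imgMask v s (2 ^ v - 1)) : Finset (Fin v)) := by
      rw [h1, huniv]; exact Finset.mem_univ y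
    rw [blk_imgMask, Finset.mem_image] at hy
    obtain ⟨x, _, hx⟩ := hy
    exact ⟨x, hx⟩
  have hbij : Function.Bijective (sig (v := v) s) :=
    ⟨Finite.injective_iff_surjective.mpr hsurj, hsurj⟩
  let e : Fin v ≃ Fin v := Equiv.ofBijective _ hbij
  have h3 : SetSystemIso (pre e B) L := by
    apply hg _ (pre_steiner e hB)
    intro m hm
    show (blk m).image e ∈ B
    have : (blk m : Finset (Fin v)).image e = blk (imgMask v s m) := by
      rw [blk_imgMask]; rfl
    rw [this]
    exact hK _ (h2 m hm)
  exact iso_trans (iso_symm (pre_iso e B)) h3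

theorem testBit_foldr_or (l : List ℕ) (a j : ℕ) :
    (l.foldr (· ||| ·) a).testBit j = true ↔ a.testBit j = true ∨ ∃ Y ∈ l, Y.testBit j = true := by
  induction l with
  | nil => simp
  | cons y l ih =>
    rw [List.foldr_cons, Nat.testBit_or, Bool.or_eq_true, ih]
    simp only [List.mem_cons, exists_eq_or_imp]
    tauto

theorem good_of_node {t k Am : ℕ}
    (hA : ∀ B : Set (Finset (Fin v)), IsSteinerSystem t k B → ∀ b ∈ B, ∀ c ∈ B,
      Am.testBit (b ∩ c).card = true)
    {L : Set (Finset (Fin v))} {K : List ℕ} {T : List (Fin v)} {R : ℕ} {wits : List ℕ}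
    {maps : List ℕ} (hw : ∀ Y ∈ wits, Y ∈ K)
    (h : nodeOK v t k Am K T R wits maps = true) (hg : Good t k L (R :: K)) : Good t k L K := by
  intro B hB hK
  simp only [nodeOK, Bool.and_eq_true, decide_eq_true_eq, List.all_eq_true] at h
  obtain ⟨⟨⟨hTn, hTl⟩, hwit⟩, hgo⟩ := h
  obtain ⟨X, ⟨hXB, hTX⟩, _⟩ := hB.2 T.toFinset (by rw [List.toFinset_card_of_nodup hTn, hTl])
  have hXk := hB.1 X hXB
  set rest : List (Fin v) := (List.finRange v).filter
      (fun i => !(wits.foldr (· ||| ·) (maskOf T)).testBit i.val) with hrest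
  set c : List (Fin v) := rest.filter (fun i => decide (i ∈ X)) with hc
  have hcn : c.Nodup := ((List.nodup_finRange v).filter _).filter _
  have hcT : c.toFinset = X \ T.toFinset := by
    ext j
    rw [List.mem_toFinset, hc, List.mem_filter, hrest, List.mem_filter, Finset.mem_sdiff,
      List.mem_toFinset, decide_eq_true_iff]
    constructor
    · rintro ⟨⟨_, h1⟩, h2⟩
      refine ⟨h2, fun hjT => ?_⟩
      have : (wits.foldr (· ||| ·) (maskOf T)).testBit j.val = true :=
        (testBit_foldr_or _ _ _).mpr (Or.inl ((testBit_maskOf T j).mpr hjT))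
      rw [this] at h1; simp at h1
    · rintro ⟨h1, h2⟩
      refine ⟨⟨List.mem_finRange j, ?_⟩, h1⟩
      rw [Bool.not_eq_true', Bool.eq_false_iff]
      intro h3
      rcases (testBit_foldr_or _ _ _).mp h3 with h4 | ⟨Y, hY, h4⟩
      · exact h2 ((testBit_maskOf T j).mp h4)
      · have h5 := hwit Y hY
        rw [witOK, beq_iff_eq] at h5
        exact h2 (excl hB hTn hTl hXB hTX (hK Y (hw Y hY)) h5 h1 h4)
  have hclen : c.length = k - t := by
    rw [← List.toFinset_card_of_nodup hcn, hcT, Finset.card_sdiff_of_subset hTX, hXk,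
      List.toFinset_card_of_nodup hTn, hTl]
  have hmem : c ∈ subs (k - t) rest := mem_subs List.filter_sublist _ hclen
  have hX : (T ++ c).toFinset = X := by
    rw [List.toFinset_append, hcT]
    exact Finset.union_sdiff_of_subset hTX
  have hnd : (T ++ c).Nodup := by
    rw [List.nodup_append]
    refine ⟨hTn, hcn, ?_⟩
    intro a ha b hb hab
    subst hab
    have : a ∈ c.toFinset := List.mem_toFinset.mpr hb
    rw [hcT, Finset.mem_sdiff] at this
    exact this.2 (List.mem_toFinset.mpr ha)
  have hcomp : compat Am K (T ++ c) = true := by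
    rw [compat, List.all_eq_true]
    intro Y hY
    rw [← card_inter_blk _ hnd, hX]
    exact hA B hB X hXB _ (hK Y hY)
  have hXm : (blk (maskOf (T ++ c)) : Finset (Fin v)) = X := by rw [blk_maskOf, hX]
  rcases go_sound Am K T R _ _ hgo c hmem hcomp with h1 | ⟨s, hs⟩
  · apply hg B hB
    intro m hm
    rcases List.mem_cons.mp hm with rfl | hm
    · rw [← h1, hXm]; exact hXB
    · exact hK m hm
  · apply good_of_map hs hg B hB
    intro m hm
    rcases List.mem_cons.mp hm with rfl | hm
    · rw [hXm]; exact hXB
    · exact hK m hm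

omit [NeZero v] in
theorem good_of_leaf {t k W b kn : ℕ} (hkt : 0 < Nat.choose k t) {K : List ℕ}
    (hinv : ∀ j, kn.testBit j = true → fld W j ∈ K)
    (h : leafOK v t k W b kn = true) :
    Good t k {s : Finset (Fin v) | ∃ j < b, blk (fld W j) = s} K := by
  intro B hB hK
  simp only [leafOK, Bool.and_eq_true, decide_eq_true_eq, List.all_eq_true, beq_iff_eq,
    List.mem_range] at h
  obtain ⟨⟨⟨hkn, hmono⟩, hlt⟩, hlen⟩ := h
  have hcount := Cfsg.Agent.S0350.result hB
  rw [Fintype.card_fin, ← hlen] at hcount
  have hBn : B.ncard = b := Nat.eq_of_mul_eq_mul_right hkt hcount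
  have hsm : ∀ j, j < b → ∀ i, i < j → fld W i < fld W j := by
    intro j
    induction j with
    | zero => intro _ i hi; omega
    | succ j ih =>
      intro hj i hi
      have h1 : fld W j < fld W (j + 1) := hmono j (by omega)
      rcases Nat.lt_succ_iff_lt_or_eq.mp hi with h2 | h2
      · exact (ih (by omega) i h2).trans h1
      · rw [h2]; exact h1
  have hbound : ∀ j, j < b → fld W j < 2 ^ v := by
    intro j hj
    rcases Nat.lt_or_ge j (b - 1) with h1 | h1
    · exact (hsm (b - 1) (by omega) j h1).trans hlt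
    · have : j = b - 1 := by omega
      rw [this]; exact hlt
  have hset : {s : Finset (Fin v) | ∃ j < b, blk (fld W j) = s}
      = ↑((Finset.range b).image (fun j => (blk (fld W j) : Finset (Fin v)))) := by
    ext s; simp
  have hsub : {s : Finset (Fin v) | ∃ j < b, blk (fld W j) = s} ⊆ B := by
    rintro s ⟨j, hj, rfl⟩
    apply hK _ (hinv j _)
    rw [hkn, Nat.testBit_two_pow_sub_one]
    exact decide_eq_true hj
  have hcard : ({s : Finset (Fin v) | ∃ j < b, blk (fld W j) = s} : Set _).ncard = b := by
    rw [hset, Set.ncard_coe_finset, Finset.card_image_of_injOn, Finset.card_range]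
    intro i hi j hj hij
    have hi' : i < b := by simpa using hi
    have hj' : j < b := by simpa using hj
    have h1 := blk_inj (hbound i hi') (hbound j hj') hij
    rcases Nat.lt_trichotomy i j with h2 | h2 | h2
    · exact absurd h1 (ne_of_lt (hsm j hj' i h2))
    · exact h2
    · exact absurd h1.symm (ne_of_lt (hsm i hi' j h2))
  have heq : {s : Finset (Fin v) | ∃ j < b, blk (fld W j) = s} = B :=
    Set.eq_of_subset_of_ncard_le hsub (by rw [hcard, hBn]) (Set.toFinite B)
  rw [heq]
  exact ⟨Equiv.refl _, by ext b; simp⟩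

theorem run_sound {t k Am W b : ℕ} (hkt : 0 < Nat.choose k t)
    (hA : ∀ B : Set (Finset (Fin v)), IsSteinerSystem t k B → ∀ b ∈ B, ∀ c ∈ B,
      Am.testBit (b ∩ c).card = true) :
    ∀ (steps : List Step) (K : List ℕ) (kn : ℕ), (∀ j, kn.testBit j = true → fld W j ∈ K) →
      run v t k Am W b K kn steps = true →
      Good t k {s : Finset (Fin v) | ∃ j < b, blk (fld W j) = s} K := by
  intro steps
  induction steps with
  | nil => intro K kn hinv h; exact good_of_leaf hkt hinv h
  | cons st rest ih =>
    intro K kn hinv h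
    simp only [run, Bool.and_eq_true, List.all_eq_true] at h
    obtain ⟨⟨h1, h2⟩, h3⟩ := h
    refine good_of_node hA ?_ h2 (ih _ _ ?_ h3)
    · intro Y hY
      obtain ⟨j, hj, rfl⟩ := List.mem_map.mp hY
      exact hinv j (h1 j hj)
    · intro j hj
      rw [Nat.testBit_or, Bool.or_eq_true, Nat.testBit_two_pow, decide_eq_true_iff] at hj
      rcases hj with hj | hj
      · exact List.mem_cons_of_mem _ (hinv j hj)
      · rw [hj]; exact List.mem_cons_self

/-- Uniqueness from a certificate. -/
theorem unique_of_run {t k Am W b : ℕ} (hkt : 0 < Nat.choose k t)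
    (hA : ∀ B : Set (Finset (Fin v)), IsSteinerSystem t k B → ∀ b ∈ B, ∀ c ∈ B,
      Am.testBit (b ∩ c).card = true)
    (steps : List Step) (h : run v t k Am W b [] 0 steps = true)
    {α β : Type*} [Fintype α] [DecidableEq α] [Fintype β] [DecidableEq β]
    (hα : Fintype.card α = v) (hβ : Fintype.card β = v)
    {B : Set (Finset α)} {B' : Set (Finset β)}
    (hB : IsSteinerSystem t k B) (hB' : IsSteinerSystem t k B') : SetSystemIso B B' := by
  have hL := run_sound hkt hA steps [] 0 (by simp) h
  let e := (Fintype.equivFinOfCardEq hα).symm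
  let f := (Fintype.equivFinOfCardEq hβ).symm
  have h1 := hL _ (pre_steiner e hB) (by simp)
  have h2 := hL _ (pre_steiner f hB') (by simp)
  exact iso_trans (iso_symm (pre_iso e B)) (iso_trans h1 (iso_trans (iso_symm h2) (pre_iso f B')))

end Cfsg.Agent.Lib.Helper28.SteinerU
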