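import Cfsg.Agent.Lib.Helper28.TGolay3

/-! Explicit monomial automorphisms of the length-12 ternary code: a stabiliser-chain table. -/

set_option autoImplicit false

namespace Cfsg.Agent.Lib.Helper28.TGolay

open Cfsg Finset

/-- position index -/
def idx (p : ArrayPt) : ℕ := 3 * p.1.val + p.2.val

/-- a self-map of the positions from a list -/
def ptL (l : List ArrayPt) : ArrayPt → ArrayPt := fun p => l.getD (idx p) (0, 0)

/-- a sign vector from a list -/
def sgL (l : List Bool) : ArrayPt → (ZMod 3)ˣ := fun p => if l.getD (idx p) false then -1 else 1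

def tF : List (List ArrayPt) := [
  [(0, 0), (0, 1), (0, 2), (1, 0), (1, 1), (1, 2), (2, 0), (2, 1), (2, 2), (3, 0), (3, 1), (3, 2)],
  [(0, 1), (0, 0), (0, 2), (1, 0), (1, 1), (1, 2), (3, 2), (3, 0), (3, 1), (2, 1), (2, 2), (2, 0)],
  [(0, 2), (0, 0), (0, 1), (1, 0), (1, 1), (1, 2), (2, 2), (2, 0), (2, 1), (3, 1), (3, 2), (3, 0)],
  [(1, 0), (0, 0), (0, 1), (0, 2), (1, 1), (1, 2), (3, 1), (2, 1), (2, 0), (2, 2), (3, 0), (3, 2)],
  [(1, 1), (0, 0), (0, 1), (0, 2), (1, 0), (1, 2), (2, 0), (3, 0), (3, 1), (3, 2), (2, 1), (2, 2)],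
  [(1, 2), (0, 0), (0, 1), (0, 2), (1, 0), (1, 1), (3, 0), (2, 0), (2, 2), (2, 1), (3, 2), (3, 1)],
  [(2, 0), (0, 0), (0, 1), (0, 2), (1, 0), (3, 0), (1, 2), (1, 1), (2, 1), (3, 1), (2, 2), (3, 2)],
  [(2, 1), (0, 0), (0, 1), (0, 2), (1, 0), (3, 2), (3, 1), (2, 2), (3, 0), (1, 1), (1, 2), (2, 0)],
  [(2, 2), (0, 0), (0, 1), (0, 2), (1, 0), (3, 1), (2, 1), (3, 2), (1, 1), (2, 0), (3, 0), (1, 2)],
  [(3, 0), (0, 0), (0, 1), (0, 2), (1, 0), (2, 0), (1, 1), (1, 2), (3, 2), (2, 2), (3, 1), (2, 1)],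
  [(3, 1), (0, 0), (0, 1), (0, 2), (1, 0), (2, 2), (3, 2), (2, 1), (1, 2), (3, 0), (2, 0), (1, 1)],
  [(3, 2), (0, 0), (0, 1), (0, 2), (1, 0), (2, 1), (2, 2), (3, 1), (2, 0), (1, 2), (1, 1), (3, 0)],
  [(0, 0), (0, 1), (0, 2), (1, 0), (1, 1), (1, 2), (2, 0), (2, 1), (2, 2), (3, 0), (3, 1), (3, 2)],
  [(0, 0), (0, 1), (0, 2), (1, 0), (1, 1), (1, 2), (2, 0), (2, 1), (2, 2), (3, 0), (3, 1), (3, 2)],
  [(0, 0), (0, 2), (0, 1), (1, 0), (1, 1), (1, 2), (3, 0), (3, 1), (3, 2), (2, 0), (2, 1), (2, 2)],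
  [(0, 0), (1, 0), (0, 1), (0, 2), (1, 1), (1, 2), (3, 2), (2, 2), (3, 0), (2, 1), (2, 0), (3, 1)],
  [(0, 0), (1, 1), (0, 1), (0, 2), (1, 0), (1, 2), (2, 2), (3, 2), (2, 1), (3, 0), (3, 1), (2, 0)],
  [(0, 0), (1, 2), (0, 1), (0, 2), (1, 0), (1, 1), (3, 1), (2, 1), (3, 2), (2, 0), (2, 2), (3, 0)],
  [(0, 0), (2, 0), (0, 1), (0, 2), (1, 0), (3, 0), (3, 2), (3, 1), (2, 2), (1, 1), (2, 1), (1, 2)],
  [(0, 0), (2, 1), (0, 1), (0, 2), (1, 0), (3, 2), (2, 0), (1, 1), (1, 2), (2, 2), (3, 0), (3, 1)],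
  [(0, 0), (2, 2), (0, 1), (0, 2), (1, 0), (3, 1), (1, 2), (2, 0), (3, 0), (3, 2), (1, 1), (2, 1)],
  [(0, 0), (3, 0), (0, 1), (0, 2), (1, 0), (2, 0), (2, 1), (2, 2), (3, 1), (1, 2), (3, 2), (1, 1)],
  [(0, 0), (3, 1), (0, 1), (0, 2), (1, 0), (2, 2), (1, 1), (3, 0), (2, 0), (2, 1), (1, 2), (3, 2)],
  [(0, 0), (3, 2), (0, 1), (0, 2), (1, 0), (2, 1), (3, 0), (1, 2), (1, 1), (3, 1), (2, 0), (2, 2)],
  [(0, 0), (0, 1), (0, 2), (1, 0), (1, 1), (1, 2), (2, 0), (2, 1), (2, 2), (3, 0), (3, 1), (3, 2)],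
  [(0, 0), (0, 1), (0, 2), (1, 0), (1, 1), (1, 2), (2, 0), (2, 1), (2, 2), (3, 0), (3, 1), (3, 2)],
  [(0, 0), (0, 1), (0, 2), (1, 0), (1, 1), (1, 2), (2, 0), (2, 1), (2, 2), (3, 0), (3, 1), (3, 2)],
  [(0, 0), (0, 1), (1, 0), (0, 2), (1, 1), (1, 2), (2, 1), (2, 0), (3, 1), (3, 2), (2, 2), (3, 0)],
  [(0, 0), (0, 1), (1, 1), (0, 2), (1, 0), (1, 2), (3, 0), (3, 1), (2, 0), (2, 2), (3, 2), (2, 1)],
  [(0, 0), (0, 1), (1, 2), (0, 2), (1, 0), (1, 1), (2, 0), (2, 2), (3, 0), (3, 1), (2, 1), (3, 2)],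
  [(0, 0), (0, 1), (2, 0), (0, 2), (1, 0), (3, 0), (1, 1), (2, 1), (1, 2), (3, 2), (3, 1), (2, 2)],
  [(0, 0), (0, 1), (2, 1), (0, 2), (1, 0), (3, 2), (2, 2), (3, 0), (3, 1), (2, 0), (1, 1), (1, 2)],
  [(0, 0), (0, 1), (2, 2), (0, 2), (1, 0), (3, 1), (3, 2), (1, 1), (2, 1), (1, 2), (2, 0), (3, 0)],
  [(0, 0), (0, 1), (3, 0), (0, 2), (1, 0), (2, 0), (1, 2), (3, 2), (1, 1), (2, 1), (2, 2), (3, 1)],
  [(0, 0), (0, 1), (3, 1), (0, 2), (1, 0), (2, 2), (2, 1), (1, 2), (3, 2), (1, 1), (3, 0), (2, 0)],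
  [(0, 0), (0, 1), (3, 2), (0, 2), (1, 0), (2, 1), (3, 1), (2, 0), (2, 2), (3, 0), (1, 2), (1, 1)],
  [(0, 0), (0, 1), (0, 2), (1, 0), (1, 1), (1, 2), (2, 0), (2, 1), (2, 2), (3, 0), (3, 1), (3, 2)],
  [(0, 0), (0, 1), (0, 2), (1, 0), (1, 1), (1, 2), (2, 0), (2, 1), (2, 2), (3, 0), (3, 1), (3, 2)],
  [(0, 0), (0, 1), (0, 2), (1, 0), (1, 1), (1, 2), (2, 0), (2, 1), (2, 2), (3, 0), (3, 1), (3, 2)],
  [(0, 0), (0, 1), (0, 2), (1, 0), (1, 1), (1, 2), (2, 0), (2, 1), (2, 2), (3, 0), (3, 1), (3, 2)],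
  [(0, 0), (0, 1), (0, 2), (1, 1), (1, 0), (1, 2), (3, 1), (3, 0), (3, 2), (2, 1), (2, 0), (2, 2)],
  [(0, 0), (0, 1), (0, 2), (1, 2), (1, 0), (1, 1), (2, 2), (2, 0), (2, 1), (3, 2), (3, 0), (3, 1)],
  [(0, 0), (0, 1), (0, 2), (2, 0), (1, 0), (3, 0), (2, 1), (1, 1), (3, 1), (2, 2), (1, 2), (3, 2)],
  [(0, 0), (0, 1), (0, 2), (2, 1), (1, 0), (3, 2), (3, 0), (2, 2), (1, 1), (1, 2), (3, 1), (2, 0)],
  [(0, 0), (0, 1), (0, 2), (2, 2), (1, 0), (3, 1), (1, 1), (3, 2), (2, 0), (3, 0), (2, 1), (1, 2)],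
  [(0, 0), (0, 1), (0, 2), (3, 0), (1, 0), (2, 0), (3, 2), (1, 2), (2, 2), (3, 1), (1, 1), (2, 1)],
  [(0, 0), (0, 1), (0, 2), (3, 1), (1, 0), (2, 2), (1, 2), (2, 1), (3, 0), (2, 0), (3, 2), (1, 1)],
  [(0, 0), (0, 1), (0, 2), (3, 2), (1, 0), (2, 1), (2, 0), (3, 1), (1, 2), (1, 1), (2, 2), (3, 0)],
  [(0, 0), (0, 1), (0, 2), (1, 0), (1, 1), (1, 2), (2, 0), (2, 1), (2, 2), (3, 0), (3, 1), (3, 2)],
  [(0, 0), (0, 1), (0, 2), (1, 0), (1, 1), (1, 2), (2, 0), (2, 1), (2, 2), (3, 0), (3, 1), (3, 2)],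
  [(0, 0), (0, 1), (0, 2), (1, 0), (1, 1), (1, 2), (2, 0), (2, 1), (2, 2), (3, 0), (3, 1), (3, 2)],
  [(0, 0), (0, 1), (0, 2), (1, 0), (1, 1), (1, 2), (2, 0), (2, 1), (2, 2), (3, 0), (3, 1), (3, 2)],
  [(0, 0), (0, 1), (0, 2), (1, 0), (1, 1), (1, 2), (2, 0), (2, 1), (2, 2), (3, 0), (3, 1), (3, 2)],
  [(0, 0), (0, 1), (0, 2), (1, 0), (1, 2), (1, 1), (3, 0), (3, 2), (3, 1), (2, 0), (2, 2), (2, 1)],
  [(0, 0), (0, 1), (0, 2), (1, 0), (2, 0), (3, 0), (1, 2), (2, 2), (3, 2), (1, 1), (2, 1), (3, 1)],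
  [(0, 0), (0, 1), (0, 2), (1, 0), (2, 1), (3, 2), (3, 1), (1, 2), (2, 0), (2, 2), (3, 0), (1, 1)],
  [(0, 0), (0, 1), (0, 2), (1, 0), (2, 2), (3, 1), (2, 1), (3, 0), (1, 2), (3, 2), (1, 1), (2, 0)],
  [(0, 0), (0, 1), (0, 2), (1, 0), (3, 0), (2, 0), (1, 1), (3, 1), (2, 1), (1, 2), (3, 2), (2, 2)],
  [(0, 0), (0, 1), (0, 2), (1, 0), (3, 1), (2, 2), (3, 2), (2, 0), (1, 1), (2, 1), (1, 2), (3, 0)],
  [(0, 0), (0, 1), (0, 2), (1, 0), (3, 2), (2, 1), (2, 2), (1, 1), (3, 0), (3, 1), (2, 0), (1, 2)]]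

def tB : List (List ArrayPt) := [
  [(0, 0), (0, 1), (0, 2), (1, 0), (1, 1), (1, 2), (2, 0), (2, 1), (2, 2), (3, 0), (3, 1), (3, 2)],
  [(0, 1), (0, 0), (0, 2), (1, 0), (1, 1), (1, 2), (3, 2), (3, 0), (3, 1), (2, 1), (2, 2), (2, 0)],
  [(0, 1), (0, 2), (0, 0), (1, 0), (1, 1), (1, 2), (2, 1), (2, 2), (2, 0), (3, 2), (3, 0), (3, 1)],
  [(0, 1), (0, 2), (1, 0), (0, 0), (1, 1), (1, 2), (2, 2), (2, 1), (3, 0), (3, 1), (2, 0), (3, 2)],
  [(0, 1), (0, 2), (1, 0), (1, 1), (0, 0), (1, 2), (2, 0), (3, 1), (3, 2), (2, 1), (2, 2), (3, 0)],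
  [(0, 1), (0, 2), (1, 0), (1, 1), (1, 2), (0, 0), (2, 1), (3, 0), (2, 2), (2, 0), (3, 2), (3, 1)],
  [(0, 1), (0, 2), (1, 0), (1, 1), (2, 1), (2, 0), (0, 0), (2, 2), (3, 1), (1, 2), (3, 0), (3, 2)],
  [(0, 1), (0, 2), (1, 0), (1, 1), (3, 0), (3, 1), (3, 2), (0, 0), (2, 1), (2, 2), (2, 0), (1, 2)],
  [(0, 1), (0, 2), (1, 0), (1, 1), (2, 2), (3, 2), (3, 0), (2, 0), (0, 0), (3, 1), (1, 2), (2, 1)],
  [(0, 1), (0, 2), (1, 0), (1, 1), (2, 0), (2, 1), (1, 2), (3, 2), (3, 0), (0, 0), (3, 1), (2, 2)],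
  [(0, 1), (0, 2), (1, 0), (1, 1), (3, 2), (2, 2), (3, 1), (2, 1), (1, 2), (3, 0), (0, 0), (2, 0)],
  [(0, 1), (0, 2), (1, 0), (1, 1), (3, 1), (3, 0), (2, 2), (1, 2), (2, 0), (3, 2), (2, 1), (0, 0)],
  [(0, 0), (0, 1), (0, 2), (1, 0), (1, 1), (1, 2), (2, 0), (2, 1), (2, 2), (3, 0), (3, 1), (3, 2)],
  [(0, 0), (0, 1), (0, 2), (1, 0), (1, 1), (1, 2), (2, 0), (2, 1), (2, 2), (3, 0), (3, 1), (3, 2)],
  [(0, 0), (0, 2), (0, 1), (1, 0), (1, 1), (1, 2), (3, 0), (3, 1), (3, 2), (2, 0), (2, 1), (2, 2)],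
  [(0, 0), (0, 2), (1, 0), (0, 1), (1, 1), (1, 2), (3, 1), (3, 0), (2, 1), (2, 2), (3, 2), (2, 0)],
  [(0, 0), (0, 2), (1, 0), (1, 1), (0, 1), (1, 2), (3, 2), (2, 2), (2, 0), (3, 0), (3, 1), (2, 1)],
  [(0, 0), (0, 2), (1, 0), (1, 1), (1, 2), (0, 1), (3, 0), (2, 1), (3, 1), (3, 2), (2, 0), (2, 2)],
  [(0, 0), (0, 2), (1, 0), (1, 1), (3, 0), (3, 2), (0, 1), (3, 1), (2, 2), (1, 2), (2, 1), (2, 0)],
  [(0, 0), (0, 2), (1, 0), (1, 1), (2, 1), (2, 2), (2, 0), (0, 1), (3, 0), (3, 1), (3, 2), (1, 2)],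
  [(0, 0), (0, 2), (1, 0), (1, 1), (3, 1), (2, 0), (2, 1), (3, 2), (0, 1), (2, 2), (1, 2), (3, 0)],
  [(0, 0), (0, 2), (1, 0), (1, 1), (3, 2), (3, 0), (1, 2), (2, 0), (2, 1), (0, 1), (2, 2), (3, 1)],
  [(0, 0), (0, 2), (1, 0), (1, 1), (2, 0), (3, 1), (2, 2), (3, 0), (1, 2), (2, 1), (0, 1), (3, 2)],
  [(0, 0), (0, 2), (1, 0), (1, 1), (2, 2), (2, 1), (3, 1), (1, 2), (3, 2), (2, 0), (3, 0), (0, 1)],
  [(0, 0), (0, 1), (0, 2), (1, 0), (1, 1), (1, 2), (2, 0), (2, 1), (2, 2), (3, 0), (3, 1), (3, 2)],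
  [(0, 0), (0, 1), (0, 2), (1, 0), (1, 1), (1, 2), (2, 0), (2, 1), (2, 2), (3, 0), (3, 1), (3, 2)],
  [(0, 0), (0, 1), (0, 2), (1, 0), (1, 1), (1, 2), (2, 0), (2, 1), (2, 2), (3, 0), (3, 1), (3, 2)],
  [(0, 0), (0, 1), (1, 0), (0, 2), (1, 1), (1, 2), (2, 1), (2, 0), (3, 1), (3, 2), (2, 2), (3, 0)],
  [(0, 0), (0, 1), (1, 0), (1, 1), (0, 2), (1, 2), (2, 2), (3, 2), (3, 0), (2, 0), (2, 1), (3, 1)],
  [(0, 0), (0, 1), (1, 0), (1, 1), (1, 2), (0, 2), (2, 0), (3, 1), (2, 1), (2, 2), (3, 0), (3, 2)],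
  [(0, 0), (0, 1), (1, 0), (1, 1), (2, 0), (2, 2), (0, 2), (2, 1), (3, 2), (1, 2), (3, 1), (3, 0)],
  [(0, 0), (0, 1), (1, 0), (1, 1), (3, 1), (3, 2), (3, 0), (0, 2), (2, 0), (2, 1), (2, 2), (1, 2)],
  [(0, 0), (0, 1), (1, 0), (1, 1), (2, 1), (3, 0), (3, 1), (2, 2), (0, 2), (3, 2), (1, 2), (2, 0)],
  [(0, 0), (0, 1), (1, 0), (1, 1), (2, 2), (2, 0), (1, 2), (3, 0), (3, 1), (0, 2), (3, 2), (2, 1)],
  [(0, 0), (0, 1), (1, 0), (1, 1), (3, 0), (2, 1), (3, 2), (2, 0), (1, 2), (3, 1), (0, 2), (2, 2)],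
  [(0, 0), (0, 1), (1, 0), (1, 1), (3, 2), (3, 1), (2, 1), (1, 2), (2, 2), (3, 0), (2, 0), (0, 2)],
  [(0, 0), (0, 1), (0, 2), (1, 0), (1, 1), (1, 2), (2, 0), (2, 1), (2, 2), (3, 0), (3, 1), (3, 2)],
  [(0, 0), (0, 1), (0, 2), (1, 0), (1, 1), (1, 2), (2, 0), (2, 1), (2, 2), (3, 0), (3, 1), (3, 2)],
  [(0, 0), (0, 1), (0, 2), (1, 0), (1, 1), (1, 2), (2, 0), (2, 1), (2, 2), (3, 0), (3, 1), (3, 2)],
  [(0, 0), (0, 1), (0, 2), (1, 0), (1, 1), (1, 2), (2, 0), (2, 1), (2, 2), (3, 0), (3, 1), (3, 2)],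
  [(0, 0), (0, 1), (0, 2), (1, 1), (1, 0), (1, 2), (3, 1), (3, 0), (3, 2), (2, 1), (2, 0), (2, 2)],
  [(0, 0), (0, 1), (0, 2), (1, 1), (1, 2), (1, 0), (2, 1), (2, 2), (2, 0), (3, 1), (3, 2), (3, 0)],
  [(0, 0), (0, 1), (0, 2), (1, 1), (2, 1), (3, 1), (1, 0), (2, 0), (3, 0), (1, 2), (2, 2), (3, 2)],
  [(0, 0), (0, 1), (0, 2), (1, 1), (2, 2), (3, 0), (3, 2), (1, 0), (2, 1), (2, 0), (3, 1), (1, 2)],
  [(0, 0), (0, 1), (0, 2), (1, 1), (2, 0), (3, 2), (2, 2), (3, 1), (1, 0), (3, 0), (1, 2), (2, 1)],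
  [(0, 0), (0, 1), (0, 2), (1, 1), (3, 1), (2, 1), (1, 2), (3, 2), (2, 2), (1, 0), (3, 0), (2, 0)],
  [(0, 0), (0, 1), (0, 2), (1, 1), (3, 2), (2, 0), (3, 0), (2, 1), (1, 2), (2, 2), (1, 0), (3, 1)],
  [(0, 0), (0, 1), (0, 2), (1, 1), (3, 0), (2, 2), (2, 0), (1, 2), (3, 1), (3, 2), (2, 1), (1, 0)],
  [(0, 0), (0, 1), (0, 2), (1, 0), (1, 1), (1, 2), (2, 0), (2, 1), (2, 2), (3, 0), (3, 1), (3, 2)],
  [(0, 0), (0, 1), (0, 2), (1, 0), (1, 1), (1, 2), (2, 0), (2, 1), (2, 2), (3, 0), (3, 1), (3, 2)],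
  [(0, 0), (0, 1), (0, 2), (1, 0), (1, 1), (1, 2), (2, 0), (2, 1), (2, 2), (3, 0), (3, 1), (3, 2)],
  [(0, 0), (0, 1), (0, 2), (1, 0), (1, 1), (1, 2), (2, 0), (2, 1), (2, 2), (3, 0), (3, 1), (3, 2)],
  [(0, 0), (0, 1), (0, 2), (1, 0), (1, 1), (1, 2), (2, 0), (2, 1), (2, 2), (3, 0), (3, 1), (3, 2)],
  [(0, 0), (0, 1), (0, 2), (1, 0), (1, 2), (1, 1), (3, 0), (3, 2), (3, 1), (2, 0), (2, 2), (2, 1)],
  [(0, 0), (0, 1), (0, 2), (1, 0), (3, 0), (2, 0), (1, 1), (3, 1), (2, 1), (1, 2), (3, 2), (2, 2)],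
  [(0, 0), (0, 1), (0, 2), (1, 0), (3, 2), (2, 1), (2, 2), (1, 1), (3, 0), (3, 1), (2, 0), (1, 2)],
  [(0, 0), (0, 1), (0, 2), (1, 0), (3, 1), (2, 2), (3, 2), (2, 0), (1, 1), (2, 1), (1, 2), (3, 0)],
  [(0, 0), (0, 1), (0, 2), (1, 0), (2, 0), (3, 0), (1, 2), (2, 2), (3, 2), (1, 1), (2, 1), (3, 1)],
  [(0, 0), (0, 1), (0, 2), (1, 0), (2, 2), (3, 1), (2, 1), (3, 0), (1, 2), (3, 2), (1, 1), (2, 0)],
  [(0, 0), (0, 1), (0, 2), (1, 0), (2, 1), (3, 2), (3, 1), (1, 2), (2, 0), (2, 2), (3, 0), (1, 1)]]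

def tS : List (List Bool) := [
  [false, false, false, false, false, false, false, false, false, false, false, false],
  [false, false, false, false, false, false, false, false, false, false, false, false],
  [false, false, false, false, false, false, false, false, false, false, false, false],
  [false, false, true, true, false, false, true, true, false, true, false, true],
  [false, false, true, false, true, false, false, true, true, true, true, false],
  [false, false, true, false, false, true, true, false, true, false, true, true],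
  [false, true, false, false, true, false, true, true, true, false, false, true],
  [false, true, true, true, true, false, false, false, false, false, true, true],
  [false, false, false, true, false, false, true, true, false, false, true, false],
  [false, true, false, false, false, true, false, true, false, true, true, true],
  [false, false, false, true, false, false, false, false, true, true, false, true],
  [false, true, true, true, false, true, false, true, true, false, false, false],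
  [false, false, false, false, false, false, false, false, false, false, false, false],
  [false, false, false, false, false, false, false, false, false, false, false, false],
  [false, false, false, false, false, false, false, false, false, false, false, false],
  [false, false, true, true, false, false, true, true, false, true, false, true],
  [false, false, true, false, true, false, false, true, true, true, true, false],
  [false, false, true, false, false, true, true, false, true, false, true, true],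
  [false, true, false, false, true, false, true, true, true, false, false, true],
  [false, true, true, true, true, false, false, false, false, false, true, true],
  [false, false, false, true, false, false, true, true, false, false, true, false],
  [false, true, false, false, false, true, false, true, false, true, true, true],
  [false, false, false, true, false, false, false, false, true, true, false, true],
  [false, true, true, true, false, true, false, true, true, false, false, false],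
  [false, false, false, false, false, false, false, false, false, false, false, false],
  [false, false, false, false, false, false, false, false, false, false, false, false],
  [false, false, false, false, false, false, false, false, false, false, false, false],
  [false, false, true, true, false, false, true, true, false, true, false, true],
  [false, false, true, false, true, false, false, true, true, true, true, false],
  [false, false, true, false, false, true, true, false, true, false, true, true],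
  [false, true, false, false, true, false, true, true, true, false, false, true],
  [false, true, true, true, true, false, false, false, false, false, true, true],
  [false, false, false, true, false, false, true, true, false, false, true, false],
  [false, true, false, false, false, true, false, true, false, true, true, true],
  [false, false, false, true, false, false, false, false, true, true, false, true],
  [false, true, true, true, false, true, false, true, true, false, false, false],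
  [false, false, false, false, false, false, false, false, false, false, false, false],
  [false, false, false, false, false, false, false, false, false, false, false, false],
  [false, false, false, false, false, false, false, false, false, false, false, false],
  [false, false, false, false, false, false, false, false, false, false, false, false],
  [false, false, false, false, false, false, false, false, false, false, false, false],
  [false, false, false, false, false, false, false, false, false, false, false, false],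
  [false, true, true, false, false, false, false, false, false, false, false, false],
  [false, true, false, true, true, true, true, true, true, true, true, true],
  [false, false, true, true, true, true, true, true, true, true, true, true],
  [false, true, true, false, false, false, false, false, false, false, false, false],
  [false, false, true, true, true, true, true, true, true, true, true, true],
  [false, true, false, true, true, true, true, true, true, true, true, true],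
  [false, false, false, false, false, false, false, false, false, false, false, false],
  [false, false, false, false, false, false, false, false, false, false, false, false],
  [false, false, false, false, false, false, false, false, false, false, false, false],
  [false, false, false, false, false, false, false, false, false, false, false, false],
  [false, false, false, false, false, false, false, false, false, false, false, false],
  [false, false, false, false, false, false, false, false, false, false, false, false],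
  [false, true, true, false, false, false, false, false, false, false, false, false],
  [false, true, false, true, true, true, true, true, true, true, true, true],
  [false, false, true, true, true, true, true, true, true, true, true, true],
  [false, true, true, false, false, false, false, false, false, false, false, false],
  [false, false, true, true, true, true, true, true, true, true, true, true],
  [false, true, false, true, true, true, true, true, true, true, true, true]]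

def fF (i : Fin 5) (t : ArrayPt) : ArrayPt → ArrayPt := ptL (tF.getD (12 * i.val + idx t) [])
def fB (i : Fin 5) (t : ArrayPt) : ArrayPt → ArrayPt := ptL (tB.getD (12 * i.val + idx t) [])
def fS (i : Fin 5) (t : ArrayPt) : ArrayPt → (ZMod 3)ˣ := sgL (tS.getD (12 * i.val + idx t) [])

theorem fB_fF : ∀ (i : Fin 5) (t x : ArrayPt), fB i t (fF i t x) = x := by decide +kernel

theorem fF_fB : ∀ (i : Fin 5) (t x : ArrayPt), fF i t (fB i t x) = x := by decide +kernel

/-- the table entries as permutations -/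
def prm (i : Fin 5) (t : ArrayPt) : Equiv.Perm ArrayPt where
  toFun := fF i t
  invFun := fB i t
  left_inv := fB_fF i t
  right_inv := fF_fB i t

/-- the base points -/
def bs : Fin 5 → ArrayPt := ![(0, 0), (0, 1), (0, 2), (1, 0), (1, 1)]

theorem bs_injective : Function.Injective bs := by decide +kernel

theorem tbl_spec : ∀ (i : Fin 5) (t : ArrayPt), (∀ j : Fin 5, j < i → t ≠ bs j) →
    fF i t (bs i) = t ∧ ∀ j : Fin 5, j < i → fF i t (bs j) = bs j := by decide +kernel

theorem tbl_isW : ∀ (i : Fin 5) (t : ArrayPt) (j : Fin 6),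
    isW (fun p => ((fS i t p : (ZMod 3)ˣ) : ZMod 3) * G j (fB i t p)) := by decide +kernel

end Cfsg.Agent.Lib.Helper28.TGolay
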